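import Mathlib.Algebra.Homology.DerivedCategory.ExactFunctor
import Mathlib.Algebra.Homology.DerivedCategory.Plus
import Mathlib.Algebra.Homology.DerivedCategory.KInjective
import Mathlib.Algebra.Homology.Factorizations.CM5a
import Mathlib.CategoryTheory.Preadditive.Injective.Basic
import Groth.Agent.DerAdj43.Basic

/-!
Full faithfulness on bounded below derived categories of an exact left adjoint, in terms of
resolutions.
-/

set_option autoImplicit false
set_option linter.unusedSectionVars false
universe w₁ w₂ w₃ w₄ v₁ v₂ v₃ v₄ u₁ u₂ u₃ u₄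

namespace Groth.Agent.Desc45

open CategoryTheory CategoryTheory.Limits

variable {C : Type u₁} [Category.{v₁} C] [Abelian C] [HasDerivedCategory.{w₁} C]
  {T : Type u₂} [Category.{v₂} T] [Abelian T] [HasDerivedCategory.{w₂} T]

/-- The complex level functor of an additive functor. -/
abbrev cx {C : Type u₁} [Category.{v₁} C] [Abelian C] {T : Type u₂} [Category.{v₂} T] [Abelian T]
    (F : C ⥤ T) [F.Additive] : CochainComplex C ℤ ⥤ CochainComplex T ℤ :=
  F.mapHomologicalComplex (ComplexShape.up ℤ)

theorem isStrictlyGE_cx {C : Type u₁} [Category.{v₁} C] [Abelian C] {T : Type u₂} [Category.{v₂} T]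
    [Abelian T] (F : C ⥤ T) [F.Additive] (K : CochainComplex C ℤ) (a : ℤ) [K.IsStrictlyGE a] :
    ((cx F).obj K).IsStrictlyGE a := by
  rw [CochainComplex.isStrictlyGE_iff]
  exact fun n hn => F.map_isZero (K.isZero_of_isStrictlyGE a n hn)

/-- A bounded below complex has an injective resolution. -/
theorem exists_res [EnoughInjectives C] (K : CochainComplex C ℤ) (a : ℤ) [K.IsStrictlyGE a] :
    ∃ (I : CochainComplex C ℤ) (_ : I.IsStrictlyGE a) (_ : I.IsKInjective) (t : K ⟶ I),
      (∀ n, Injective (I.X n)) ∧ QuasiIso t := by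
  obtain ⟨I, t, h1, h2, h3⟩ := CochainComplex.Plus.modelCategoryQuillen.exists_quasiIso_injective K a
  exact ⟨I, h3, CochainComplex.isKInjective_of_injective I a, t, h2, h1⟩

theorem Q_surj {K I : CochainComplex C ℤ} [I.IsKInjective]
    (g : DerivedCategory.Q.obj K ⟶ DerivedCategory.Q.obj I) :
    ∃ f : K ⟶ I, DerivedCategory.Q.map f = g := by
  obtain ⟨β, hβ⟩ := (CochainComplex.IsKInjective.Qh_map_bijective _ I).2
    ((DerivedCategory.quotientCompQhIso C).hom.app K ≫ g ≫
      (DerivedCategory.quotientCompQhIso C).inv.app I)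
  obtain ⟨f, rfl⟩ := (HomotopyCategory.quotient C (ComplexShape.up ℤ)).map_surjective β
  refine ⟨f, ?_⟩
  rw [← cancel_epi ((DerivedCategory.quotientCompQhIso C).hom.app K),
    ← NatIso.naturality_1 (DerivedCategory.quotientCompQhIso C) f]
  simp [hβ]

theorem Q_eq {K I : CochainComplex C ℤ} [I.IsKInjective] {f g : K ⟶ I}
    (h : DerivedCategory.Q.map f = DerivedCategory.Q.map g) :
    (HomotopyCategory.quotient C (ComplexShape.up ℤ)).map f =
      (HomotopyCategory.quotient C (ComplexShape.up ℤ)).map g := by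
  apply (CochainComplex.IsKInjective.Qh_map_bijective _ I).1
  have e1 := NatIso.naturality_2 (DerivedCategory.quotientCompQhIso C) f
  have e2 := NatIso.naturality_2 (DerivedCategory.quotientCompQhIso C) g
  rw [h] at e1
  exact e1.symm.trans e2

theorem Q_eq_of_quotient {K I : CochainComplex C ℤ} {f g : K ⟶ I}
    (h : (HomotopyCategory.quotient C (ComplexShape.up ℤ)).map f =
      (HomotopyCategory.quotient C (ComplexShape.up ℤ)).map g) :
    DerivedCategory.Q.map f = DerivedCategory.Q.map g :=
  DerivedCategory.Q_map_eq_of_homotopy _ (HomotopyCategory.homotopyOfEq _ _ h)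

section map

variable (F : C ⥤ T) [F.Additive] [PreservesFiniteLimits F] [PreservesFiniteColimits F]

/-- The action of an exact functor on morphisms between images of complexes. -/
noncomputable def dmap {K M : CochainComplex C ℤ}
    (g : DerivedCategory.Q.obj K ⟶ DerivedCategory.Q.obj M) :
    DerivedCategory.Q.obj ((cx F).obj K) ⟶ DerivedCategory.Q.obj ((cx F).obj M) :=
  F.mapDerivedCategoryFactors.inv.app K ≫ F.mapDerivedCategory.map g ≫
    F.mapDerivedCategoryFactors.hom.app M

theorem dmap_Q {K M : CochainComplex C ℤ} (f : K ⟶ M) :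
    dmap F (DerivedCategory.Q.map f) = DerivedCategory.Q.map ((cx F).map f) :=
  NatIso.naturality_1 F.mapDerivedCategoryFactors f

theorem dmap_comp {K M N : CochainComplex C ℤ}
    (g : DerivedCategory.Q.obj K ⟶ DerivedCategory.Q.obj M)
    (g' : DerivedCategory.Q.obj M ⟶ DerivedCategory.Q.obj N) :
    dmap F (g ≫ g') = dmap F g ≫ dmap F g' := by
  simp [dmap]

theorem dmap_id (K : CochainComplex C ℤ) : dmap F (𝟙 (DerivedCategory.Q.obj K)) = 𝟙 _ := by
  rw [← DerivedCategory.Q.map_id, dmap_Q, CategoryTheory.Functor.map_id,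
    CategoryTheory.Functor.map_id]

theorem dmap_bijective_iff (K M : CochainComplex C ℤ) :
    Function.Bijective (dmap F (K := K) (M := M)) ↔
      Function.Bijective (F.mapDerivedCategory.map
        (X := DerivedCategory.Q.obj K) (Y := DerivedCategory.Q.obj M)) := by
  let e : (F.mapDerivedCategory.obj (DerivedCategory.Q.obj K) ⟶
      F.mapDerivedCategory.obj (DerivedCategory.Q.obj M)) ≃
      (DerivedCategory.Q.obj ((cx F).obj K) ⟶ DerivedCategory.Q.obj ((cx F).obj M)) :=
    (F.mapDerivedCategoryFactors.app K).homCongr (F.mapDerivedCategoryFactors.app M)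
  exact ⟨fun h => (Function.Bijective.of_comp_iff' e.bijective _).1 h,
    fun h => e.bijective.comp h⟩

/-- `F` is fully faithful on bounded below derived categories. -/
def FF : Prop :=
  ∀ K M : DerivedCategory.Plus C,
    Function.Bijective fun g : K.obj ⟶ M.obj => F.mapDerivedCategory.map g

theorem exists_Q_iso (K : DerivedCategory.Plus C) :
    ∃ (K₀ : CochainComplex C ℤ) (a : ℤ) (_ : K₀.IsStrictlyGE a),
      Nonempty (K.obj ≅ DerivedCategory.Q.obj K₀) := by
  obtain ⟨K₁, ⟨e⟩⟩ := Functor.EssSurj.mem_essImage (F := DerivedCategory.Plus.Qh (C := C)) K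
  obtain ⟨K₂, rfl⟩ := HomotopyCategory.Plus.quotient_obj_surjective K₁
  obtain ⟨a, ha⟩ := K₂.property
  exact ⟨K₂.obj, a, ha, ⟨(DerivedCategory.Plus.ι.mapIso e).symm ≪≫
    (DerivedCategory.quotientCompQhIso C).app K₂.obj⟩⟩

theorem plus_Q (K₀ : CochainComplex C ℤ) (a : ℤ) [K₀.IsStrictlyGE a] :
    DerivedCategory.TStructure.t.plus (DerivedCategory.Q.obj K₀) := by
  refine ⟨a, ?_⟩
  exact (inferInstance : (DerivedCategory.Q.obj K₀).IsGE a)

theorem bijective_map_of_iso {K K' M M' : DerivedCategory C} (e : K ≅ K') (e' : M ≅ M')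
    (h : Function.Bijective (F.mapDerivedCategory.map (X := K') (Y := M'))) :
    Function.Bijective (F.mapDerivedCategory.map (X := K) (Y := M)) := by
  let a := e.homCongr e'
  let b := (F.mapDerivedCategory.mapIso e).homCongr (F.mapDerivedCategory.mapIso e')
  have : F.mapDerivedCategory.map (X := K) (Y := M) =
      b.symm ∘ F.mapDerivedCategory.map ∘ a := by
    funext g
    simp [a, b, Iso.homCongr]
  rw [this]
  exact b.symm.bijective.comp (h.comp a.bijective)

theorem FF_iff : FF F ↔ ∀ (K M : CochainComplex C ℤ) (a : ℤ) [K.IsStrictlyGE a]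
    [M.IsStrictlyGE a], Function.Bijective (dmap F (K := K) (M := M)) := by
  constructor
  · intro h K M a _ _
    rw [dmap_bijective_iff]
    exact h ⟨_, plus_Q K a⟩ ⟨_, plus_Q M a⟩
  · intro h K M
    obtain ⟨K₀, a, _, ⟨e⟩⟩ := exists_Q_iso K
    obtain ⟨M₀, b, _, ⟨e'⟩⟩ := exists_Q_iso M
    refine bijective_map_of_iso F e e' ((dmap_bijective_iff F _ _).1 ?_)
    have := K₀.isStrictlyGE_of_ge (min a b) a (min_le_left a b)
    have := M₀.isStrictlyGE_of_ge (min a b) b (min_le_right a b)
    exact h K₀ M₀ (min a b)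

end map

section adj

variable {L : C ⥤ T} {R : T ⥤ C} (adj : L ⊣ R) [L.Additive] [R.Additive]

/-- The transpose on complexes. -/
noncomputable def tr {G : CochainComplex C ℤ} {J : CochainComplex T ℤ} (s : (cx L).obj G ⟶ J) :
    G ⟶ (cx R).obj J :=
  (DerAdj43.complexAdj adj (ComplexShape.up ℤ)).homEquiv G J s

theorem tr_f {G : CochainComplex C ℤ} {J : CochainComplex T ℤ} (s : (cx L).obj G ⟶ J) (n : ℤ) :
    (tr adj s).f n = adj.unit.app (G.X n) ≫ R.map (s.f n) := rfl

theorem tr_natural {G G' : CochainComplex C ℤ} {J : CochainComplex T ℤ} (f : G' ⟶ G)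
    (s : (cx L).obj G ⟶ J) : tr adj ((cx L).map f ≫ s) = f ≫ tr adj s :=
  (DerAdj43.complexAdj adj (ComplexShape.up ℤ)).homEquiv_naturality_left f s

/-- Transposes respect homotopy. -/
theorem tr_homotopic {G : CochainComplex C ℤ} {J : CochainComplex T ℤ} {s s' : (cx L).obj G ⟶ J}
    (h : (HomotopyCategory.quotient T (ComplexShape.up ℤ)).map s =
      (HomotopyCategory.quotient T (ComplexShape.up ℤ)).map s') :
    (HomotopyCategory.quotient C (ComplexShape.up ℤ)).map (tr adj s) =
      (HomotopyCategory.quotient C (ComplexShape.up ℤ)).map (tr adj s') :=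
  HomotopyCategory.eq_of_homotopy _ _
    ((R.mapHomotopy (HomotopyCategory.homotopyOfEq _ _ h)).compLeft _)

theorem homotopic_of_tr {G : CochainComplex C ℤ} {J : CochainComplex T ℤ} {s s' : (cx L).obj G ⟶ J}
    (h : (HomotopyCategory.quotient C (ComplexShape.up ℤ)).map (tr adj s) =
      (HomotopyCategory.quotient C (ComplexShape.up ℤ)).map (tr adj s')) :
    (HomotopyCategory.quotient T (ComplexShape.up ℤ)).map s =
      (HomotopyCategory.quotient T (ComplexShape.up ℤ)).map s' := by
  let cA := DerAdj43.complexAdj adj (ComplexShape.up ℤ)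
  have e : ∀ t : (cx L).obj G ⟶ J, (cx L).map (tr adj t) ≫ cA.counit.app J = t := fun t =>
    (cA.homEquiv G J).symm_apply_apply t |>.symm.trans (by rw [Adjunction.homEquiv_counit]; rfl) |>.symm
  rw [← e s, ← e s']
  exact HomotopyCategory.eq_of_homotopy _ _
    ((L.mapHomotopy (HomotopyCategory.homotopyOfEq _ _ h)).compRight _)

/-- For all bounded below complexes and resolutions of their images the transpose is a
quasi-isomorphism: the unit of the derived adjunction is an isomorphism. -/
def UQ : Prop :=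
  ∀ (G : CochainComplex C ℤ) (a : ℤ) [G.IsStrictlyGE a] (J : CochainComplex T ℤ) (b : ℤ)
    [J.IsStrictlyGE b], (∀ n, Injective (J.X n)) → ∀ s : (cx L).obj G ⟶ J,
      QuasiIso s → QuasiIso (tr adj s)

variable [PreservesFiniteLimits L] [PreservesFiniteColimits L]

include adj in
theorem isKInjective_push (J : CochainComplex T ℤ) (b : ℤ) [J.IsStrictlyGE b]
    (hJ : ∀ n, Injective (J.X n)) [L.PreservesMonomorphisms] :
    ((cx R).obj J).IsKInjective := by
  have := isStrictlyGE_cx R J b
  have : ∀ n, Injective (((cx R).obj J).X n) := fun n => adj.map_injective _ (hJ n)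
  exact CochainComplex.isKInjective_of_injective _ b

include adj in
theorem FF_of_UQ [EnoughInjectives C] [EnoughInjectives T] (h : UQ adj) : FF L := by
  rw [FF_iff]
  intro K M a _ _
  obtain ⟨I, _, _, t, hI, ht⟩ := exists_res M a
  suffices H : Function.Bijective (dmap L (K := K) (M := I)) by
    have hc : ∀ g : DerivedCategory.Q.obj K ⟶ DerivedCategory.Q.obj M,
        dmap L (g ≫ DerivedCategory.Q.map t) =
          dmap L g ≫ DerivedCategory.Q.map ((cx L).map t) := fun g => by
      rw [dmap_comp, dmap_Q]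
    refine ⟨fun g g' e => (cancel_mono (DerivedCategory.Q.map t)).1 (H.1 ?_), fun g => ?_⟩
    · rw [hc, hc, e]
    · obtain ⟨g', e⟩ := H.2 (g ≫ DerivedCategory.Q.map ((cx L).map t))
      refine ⟨g' ≫ inv (DerivedCategory.Q.map t), (cancel_mono (DerivedCategory.Q.map ((cx L).map t))).1 ?_⟩
      rw [← hc, Category.assoc, IsIso.inv_hom_id, Category.comp_id, e]
  have := isStrictlyGE_cx L I a
  obtain ⟨J, _, _, s, hJ, hs⟩ := exists_res ((cx L).obj I) a
  have := isKInjective_push adj J a hJ
  have : QuasiIso (tr adj s) := h I a J a hJ s hs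
  refine ⟨fun g g' e => ?_, fun g => ?_⟩
  · obtain ⟨f, rfl⟩ := Q_surj g
    obtain ⟨f', rfl⟩ := Q_surj g'
    rw [dmap_Q, dmap_Q] at e
    have e1 : DerivedCategory.Q.map ((cx L).map f ≫ s) =
        DerivedCategory.Q.map ((cx L).map f' ≫ s) := by
      rw [Functor.map_comp, Functor.map_comp, e]
    have e2 := Q_eq_of_quotient (tr_homotopic adj (Q_eq e1))
    rw [tr_natural, tr_natural, Functor.map_comp, Functor.map_comp] at e2
    exact (cancel_mono (DerivedCategory.Q.map (tr adj s))).1 e2
  · obtain ⟨k, hk⟩ := Q_surj (g ≫ DerivedCategory.Q.map s)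
    obtain ⟨f, hf⟩ := Q_surj (DerivedCategory.Q.map (tr adj k) ≫
      inv (DerivedCategory.Q.map (tr adj s)))
    refine ⟨DerivedCategory.Q.map f, ?_⟩
    rw [dmap_Q]
    have e : DerivedCategory.Q.map (f ≫ tr adj s) = DerivedCategory.Q.map (tr adj k) := by
      rw [Functor.map_comp, hf, Category.assoc, IsIso.inv_hom_id, Category.comp_id]
    rw [← tr_natural] at e
    have e2 := Q_eq_of_quotient (homotopic_of_tr adj (Q_eq e))
    rw [Functor.map_comp, hk] at e2
    exact (cancel_mono (DerivedCategory.Q.map s)).1 e2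

include adj in
theorem UQ_of_FF [EnoughInjectives C] (h : FF L) : UQ adj := by
  intro G a _ J b _ hJ s hs
  rw [FF_iff] at h
  have := CochainComplex.isKInjective_of_injective J b
  have := isKInjective_push adj J b hJ
  have := isStrictlyGE_cx R J b
  have := G.isStrictlyGE_of_ge (min a b) a (min_le_left a b)
  have := ((cx R).obj J).isStrictlyGE_of_ge (min a b) b (min_le_right a b)
  let ε : (cx L).obj ((cx R).obj J) ⟶ J := (DerAdj43.complexAdj adj (ComplexShape.up ℤ)).counit.app J
  obtain ⟨g, hg⟩ := (h ((cx R).obj J) G (min a b)).2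
    (DerivedCategory.Q.map ε ≫ inv (DerivedCategory.Q.map s))
  have htr : ∀ {G' : CochainComplex C ℤ} (f : G' ⟶ (cx R).obj J),
      tr adj ((cx L).map f ≫ ε) = f := fun {G'} f => by
    have := ((DerAdj43.complexAdj adj (ComplexShape.up ℤ)).homEquiv G' J).apply_symm_apply f
    rw [Adjunction.homEquiv_counit] at this
    exact this
  have hs' : DerivedCategory.Q.map ((cx L).map (tr adj s) ≫ ε) = DerivedCategory.Q.map s := by
    congr 1
    exact ((DerAdj43.complexAdj adj (ComplexShape.up ℤ)).homEquiv G J).injective (htr (tr adj s))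
  rw [← DerivedCategory.isIso_Q_map_iff_quasiIso]
  refine ⟨g, (h G G (min a b)).1 ?_, ?_⟩
  · rw [dmap_comp, hg, dmap_Q, dmap_id, ← Category.assoc, ← Functor.map_comp, hs',
      IsIso.hom_inv_id]
  · obtain ⟨f, hf⟩ := Q_surj (g ≫ DerivedCategory.Q.map (tr adj s))
    rw [← hf]
    have e : DerivedCategory.Q.map ((cx L).map f ≫ ε) = DerivedCategory.Q.map ε := by
      rw [Functor.map_comp, ← dmap_Q, hf, dmap_comp, hg, dmap_Q, Category.assoc,
        ← Functor.map_comp, hs', Category.assoc, IsIso.inv_hom_id, Category.comp_id]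
    have e3 : DerivedCategory.Q.map ((cx L).map f ≫ ε) =
        DerivedCategory.Q.map ((cx L).map (𝟙 _) ≫ ε) := by
      rw [e, CategoryTheory.Functor.map_id, Category.id_comp]
    have e4 := Q_eq_of_quotient (tr_homotopic adj (Q_eq e3))
    rw [htr, htr, DerivedCategory.Q.map_id] at e4
    exact e4

end adj

end Groth.Agent.Desc45
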