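import Groth.Agent.Desc45.Transfer
import Mathlib.Algebra.Homology.HomotopyCategory.Acyclic
import Mathlib.Algebra.Homology.HomotopyCategory.MappingCone
import Mathlib.Algebra.Homology.HomotopyCategory.Pretriangulated

/-!
Left exact functors on bounded below complexes of objects of an acyclic class, and transfer of
quasi-isomorphisms along restrictions with acyclic values.
-/

set_option autoImplicit false
set_option linter.unusedSectionVars false
universe w₁ w₂ w₃ w₄ v₁ v₂ v₃ v₄ u₁ u₂ u₃ u₄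

namespace Groth.Agent.Desc45

open CategoryTheory CategoryTheory.Limits DerivedCategory
open scoped ZeroObject

variable {A : Type u₁} [Category.{v₁} A] [Abelian A] {B : Type u₂} [Category.{v₂} B] [Abelian B]
  (R : A ⥤ B) [R.Additive]

/-- A class of objects acyclic for a left exact functor. -/
structure AcyclicClass where
  P : A → Prop
  of_isZero : ∀ X, IsZero X → P X
  of_injective : ∀ X, Injective X → P X
  biprod : ∀ X Y, P X → P Y → P (X ⊞ Y)
  X₃ : ∀ {S : ShortComplex A}, S.ShortExact → P S.X₁ → P S.X₂ → P S.X₃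
  epi : ∀ {S : ShortComplex A}, S.ShortExact → P S.X₁ → Epi (R.map S.g)

variable {R}

theorem quasiIso_iff_cone {C : Type u₁} [Category.{v₁} C] [Abelian C] {K L : CochainComplex C ℤ}
    (φ : K ⟶ L) : QuasiIso φ ↔ (CochainComplex.mappingCone φ).Acyclic := by
  have h := (HomotopyCategory.subcategoryAcyclic C).trW_iff_of_distinguished _
    (HomotopyCategory.mappingCone_triangleh_distinguished φ)
  rw [← HomotopyCategory.quasiIso_eq_trW_subcategoryAcyclic] at h
  rw [← HomologicalComplex.mem_quasiIso_iff, ← HomotopyCategory.quotient_map_mem_quasiIso_iff]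
  exact h.trans (HomotopyCategory.quotient_obj_mem_subcategoryAcyclic_iff_exactAt _)

namespace AcyclicClass

variable (c : AcyclicClass R) [PreservesFiniteLimits R]

theorem acyclic_map (K : CochainComplex A ℤ) (a : ℤ) [K.IsStrictlyGE a] (hK : K.Acyclic)
    (hP : ∀ n, c.P (K.X n)) : ((R.mapHomologicalComplex (ComplexShape.up ℤ)).obj K).Acyclic := by
  let T : ℤ → ShortComplex A := fun n =>
    ShortComplex.mk (K.iCycles n) (K.toCycles n (n + 1)) (by
      rw [← cancel_mono (K.iCycles (n + 1)), Category.assoc, HomologicalComplex.toCycles_i,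
        HomologicalComplex.iCycles_d, zero_comp])
  have hker : ∀ n, (T n).Exact ∧ Mono (T n).f := fun n => by
    refine ⟨?_, inferInstanceAs (Mono (K.iCycles n))⟩
    refine ShortComplex.exact_of_f_is_kernel _ (KernelFork.IsLimit.ofι _ _ (fun g hg => K.liftCycles g (n + 1) (by simp) (by
      rw [← K.toCycles_i n (n + 1), ← Category.assoc, hg, zero_comp]))
      (fun g hg => K.liftCycles_i _ _ _ _) (fun g hg b hb => by
        rw [← cancel_mono (K.iCycles n), K.liftCycles_i]; exact hb))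
  have hT : ∀ n, (T n).ShortExact := fun n => by
    have hm := (hker n).2
    have : Epi (T n).g := by
      have h := hK (n + 1)
      rw [HomologicalComplex.exactAt_iff_isZero_homology] at h
      exact Preadditive.epi_of_isZero_cokernel' _ (K.homologyIsCokernel n (n + 1) (by simp)) h
    exact { exact := (hker n).1, mono_f := hm, epi_g := this }
  have hZ : ∀ (m : ℕ) (n : ℤ), n ≤ a + m → c.P (K.cycles n) := by
    intro m
    induction m with
    | zero =>
      intro n hn
      refine c.of_isZero _ ?_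
      rcases lt_or_eq_of_le (show n ≤ a by simpa using hn) with h | h
      · exact (K.isZero_of_isStrictlyGE a n h).of_mono (K.iCycles n)
      · subst h
        have := (hT (n - 1)).epi_g
        have h0 : IsZero (K.cycles (n - 1 + 1)) :=
          IsZero.of_epi (T (n - 1)).g (K.isZero_of_isStrictlyGE n (n - 1) (by lia))
        rwa [sub_add_cancel] at h0
    | succ m ih =>
      intro n hn
      have h1 := c.X₃ (hT (n - 1)) (ih (n - 1) (by push_cast at hn; lia)) (hP (n - 1))
      change c.P (K.cycles (n - 1 + 1)) at h1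
      rwa [sub_add_cancel] at h1
  have hPZ : ∀ n, c.P (K.cycles n) := fun n => hZ (n - a).toNat n (by lia)
  intro n
  obtain ⟨i, rfl⟩ : ∃ i, n = i + 1 := ⟨n - 1, by lia⟩
  rw [HomologicalComplex.exactAt_iff' _ i (i + 1) (i + 1 + 1) (by simp) (by simp)]
  let S₁ : ShortComplex A := ShortComplex.mk (K.iCycles (i + 1)) (K.d (i + 1) (i + 1 + 1))
    (K.iCycles_d _ _)
  have hS₁ : S₁.Exact ∧ Mono S₁.f := by
    refine ⟨?_, inferInstanceAs (Mono (K.iCycles (i + 1)))⟩
    exact ShortComplex.exact_of_f_is_kernel _ (K.cyclesIsKernel (i + 1) (i + 1 + 1) (by simp))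
  have h2 : (S₁.map R).Exact := hS₁.1.map_of_mono_of_preservesKernel R hS₁.2 inferInstance
  have := c.epi (hT i) (hPZ i)
  let φ : (((R.mapHomologicalComplex (ComplexShape.up ℤ)).obj K).sc' i (i + 1) (i + 1 + 1)) ⟶
      S₁.map R :=
    { τ₁ := R.map (K.toCycles i (i + 1))
      τ₂ := 𝟙 _
      τ₃ := 𝟙 _
      comm₁₂ := by
        change R.map _ ≫ R.map _ = R.map (K.d i (i + 1)) ≫ 𝟙 _
        rw [← R.map_comp, K.toCycles_i, Category.comp_id]
      comm₂₃ := (Category.id_comp _).trans (Category.comp_id _).symm }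
  have : Epi φ.τ₁ := ‹Epi (R.map _)›
  have : IsIso φ.τ₂ := inferInstanceAs (IsIso (𝟙 _))
  have : Mono φ.τ₃ := inferInstanceAs (Mono (𝟙 _))
  exact (ShortComplex.exact_iff_of_epi_of_isIso_of_mono φ).2 h2

/-- Left exact functors preserve quasi-isomorphisms between bounded below acyclic complexes. -/
theorem quasiIso_map {K L : CochainComplex A ℤ} (f : K ⟶ L) [QuasiIso f] (a : ℤ)
    [K.IsStrictlyGE a] [L.IsStrictlyGE a] (hK : ∀ n, c.P (K.X n)) (hL : ∀ n, Injective (L.X n)) :
    QuasiIso ((cx R).map f) := by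
  rw [quasiIso_iff_cone]
  let C := CochainComplex.mappingCone f
  let bX : ∀ n, C.X n ≅ K.X (n + 1) ⊞ L.X n := fun n =>
    (HomologicalComplex.homotopyCofiber.XIsoBiprod f n (n + 1) rfl)
  have hC : C.IsStrictlyGE (a - 1) := by
    rw [CochainComplex.isStrictlyGE_iff]
    intro i hi
    refine IsZero.of_iso ?_ (bX i)
    exact biprod_isZero_iff _ _ |>.2 ⟨K.isZero_of_isStrictlyGE a _ (by lia),
      L.isZero_of_isStrictlyGE a _ (by lia)⟩
  have hP : ∀ n, c.P (C.X n) := fun n => by
    let b := (bX n).inv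
    let S : ShortComplex A := ShortComplex.mk (0 : (0 : A) ⟶ K.X (n + 1) ⊞ L.X n) b zero_comp
    have hS : S.ShortExact :=
      { exact := (ShortComplex.exact_iff_mono _ rfl).2 inferInstance
        mono_f := ⟨fun {_} g h _ => (isZero_zero A).eq_of_tgt _ _⟩
        epi_g := inferInstance }
    exact c.X₃ hS (c.of_isZero _ (isZero_zero A)) (c.biprod _ _ (hK _) (c.of_injective _ (hL n)))
  exact fun n => HomologicalComplex.ExactAt.of_iso
    (c.acyclic_map C (a - 1) ((quasiIso_iff_cone f).1 inferInstance) hP n)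
    (CochainComplex.mappingCone.mapHomologicalComplexIso f R)

end AcyclicClass

section restrict

variable {C : Type u₁} [Category.{v₁} C] [Abelian C] [HasDerivedCategory.{w₁} C]
  {T : Type u₂} [Category.{v₂} T] [Abelian T] [HasDerivedCategory.{w₂} T]
  {U : Type u₃} [Category.{v₃} U] [Abelian U] [HasDerivedCategory.{w₃} U] [EnoughInjectives U]
  {C₀ : Type u₄} [Category.{v₄} C₀] [Abelian C₀] [HasDerivedCategory.{w₄} C₀]
  {L : C ⥤ T} {R₁ : T ⥤ C} {adj : L ⊣ R₁} [L.Additive] [R₁.Additive]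
  [PreservesFiniteLimits L] [PreservesFiniteColimits L]
  {L₀ : C₀ ⥤ U} {R₀ : U ⥤ C₀} {adj₀ : L₀ ⊣ R₀} [L₀.Additive] [R₀.Additive]
  [PreservesFiniteLimits L₀] [PreservesFiniteColimits L₀] [PreservesFiniteLimits R₀]
  {r : T ⥤ U} [r.Additive] [PreservesFiniteLimits r] [PreservesFiniteColimits r]
  {r' : C ⥤ C₀} [r'.Additive] [PreservesFiniteLimits r'] [PreservesFiniteColimits r']

/-- Transfer along a restriction whose values on injectives are only acyclic. -/
theorem quasiIso_restrict_of_acyclic (c : AcyclicClass R₀) {κ : R₁ ⋙ r' ⟶ r ⋙ R₀}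
    (hκ : ∀ J : T, Injective J → IsIso (κ.app J) ∧ c.P (r.obj J))
    (hθ' : ∀ G : C, IsIso ((adj₀.homEquiv _ _).symm (r'.map (adj.unit.app G) ≫ κ.app (L.obj G))))
    (h : UQ adj₀) (G : CochainComplex C ℤ) (a : ℤ) [G.IsStrictlyGE a] (J : CochainComplex T ℤ)
    (b : ℤ) [J.IsStrictlyGE b] (hJ : ∀ n, Injective (J.X n)) (s : (cx L).obj G ⟶ J)
    (hs : QuasiIso s) : QuasiIso ((cx r').map (tr adj s)) := by
  let θ : ∀ X : C, L₀.obj (r'.obj X) ⟶ r.obj (L.obj X) := fun X =>
    (adj₀.homEquiv _ _).symm (r'.map (adj.unit.app X) ≫ κ.app (L.obj X))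
  have hθ : ∀ {X Y : C} (f : X ⟶ Y), L₀.map (r'.map f) ≫ θ Y = θ X ≫ r.map (L.map f) := by
    intro X Y f
    refine (adj₀.homEquiv_naturality_left_symm _ _).symm.trans
      (Eq.trans ?_ (adj₀.homEquiv_naturality_right_symm _ _))
    congr 1
    have e := κ.naturality (L.map f)
    dsimp at e
    rw [← r'.map_comp_assoc, ← adj.unit_naturality, r'.map_comp_assoc, e, Category.assoc]
  let Θ : (cx L₀).obj ((cx r').obj G) ⟶ (cx r).obj ((cx L).obj G) :=
    { f := fun n => θ (G.X n)
      comm' := fun i j _ => (hθ (G.d i j)).symm }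
  have : ∀ n, IsIso (Θ.f n) := fun n => hθ' (G.X n)
  have : IsIso Θ := HomologicalComplex.Hom.isIso_of_components _
  have := isStrictlyGE_cx r' G a
  have := isStrictlyGE_cx r J b
  have : QuasiIso ((cx r).map s) := inferInstance
  obtain ⟨J', hb, -, ρ, hJ', hρ⟩ := exists_res ((cx r).obj J) b
  have hrs : QuasiIso (Θ ≫ (cx r).map s) := quasiIso_comp Θ _
  have hq : QuasiIso (tr adj₀ ((Θ ≫ (cx r).map s) ≫ ρ)) :=
    h ((cx r').obj G) a J' b hJ' _ (quasiIso_comp _ ρ)
  have hR : QuasiIso ((cx R₀).map ρ) := c.quasiIso_map ρ b (fun n => (hκ _ (hJ n)).2) hJ'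
  have htr : tr adj₀ ((Θ ≫ (cx r).map s) ≫ ρ) = tr adj₀ (Θ ≫ (cx r).map s) ≫ (cx R₀).map ρ := by
    ext n
    change adj₀.unit.app _ ≫ R₀.map (_ ≫ _) = (adj₀.unit.app _ ≫ R₀.map _) ≫ R₀.map _
    rw [R₀.map_comp, Category.assoc]
  rw [htr] at hq
  have hq' : QuasiIso (tr adj₀ (Θ ≫ (cx r).map s)) :=
    quasiIso_of_comp_right (tr adj₀ (Θ ≫ (cx r).map s)) ((cx R₀).map ρ)
  let K' : (cx r').obj ((cx R₁).obj J) ⟶ (cx R₀).obj ((cx r).obj J) :=
    { f := fun n => κ.app (J.X n)
      comm' := fun i j _ => (κ.naturality (J.d i j)).symm }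
  have : ∀ n, IsIso (K'.f n) := fun n => (hκ _ (hJ n)).1
  have : IsIso K' := HomologicalComplex.Hom.isIso_of_components _
  have e : (cx r').map (tr adj s) ≫ K' = tr adj₀ (Θ ≫ (cx r).map s) := by
    ext n
    change r'.map (adj.unit.app (G.X n) ≫ R₁.map (s.f n)) ≫ κ.app (J.X n) =
      adj₀.unit.app (r'.obj (G.X n)) ≫ R₀.map (θ (G.X n) ≫ r.map (s.f n))
    rw [R₀.map_comp, ← Category.assoc (adj₀.unit.app _)]
    have h1 : adj₀.unit.app (r'.obj (G.X n)) ≫ R₀.map (θ (G.X n)) =
        r'.map (adj.unit.app (G.X n)) ≫ κ.app (L.obj (G.X n)) :=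
      (adj₀.homEquiv_unit _ _ _).symm.trans ((adj₀.homEquiv _ _).apply_symm_apply _)
    rw [h1]
    have e2 := κ.naturality (s.f n)
    dsimp at e2
    rw [r'.map_comp, Category.assoc]
    exact (_ ≫= e2).trans (Category.assoc _ _ _).symm
  exact quasiIso_of_comp_right ((cx r').map (tr adj s)) K' (hφφ' := e ▸ hq')

end restrict

end Groth.Agent.Desc45
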