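import Groth.Agent.Desc45.Calculus

/-!
Cohomological descent is detected by restrictions.
-/

set_option autoImplicit false
set_option linter.unusedVariables false
universe u

open CategoryTheory CategoryTheory.Limits Opposite TopologicalSpace

namespace Groth.Agent.Desc45

attribute [local instance] HasDerivedCategory.standard

variable {I J I₀ J₀ : Type} [SmallCategory I] [SmallCategory J] [SmallCategory I₀]
  [SmallCategory J₀] {X : I ⥤ TopCat.{u}} {Y : J ⥤ TopCat.{u}}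
  {X₀ : I₀ ⥤ TopCat.{u}} {Y₀ : J₀ ⥤ TopCat.{u}}

/-- The component of a comparison cell. -/
abbrev cellApp {M : DMap Y X} {N : DMap X₀ X} {N' : DMap Y₀ Y} {M₀ : DMap Y₀ X₀}
    (c : Cell (M.comp N') (N.comp M₀)) (i₀ : J₀) :
    M.idx.obj (N'.idx.obj i₀) ⟶ N.idx.obj (M₀.idx.obj i₀) := c.t.app i₀

/-- A square restricting a morphism of diagrams, with the cofinality and cartesianness needed for
base change of direct images. -/
structure Square (M : DMap Y X) (N : DMap X₀ X) (N' : DMap Y₀ Y) (M₀ : DMap Y₀ X₀) where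
  embN : ∀ k, Topology.IsOpenEmbedding (N.map.app k)
  embN' : ∀ i, Topology.IsOpenEmbedding (N'.map.app i)
  cartN : N.IsCart
  cartN' : N'.IsCart
  pcofilN' : PCofil N'.idx
  c : Cell (M.comp N') (N.comp M₀)
  isIso : IsIso c.t
  cartSq : ∀ (i₀ : J₀) (y : Y.obj (N'.idx.obj i₀)),
    X.map (cellApp c i₀) (M.map.app (N'.idx.obj i₀) y) ∈ Set.range (N.map.app (M₀.idx.obj i₀)) →
      y ∈ Set.range (N'.map.app i₀)
  cof : ∀ (i : J) (k : I₀) (f : M.idx.obj i ⟶ N.idx.obj k),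
    ∃ (i₀ : J₀) (f₀ : M₀.idx.obj i₀ ⟶ k) (g : i ⟶ N'.idx.obj i₀),
      M.idx.map g ≫ cellApp c i₀ ≫ N.idx.map f₀ = f ∧
      ∀ (i₁ : J₀) (f₁ : M₀.idx.obj i₁ ⟶ k) (g₁ : i ⟶ N'.idx.obj i₁),
        M.idx.map g₁ ≫ cellApp c i₁ ≫ N.idx.map f₁ = f →
          ∃ h : i₀ ⟶ i₁, g ≫ N'.idx.map h = g₁ ∧ M₀.idx.map h ≫ f₁ = f₀

variable {M : DMap Y X} {N : DMap X₀ X} {N' : DMap Y₀ Y} {M₀ : DMap Y₀ X₀}
  (S : Square M N N' M₀)

theorem restr_res {K₁ K₂ : Type} [SmallCategory K₁] [SmallCategory K₂] {P : K₁ ⥤ TopCat.{u}}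
    {Q : K₂ ⥤ TopCat.{u}} (A : DMap P Q) (hA : ∀ i, Topology.IsOpenEmbedding (A.map.app i))
    (F : Sh Q) {a b : Tot P} (φ : a ⟶ b) (x : ((restr A hA).obj F).obj.obj (op b)) :
    res ((restr A hA).obj F) φ x = res F ((A.img hA).map φ) x := rfl

theorem img_map_le {K₁ K₂ : Type} [SmallCategory K₁] [SmallCategory K₂] {P : K₁ ⥤ TopCat.{u}}
    {Q : K₂ ⥤ TopCat.{u}} (A : DMap P Q) (hA : ∀ i, Topology.IsOpenEmbedding (A.map.app i))
    {i j : K₁} (h : i ⟶ j) {U : Opens (P.obj i)} {V : Opens (P.obj j)}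
    (hle : U ≤ (Opens.map (P.map h)).obj V) :
    (hA i).functor.obj U ≤ (Opens.map (Q.map (A.idx.map h))).obj ((hA j).functor.obj V) :=
  ((A.img hA).map (Tot.mkHom P h hle)).sub

namespace Square

/-- The comparison of index functors. -/
abbrev tr (i₀ : J₀) : M.idx.obj (N'.idx.obj i₀) ⟶ N.idx.obj (M₀.idx.obj i₀) := cellApp S.c i₀

theorem img_dom_le {k : I₀} (W : Opens (X₀.obj k)) {i₀ : J₀} (f₀ : M₀.idx.obj i₀ ⟶ k) :
    (S.embN' i₀).functor.obj (dom M₀ ⟨k, W⟩ f₀) ≤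
      (Opens.map (Y.map (𝟙 (N'.idx.obj i₀)))).obj
        (dom M ((N.img S.embN).obj ⟨k, W⟩) (S.tr i₀ ≫ N.idx.map f₀)) :=
  Tot.le_map_id Y fun y hy => by
    obtain ⟨y₀, hy₀, rfl⟩ := hy
    refine ⟨X₀.map f₀ (M₀.map.app i₀ y₀), hy₀, ?_⟩
    have h1 : X.map (S.tr i₀) (M.map.app _ (N'.map.app i₀ y₀)) =
        N.map.app _ (M₀.map.app i₀ y₀) :=
      ConcreteCategory.congr_hom (S.c.w i₀) y₀
    change N.map.app k (X₀.map f₀ (M₀.map.app i₀ y₀)) =
      X.map (S.tr i₀ ≫ N.idx.map f₀) (M.map.app _ (N'.map.app i₀ y₀))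
    rw [X.map_comp, ConcreteCategory.comp_apply, h1, ← ConcreteCategory.comp_apply,
      N.map.naturality f₀]
    rfl

theorem dom_le_img {k : I₀} (W : Opens (X₀.obj k)) {i : J} {f : M.idx.obj i ⟶ N.idx.obj k}
    {i₀ : J₀} (f₀ : M₀.idx.obj i₀ ⟶ k) (g : i ⟶ N'.idx.obj i₀)
    (e : M.idx.map g ≫ S.tr i₀ ≫ N.idx.map f₀ = f) :
    dom M ((N.img S.embN).obj ⟨k, W⟩) f ≤
      (Opens.map (Y.map g)).obj ((S.embN' i₀).functor.obj (dom M₀ ⟨k, W⟩ f₀)) := by
  intro y hy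
  obtain ⟨w, hw, ew⟩ := hy
  have h2 : X.map (N.idx.map f₀) (X.map (S.tr i₀) (M.map.app _ (Y.map g y))) =
      N.map.app k w := by
    rw [ew, ← e]
    have e2 : M.map.app _ (Y.map g y) = X.map (M.idx.map g) (M.map.app i y) :=
      ConcreteCategory.congr_hom (M.map.naturality g) y
    rw [e2]
    simp only [← ConcreteCategory.comp_apply, ← Functor.map_comp, Category.assoc]
    try rfl
  obtain ⟨z, hz⟩ := S.cartN f₀ _ ⟨w, h2.symm⟩
  obtain ⟨y₀, hy₀⟩ := S.cartSq i₀ _ ⟨z, hz⟩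
  refine ⟨y₀, ?_, hy₀⟩
  have h1 : X.map (S.tr i₀) (M.map.app _ (N'.map.app i₀ y₀)) =
      N.map.app _ (M₀.map.app i₀ y₀) :=
    ConcreteCategory.congr_hom (S.c.w i₀) y₀
  have h3 : N.map.app k (X₀.map f₀ (M₀.map.app i₀ y₀)) = N.map.app k w := by
    rw [← h2, ← hy₀, h1, ← ConcreteCategory.comp_apply, N.map.naturality f₀]
    rfl
  change X₀.map f₀ (M₀.map.app i₀ y₀) ∈ W
  exact ((S.embN k).injective h3).symm ▸ hw

/-- The base change map on sections. -/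
noncomputable def baseMap (F : Sh Y) :
    (restr N S.embN).obj ((R M).obj F) ⟶ (R M₀).obj ((restr N' S.embN').obj F) :=
  restrDesc N S.embN (MMap.curry (S.c.map ((ev M F).comp (restrUnit N' S.embN' F))))

theorem baseMap_apply (F : Sh Y) (k : I₀) (W : Opens (X₀.obj k))
    (x : famGroup M F ((N.img S.embN).obj ⟨k, W⟩)) (i₀ : J₀) (f₀ : M₀.idx.obj i₀ ⟶ k) :
    ((S.baseMap F).hom.app (op ⟨k, W⟩) x).1 i₀ f₀ =
      res F (Tot.mkHom Y (𝟙 (N'.idx.obj i₀)) (S.img_dom_le W f₀))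
        (x.1 (N'.idx.obj i₀) (S.tr i₀ ≫ N.idx.map f₀)) := by
  change res ((restr N' S.embN').obj F) _ (res ((restr N' S.embN').obj F) _
    (res ((restr N' S.embN').obj F) _ (res F _ (res F _ (res F _ (res F _ (x.1 (N'.idx.obj i₀)
      ((𝟙 _ ≫ S.tr i₀) ≫ N.idx.map (f₀ ≫ 𝟙 k))))))))) = _
  simp only [restr_res, res_res]
  refine fam_congr x.1 (by simp) _ _ ?_
  simp [DMap.img]

theorem fam_injective (F : Sh Y) (k : I₀) (W : Opens (X₀.obj k))
    (x x' : famGroup M F ((N.img S.embN).obj ⟨k, W⟩))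
    (e : ∀ (i₀ : J₀) (f₀ : M₀.idx.obj i₀ ⟶ k),
      res F (Tot.mkHom Y (𝟙 (N'.idx.obj i₀)) (S.img_dom_le W f₀))
          (x.1 (N'.idx.obj i₀) (S.tr i₀ ≫ N.idx.map f₀)) =
        res F (Tot.mkHom Y (𝟙 (N'.idx.obj i₀)) (S.img_dom_le W f₀))
          (x'.1 (N'.idx.obj i₀) (S.tr i₀ ≫ N.idx.map f₀))) : x = x' := by
  refine Subtype.ext (funext fun i => funext fun f => ?_)
  obtain ⟨i₀, f₀, g, hg, -⟩ := S.cof i k f
  have hid : dom M ((N.img S.embN).obj ⟨k, W⟩) (S.tr i₀ ≫ N.idx.map f₀) ≤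
      (Opens.map (Y.map (𝟙 (N'.idx.obj i₀)))).obj
        ((S.embN' i₀).functor.obj (dom M₀ ⟨k, W⟩ f₀)) :=
    S.dom_le_img W f₀ (𝟙 _) (by simp; rfl)
  have h := congrArg (fun q => res F (Tot.mkHom Y g (dom_le M g _))
    (res F (Tot.mkHom Y (𝟙 (N'.idx.obj i₀)) hid) q)) (e i₀ f₀)
  simp only [res_res] at h
  have h1 := x.2 i (N'.idx.obj i₀) g (S.tr i₀ ≫ N.idx.map f₀)
  have h2 := x'.2 i (N'.idx.obj i₀) g (S.tr i₀ ≫ N.idx.map f₀)
  subst hg
  refine h1.symm.trans (Eq.trans ?_ h2)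
  refine Eq.trans (res_eq F ?_ _) (h.trans (res_eq F ?_ _)) <;> simp

theorem fam_surjective (F : Sh Y) (k : I₀) (W : Opens (X₀.obj k))
    (y : famGroup M₀ ((restr N' S.embN').obj F) ⟨k, W⟩) :
    ∃ x : famGroup M F ((N.img S.embN).obj ⟨k, W⟩), ∀ (i₀ : J₀) (f₀ : M₀.idx.obj i₀ ⟶ k),
      res F (Tot.mkHom Y (𝟙 (N'.idx.obj i₀)) (S.img_dom_le W f₀))
          (x.1 (N'.idx.obj i₀) (S.tr i₀ ≫ N.idx.map f₀)) = y.1 i₀ f₀ := by
  let ys : ∀ (i₀ : J₀) (f₀ : M₀.idx.obj i₀ ⟶ k),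
      sec F (N'.idx.obj i₀) ((S.embN' i₀).functor.obj (dom M₀ ⟨k, W⟩ f₀)) := fun i₀ f₀ => y.1 i₀ f₀
  have hys : ∀ {i₀ i₁ : J₀} (h : i₀ ⟶ i₁) (f₁ : M₀.idx.obj i₁ ⟶ k),
      res F (Tot.mkHom Y (N'.idx.map h) (img_map_le N' S.embN' h (dom_le M₀ (a := ⟨k, W⟩) h f₁)))
        (ys i₁ f₁) = ys i₀ (M₀.idx.map h ≫ f₁) := fun {i₀ i₁} h f₁ =>
    (res_eq F rfl _).trans
      ((restr_res N' S.embN' F (Tot.mkHom Y₀ h (dom_le M₀ (a := ⟨k, W⟩) h f₁)) (y.1 i₁ f₁)).symm.trans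
        (y.2 i₀ i₁ h f₁))
  choose i₀ f₀ g hg hinit using fun i f => S.cof i k f
  let xf : ∀ (i : J) (f : M.idx.obj i ⟶ N.idx.obj k),
      sec F i (dom M ((N.img S.embN).obj ⟨k, W⟩) f) := fun i f =>
    res F (Tot.mkHom Y (g i f) (S.dom_le_img W (f₀ i f) (g i f) (hg i f)))
      (ys (i₀ i f) (f₀ i f))
  have congr_ys : ∀ {c : Tot Y} {a : J₀} {p q : M₀.idx.obj a ⟶ k} (e : p = q)
      (φ : c ⟶ ⟨N'.idx.obj a, (S.embN' a).functor.obj (dom M₀ ⟨k, W⟩ p)⟩)
      (φ' : c ⟶ ⟨N'.idx.obj a, (S.embN' a).functor.obj (dom M₀ ⟨k, W⟩ q)⟩)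
      (hb : φ.base = φ'.base), res F φ (ys a p) = res F φ' (ys a q) := by
    intro c a p q e φ φ' hb
    subst e
    exact res_eq F hb _
  have hy : ∀ (i : J) (f : M.idx.obj i ⟶ N.idx.obj k) (i₁ : J₀) (f₁ : M₀.idx.obj i₁ ⟶ k)
      (g₁ : i ⟶ N'.idx.obj i₁) (e : M.idx.map g₁ ≫ S.tr i₁ ≫ N.idx.map f₁ = f),
      xf i f = res F (Tot.mkHom Y g₁ (S.dom_le_img W f₁ g₁ e)) (ys i₁ f₁) := by
    intro i f i₁ f₁ g₁ e
    obtain ⟨h, hh, hh'⟩ := hinit i f i₁ f₁ g₁ e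
    have hle : dom M ((N.img S.embN).obj ⟨k, W⟩) f ≤ (Opens.map (Y.map (g i f))).obj
        ((S.embN' (i₀ i f)).functor.obj (dom M₀ ⟨k, W⟩ (M₀.idx.map h ≫ f₁))) :=
      S.dom_le_img W _ _ (by rw [hh']; exact hg i f)
    have h4 : xf i f = res F (Tot.mkHom Y (g i f) hle) (ys (i₀ i f) (M₀.idx.map h ≫ f₁)) :=
      congr_ys hh'.symm _ _ rfl
    rw [h4, ← hys h f₁, res_res]
    exact res_eq F hh _
  refine ⟨⟨xf, fun i i' γ f' => ?_⟩, fun j₀ e₀ => ?_⟩
  · have e : M.idx.map (γ ≫ g i' f') ≫ S.tr (i₀ i' f') ≫ N.idx.map (f₀ i' f') =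
        M.idx.map γ ≫ f' := by rw [M.idx.map_comp, Category.assoc, hg]; rfl
    refine Eq.trans ?_ (hy i (M.idx.map γ ≫ f') (i₀ i' f') (f₀ i' f') (γ ≫ g i' f') e).symm
    refine (res_res F _ _ _).trans ?_
    exact res_eq F rfl _
  · change res F _ (xf _ _) = ys j₀ e₀
    rw [hy _ _ j₀ e₀ (𝟙 _) (by rw [CategoryTheory.Functor.map_id, Category.id_comp]; rfl), res_res]
    exact res_self F _ (by simp) _

theorem baseMap_bijective (F : Sh Y) (k : I₀) (W : Opens (X₀.obj k)) :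
    Function.Bijective ((S.baseMap F).hom.app (op ⟨k, W⟩)) := by
  refine ⟨fun x x' e => S.fam_injective F k W x x' fun i₀ f₀ => ?_, fun y => ?_⟩
  · refine (S.baseMap_apply F k W x i₀ f₀).symm.trans (Eq.trans ?_ (S.baseMap_apply F k W x' i₀ f₀))
    exact congrArg (fun q : famGroup M₀ ((restr N' S.embN').obj F) ⟨k, W⟩ => q.1 i₀ f₀) e
  · obtain ⟨x, hx⟩ := S.fam_surjective F k W y
    exact ⟨x, Subtype.ext (funext fun i₀ => funext fun f₀ =>
      (S.baseMap_apply F k W x i₀ f₀).trans (hx i₀ f₀))⟩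

instance (F : Sh Y) : IsIso (S.baseMap F) := by
  have : ∀ a, IsIso ((S.baseMap F).hom.app a) := fun a =>
    (ConcreteCategory.isIso_iff_bijective _).2 (S.baseMap_bijective F a.unop.base a.unop.opn)
  have : IsIso (S.baseMap F).hom := NatIso.isIso_of_isIso_app _
  have : IsIso ((sheafToPresheaf _ _).map (S.baseMap F)) := this
  exact isIso_of_reflects_iso _ (sheafToPresheaf _ _)

/-- Base change as a natural transformation. -/
noncomputable def kappa : R M ⋙ restr N S.embN ⟶ restr N' S.embN' ⋙ R M₀ where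
  app F := S.baseMap F
  naturality {F F'} h := sh_hom_ext fun k W x => Subtype.ext (funext fun i₀ => funext fun f₀ => by
    refine (S.baseMap_apply F' k W _ i₀ f₀).trans ?_
    change _ = h.hom.app _ (((S.baseMap F).hom.app (op ⟨k, W⟩) x).1 i₀ f₀)
    rw [S.baseMap_apply F k W x i₀ f₀]
    exact (hom_res h _ _).symm)

theorem unit_eq (G : Sh X) : (ev M ((L M).obj G)).pull ((adj M).unit.app G) = unit M G := by
  have h : (adj M).unit.app G = mmapEquiv M G _ ((unit M G).push (𝟙 _)) := by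
    rw [← adjOfU_homEquiv M (L M) (unit M) (fun g => unit_nat M g) (unit_isU M),
      Adjunction.homEquiv_unit]
    simp
    rfl
  rw [h]
  exact (mmapEquiv M G _).symm_apply_apply _

theorem isRestriction :
    IsRestriction (adj M) (adj M₀) (restr N' S.embN') (restr N S.embN) S.kappa := by
  have := S.isIso
  refine ⟨fun F hF => ⟨(inferInstance : IsIso (S.baseMap F)),
    restr_injective N' S.embN' S.cartN' S.pcofilN' F⟩, fun G => ?_⟩
  let h := (restr N S.embN).map ((adj M).unit.app G) ≫ S.baseMap ((L M).obj G)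
  let θ : MMap M₀ ((restr N S.embN).obj G) ((restr N' S.embN').obj ((L M).obj G)) :=
    (ev M₀ _).pull h
  have hθ : (restrUnit N S.embN G).comp θ =
      S.c.map ((unit M G).comp (restrUnit N' S.embN' ((L M).obj G))) := by
    let χ := S.c.map ((ev M ((L M).obj G)).comp (restrUnit N' S.embN' ((L M).obj G)))
    have e0 : (restrUnit N S.embN ((R M).obj ((L M).obj G))).push (S.baseMap ((L M).obj G)) =
        MMap.curry χ := push_restrDesc N S.embN _
    calc (restrUnit N S.embN G).comp θ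
        = (((restrUnit N S.embN G).push ((restr N S.embN).map ((adj M).unit.app G))).push
            (S.baseMap ((L M).obj G))).comp (ev M₀ _) := rfl
      _ = (((restrUnit N S.embN _).pull ((adj M).unit.app G)).push
            (S.baseMap ((L M).obj G))).comp (ev M₀ _) := by rw [restrUnit_nat]; rfl
      _ = (((restrUnit N S.embN _).push (S.baseMap ((L M).obj G))).comp (ev M₀ _)).pull
            ((adj M).unit.app G) := rfl
      _ = χ.pull ((adj M).unit.app G) := by rw [e0, MMap.curry_comp_ev]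
      _ = S.c.map (((ev M _).pull ((adj M).unit.app G)).comp (restrUnit N' S.embN' _)) := by
        rw [← S.c.map_pull]; rfl
      _ = _ := by rw [unit_eq]
  have hU : θ.IsU := (restrUnit_isU N S.embN G).of_comp
    (hθ ▸ S.c.map_isU ((unit_isU M G).comp (restrUnit_isU N' S.embN' _)))
  have := isIso_homEquiv_symm M₀ (L M₀) (unit M₀) (fun g => unit_nat M₀ g) (unit_isU M₀) θ hU
  have e : mmapEquiv M₀ _ _ θ = h := (mmapEquiv M₀ _ _).apply_symm_apply h
  rw [e] at this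
  exact this

end Square

/-- A jointly surjective family of restrictions detects zero sheaves. -/
theorem isZero_of_restr {α : Type*} {Iα : α → Type} [∀ a, SmallCategory (Iα a)]
    {Xα : ∀ a, Iα a ⥤ TopCat.{u}} (N : ∀ a, DMap (Xα a) X)
    (hN : ∀ a k, Topology.IsOpenEmbedding ((N a).map.app k))
    (cov : ∀ (i : I) (x : X.obj i), ∃ (a : α) (k : Iα a) (e : (N a).idx.obj k ⟶ i) (_ : IsIso e)
      (y : (Xα a).obj k), X.map e ((N a).map.app k y) = x)
    (F : Sh X) (hF : ∀ a, IsZero ((restr (N a) (hN a)).obj F)) : IsZero F := by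
  suffices key : ∀ (i : I) (U : Opens (X.obj i)) (s : sec F i U), s = 0 by
    rw [IsZero.iff_id_eq_zero]
    exact sh_hom_ext fun i V x => key i V x
  intro i U s
  choose a k e he y hy using cov i
  let W : {x : X.obj i // x ∈ U} → Opens (X.obj i) := fun x =>
    U ⊓ (Opens.map (X.map (inv (I := he x.1) (e x.1)))).obj
      ((hN (a x.1) (k x.1)).functor.obj ((N (a x.1)).pre (k x.1)
        ((Opens.map (X.map (e x.1))).obj U)))
  refine TopCat.Sheaf.eq_of_locally_eq' (⟨(Tot.ι X i).op ⋙ F.obj, (Tot.isSheaf_iff _).1 F.property i⟩ :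
    TopCat.Sheaf AddCommGrpCat.{u} (X.obj i)) W U (fun x => homOfLE inf_le_left) ?_ s 0 fun x => ?_
  · intro x hx
    refine Opens.mem_iSup.2 ⟨⟨x, hx⟩, hx, y x, ?_, ?_⟩
    · change X.map (e x) ((N (a x)).map.app (k x) (y x)) ∈ U
      rw [hy x]
      exact hx
    · change _ = X.map (inv (I := he x) (e x)) x
      have := he x
      refine Eq.trans ?_ (congrArg (fun q => X.map (inv (e x)) q) (hy x))
      rw [← ConcreteCategory.comp_apply (X.map (e x)), ← X.map_comp, IsIso.hom_inv_id, X.map_id]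
      rfl
  · change res F ((Tot.ι X i).map (homOfLE inf_le_left)) s = res F _ 0
    rw [map_zero]
    have := he x.1
    let U₀ := (N (a x.1)).pre (k x.1) ((Opens.map (X.map (e x.1))).obj U)
    let φ : ((N (a x.1)).img (hN (a x.1))).obj ⟨k x.1, U₀⟩ ⟶ ⟨i, U⟩ :=
      ⟨e x.1, fun z hz => by obtain ⟨w, hw, rfl⟩ := hz; exact hw⟩
    let ψ : (⟨i, W x⟩ : Tot X) ⟶ ((N (a x.1)).img (hN (a x.1))).obj ⟨k x.1, U₀⟩ :=
      ⟨inv (I := he x.1) (e x.1), inf_le_right⟩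
    have h0 : res F φ s = 0 := by
      have hz := hF (a x.1)
      have := (IsZero.iff_id_eq_zero _).1 hz
      exact ConcreteCategory.congr_hom (NatTrans.congr_app (congrArg (fun q => q.hom) this)
        (op ⟨k x.1, U₀⟩)) (res F φ s)
    have h1 := congrArg (fun q => res F ψ q) h0
    rw [map_zero] at h1
    refine Eq.trans ?_ h1
    erw [res_res]
    exact res_eq F (by simp [Tot.ι, φ, ψ]) s

/-- Descent is local for jointly surjective restrictions. -/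
theorem Desc.of_restrictions {α : Type*} {Iα Jα : α → Type} [∀ a, SmallCategory (Iα a)]
    [∀ a, SmallCategory (Jα a)] {Xα : ∀ a, Iα a ⥤ TopCat.{u}} {Yα : ∀ a, Jα a ⥤ TopCat.{u}}
    {M : DMap Y X} {N : ∀ a, DMap (Xα a) X} {N' : ∀ a, DMap (Yα a) Y}
    {M₀ : ∀ a, DMap (Yα a) (Xα a)} (S : ∀ a, Square M (N a) (N' a) (M₀ a))
    (cov : ∀ (i : I) (x : X.obj i), ∃ (a : α) (k : Iα a) (e : (N a).idx.obj k ⟶ i) (_ : IsIso e)
      (y : (Xα a).obj k), X.map e ((N a).map.app k y) = x)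
    (h : ∀ a, Desc (M₀ a)) : Desc M := by
  refine Desc.of_uq fun G g₀ _ K b _ hK s hs => ?_
  exact quasiIso_of_conservative (fun a => restr (N a) (S a).embN)
    (isZero_of_restr N (fun a => (S a).embN) cov) _ fun a =>
      quasiIso_restrict (S a).isRestriction (h a).uq G g₀ K b hK s hs

end Groth.Agent.Desc45
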