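import Groth.Agent.Desc45.Cech
import Groth.Agent.Desc45.Square

/-!
The double Čech nerve of two maps and transfer of descent.
-/

set_option autoImplicit false
set_option linter.unusedVariables false
set_option backward.isDefEq.respectTransparency false
set_option backward.isDefEq.respectTransparency.types false
universe u

open CategoryTheory CategoryTheory.Limits Opposite TopologicalSpace

namespace Groth.Agent.Desc45

attribute [local instance] HasDerivedCategory.standard

namespace CechModel

variable {X Y S : TopCat.{u}} {f : X ⟶ S}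

/-- Transport of a model along an isomorphism over the base. -/
noncomputable def ofIso (M : CechModel f) {X' : TopCat.{u}} (f' : X' ⟶ S) (e : X ≅ X')
    (he : e.hom ≫ f' = f) : CechModel f' where
  C := M.C
  ε := M.ε
  w := M.w
  π n i := M.π n i ≫ e.hom
  π_ε n i := by rw [Category.assoc, he, M.π_ε]
  π_map φ i := by rw [← Category.assoc, M.π_map]
  hom_ext n a b h := M.hom_ext n a b fun i => by
    rw [← cancel_mono e.hom, Category.assoc, Category.assoc]
    exact h i
  lift_exists n x hx := by
    have key : ∀ i, (x i ≫ e.inv) ≫ f = x i ≫ f' := fun i => by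
      rw [← he, Category.assoc, Iso.inv_hom_id_assoc]
    refine ⟨M.lift n (fun i => x i ≫ e.inv) (fun i => by rw [key, key, hx]), fun i => ?_⟩
    rw [← Category.assoc, lift_π, Category.assoc, Iso.inv_hom_id, Category.comp_id]

end CechModel

theorem isCohDescentMap_of_iso {X X' S : TopCat.{u}} {f : X ⟶ S} {f' : X' ⟶ S} (e : X ≅ X')
    (he : e.hom ≫ f' = f) (h : FibDesc.IsCohDescentMap f) : FibDesc.IsCohDescentMap f' :=
  (isCohDescentMap_iff f' ((stdModel f).ofIso f' e he)).2 ((isCohDescentMap_iff f (stdModel f)).1 h)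

theorem isCohDescentMap_of_univ {X S : TopCat.{u}} {f : X ⟶ S}
    (h : FibDesc.IsUnivCohDescentMap f) : FibDesc.IsCohDescentMap f :=
  isCohDescentMap_of_iso (asIso (pullback.fst f (𝟙 S)))
    (by rw [asIso_hom, pullback.condition, Category.comp_id]) (h S (𝟙 S))

section double

variable {X Y S : TopCat.{u}} {u₀ : X ⟶ S} {v : Y ⟶ S} (A : CechModel u₀) (B : CechModel v)

/-- The double nerve. -/
noncomputable def dblNerve : SimplexCategoryᵒᵖ × SimplexCategoryᵒᵖ ⥤ TopCat.{u} where
  obj k := pullback (A.ε k.1) (B.ε k.2)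
  map φ := pullback.map _ _ _ _ (A.C.map φ.1) (B.C.map φ.2) (𝟙 S)
    (by rw [Category.comp_id, A.w]) (by rw [Category.comp_id, B.w])
  map_id k := by apply pullback.hom_ext <;> simp
  map_comp φ ψ := by apply pullback.hom_ext <;> simp

/-- The projection to the first nerve. -/
noncomputable def dblProj : DMap (dblNerve A B) A.C where
  idx := CategoryTheory.Prod.fst _ _
  map :=
    { app := fun k => pullback.fst _ _
      naturality := fun k l φ => pullback.lift_fst _ _ _ }

/-- The exchange of the two factors. -/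
noncomputable def dblSwap : DMap (dblNerve A B) (dblNerve B A) where
  idx := CategoryTheory.Prod.swap _ _
  map :=
    { app := fun k => pullback.lift (pullback.snd _ _) (pullback.fst _ _) pullback.condition.symm
      naturality := fun k l φ => by
        apply pullback.hom_ext <;> simp [dblNerve] }

/-- Exchanging twice is the identity. -/
noncomputable def dblSwapCell : Cell ((dblSwap B A).comp (dblSwap A B)) (idMap (dblNerve A B)) where
  t := { app := fun k => 𝟙 k }
  w k := by
    change (pullback.lift _ _ _ ≫ pullback.lift _ _ _) ≫ (dblNerve A B).map (𝟙 _) = 𝟙 _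
    rw [CategoryTheory.Functor.map_id]
    apply pullback.hom_ext <;> simp [dblNerve, dblSwap]

instance isIso_dblSwapCell : IsIso (dblSwapCell A B).t := by
  have : ∀ k, IsIso ((dblSwapCell A B).t.app k) := fun k => inferInstanceAs (IsIso (𝟙 k))
  exact NatIso.isIso_of_isIso_app _

theorem desc_dblSwap : Desc (dblSwap A B) :=
  Desc.of_inverse (dblSwapCell B A) (dblSwapCell A B)

variable (m : SimplexCategoryᵒᵖ)

/-- A row of the double nerve. -/
abbrev rowIdx : SimplexCategoryᵒᵖ ⥤ SimplexCategoryᵒᵖ × SimplexCategoryᵒᵖ where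
  obj n := (m, n)
  map φ := (𝟙 m, φ)
  map_id _ := rfl
  map_comp _ _ := Prod.ext (Category.comp_id _).symm rfl

/-- A row is a Čech nerve of a base change. -/
noncomputable def rowModel : CechModel (pullback.snd v (A.ε m)) where
  C := rowIdx m ⋙ dblNerve A B
  ε n := pullback.fst _ _
  w φ := by
    simp [dblNerve]
  π n i := pullback.lift (pullback.snd (A.ε m) (B.ε n) ≫ B.π n i) (pullback.fst _ _)
    (by rw [Category.assoc, B.π_ε]; exact pullback.condition.symm)
  π_ε n i := pullback.lift_snd _ _ _
  π_map {n l} φ i := by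
    apply pullback.hom_ext <;> simp [dblNerve, B.π_map]
  hom_ext n a b h := by
    refine pullback.hom_ext ?_ (B.hom_ext n _ _ fun i => ?_)
    · simpa using h 0 =≫ pullback.snd _ _
    · simpa [Category.assoc] using h i =≫ pullback.fst _ _
  lift_exists n x hx := by
    have hw : ∀ i, (x i ≫ pullback.fst v (A.ε m)) ≫ v = (x 0 ≫ pullback.snd v (A.ε m)) ≫ A.ε m := by
      intro i
      rw [Category.assoc, pullback.condition, ← Category.assoc, hx i, Category.assoc]
    refine ⟨pullback.lift (x 0 ≫ pullback.snd _ _)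
      (B.lift n (fun i => x i ≫ pullback.fst _ _) (fun i => by rw [hw, hw]))
      ((hw 0).symm.trans (B.lift_ε n (fun i => x i ≫ pullback.fst _ _) _).symm), fun i => ?_⟩
    apply pullback.hom_ext
    · simp
    · simp [hx i]

/-- The selection of a level. -/
noncomputable def levelMap : DMap (pt (A.C.obj m)) A.C where
  idx := (Functor.const Pt).obj m
  map :=
    { app := fun _ => 𝟙 _
      naturality := fun a b φ => by
        obtain ⟨⟨⟩⟩ := a
        obtain ⟨⟨⟩⟩ := b
        simp }

/-- The inclusion of a row. -/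
noncomputable def rowMap : DMap (rowModel A B m).C (dblNerve A B) := bcMap (rowIdx m) _

/-- The square of a row. -/
noncomputable def rowSquare :
    Square (dblProj A B) (levelMap A m) (rowMap A B m) (rowModel A B m).aug where
  embN _ := Topology.IsOpenEmbedding.id
  embN' _ := Topology.IsOpenEmbedding.id
  cartN h x _ := ⟨x, rfl⟩
  cartN' h x _ := ⟨x, rfl⟩
  pcofilN' := by
    refine ⟨fun {i a b c} fb fc hb hc e => ?_, fun {i a b} fb h h' e => ?_⟩
    · refine ⟨i.2, (fb.1, 𝟙 _), fb.2, fc.2, ?_, ?_, ?_⟩
      · exact Prod.ext (Category.comp_id _) (Category.id_comp _)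
      · have e1 := congrArg (fun q => q.1) e
        refine Prod.ext ?_ (Category.id_comp _)
        change fb.1 ≫ 𝟙 m = fc.1
        exact e1.trans (Category.comp_id _)
      · exact congrArg (fun q => q.2) e
    · exact ⟨i.2, (fb.1, 𝟙 _), fb.2, Prod.ext (Category.comp_id _) (Category.id_comp _),
        congrArg (fun q => q.2) e⟩
  c :=
    { t := { app := fun _ => 𝟙 m }
      w := fun n => by
        change (𝟙 _ ≫ pullback.fst _ _) ≫ A.C.map (𝟙 m) = pullback.fst _ _ ≫ 𝟙 _
        rw [A.C.map_id, Category.id_comp] }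
  isIso := by
    refine @NatIso.isIso_of_isIso_app _ _ _ _ _ _ _ fun n => ?_
    exact inferInstanceAs (IsIso (𝟙 m))
  cartSq i₀ y _ := ⟨y, rfl⟩
  cof i k f := by
    refine ⟨i.2, Discrete.eqToHom (Subsingleton.elim _ _), (f, 𝟙 _), ?_, fun i₁ f₁ g₁ e => ?_⟩
    · exact (f ≫= Category.comp_id (𝟙 m)).trans (Category.comp_id f)
    · have e1 : g₁.1 = f :=
        ((g₁.1 ≫= Category.comp_id (𝟙 m)).trans (Category.comp_id _)).symm.trans e
      exact ⟨g₁.2, Prod.ext ((Category.comp_id _).trans e1.symm) (Category.id_comp _),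
        Subsingleton.elim _ _⟩

theorem desc_dblProj (h : ∀ m, FibDesc.IsCohDescentMap (pullback.snd v (A.ε m))) :
    Desc (dblProj A B) :=
  Desc.of_restrictions (fun m => rowSquare A B m)
    (fun m x => ⟨m, ⟨PUnit.unit⟩, 𝟙 ((levelMap A m).idx.obj ⟨PUnit.unit⟩), inferInstance, x,
      ConcreteCategory.congr_hom (A.C.map_id m) x⟩)
    fun m => (isCohDescentMap_iff _ (rowModel A B m)).1 (h m)

/-- The two composites to the base. -/
noncomputable def dblCell :
    Cell (B.aug.comp ((dblProj B A).comp (dblSwap A B))) (A.aug.comp (dblProj A B)) where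
  t := { app := fun _ => Discrete.eqToHom rfl, naturality := fun _ _ _ => Subsingleton.elim _ _ }
  w k := by
    change ((pullback.lift _ _ _ ≫ pullback.fst _ _) ≫ B.ε k.2) ≫ 𝟙 _ = pullback.fst _ _ ≫ A.ε k.1
    rw [Category.comp_id, pullback.lift_fst, pullback.condition]

/-- Transfer of descent between two augmentations. -/
theorem desc_of_double (hv : Desc B.aug)
    (hp : ∀ m, FibDesc.IsCohDescentMap (pullback.snd v (A.ε m)))
    (hq : ∀ n, FibDesc.IsCohDescentMap (pullback.snd u₀ (B.ε n))) : Desc A.aug :=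
  Desc.of_comp (Desc.of_cell (dblCell A B)
    (Desc.comp hv (Desc.comp (desc_dblProj B A hq) (desc_dblSwap A B)))) (desc_dblProj A B hp)

end double

theorem isCohDescentMap_of_baseChange_levels {X Y S : TopCat.{u}} (u₀ : X ⟶ S) (v : Y ⟶ S)
    (hv : FibDesc.IsUnivCohDescentMap v) (B : CechModel v)
    (h : ∀ n, FibDesc.IsCohDescentMap (pullback.snd u₀ (B.ε n))) :
    FibDesc.IsCohDescentMap u₀ :=
  (isCohDescentMap_iff u₀ (stdModel u₀)).2 (desc_of_double (stdModel u₀) B
    ((isCohDescentMap_iff v B).1 (isCohDescentMap_of_univ hv)) (fun m => hv _ _) h)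

theorem stdModel_ε {Y S : TopCat.{u}} (v : Y ⟶ S) (n : SimplexCategoryᵒᵖ) :
    (stdModel v).ε n = WidePullback.base (fun _ : Fin (n.unop.len + 1) => v) := by
  obtain ⟨n⟩ := n
  rfl

theorem isCohDescentMap_of_baseChange_cech {X Y S : TopCat.{u}} (u₀ : X ⟶ S) (v : Y ⟶ S)
    (hv : FibDesc.IsUnivCohDescentMap v)
    (h : ∀ n : ℕ, FibDesc.IsCohDescentMap
      (pullback.snd u₀ (WidePullback.base (fun _ : Fin (n + 1) => v) :
        widePullback S (fun _ : Fin (n + 1) => Y) (fun _ => v) ⟶ S))) :
    FibDesc.IsCohDescentMap u₀ := by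
  refine isCohDescentMap_of_baseChange_levels u₀ v hv (stdModel v) fun n => ?_
  have h' := h n.unop.len
  rw [← stdModel_ε v n] at h'
  exact h'

end Groth.Agent.Desc45
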