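import Groth.Agent.Desc45.Bisimp

/-!
Stability properties of universal cohomological descent.
-/

set_option autoImplicit false
set_option linter.unusedVariables false
set_option backward.isDefEq.respectTransparency false
set_option backward.isDefEq.respectTransparency.types false
universe u

open CategoryTheory CategoryTheory.Limits Opposite TopologicalSpace

namespace Groth.Agent.Desc45

theorem isUnivCohDescentMap_baseChange {X S S' : TopCat.{u}} {f : X ⟶ S} (g : S' ⟶ S)
    (h : FibDesc.IsUnivCohDescentMap f) : FibDesc.IsUnivCohDescentMap (pullback.snd f g) :=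
  fun T t => isCohDescentMap_of_iso (pullbackLeftPullbackSndIso f g t).symm
    (by rw [Iso.symm_hom, pullbackLeftPullbackSndIso_inv_snd_snd]) (h T (t ≫ g))

theorem isCohDescentMap_congr {X S T : TopCat.{u}} {f : X ⟶ S} {b b' : T ⟶ S} (e : b = b')
    (h : FibDesc.IsCohDescentMap (pullback.snd f b)) :
    FibDesc.IsCohDescentMap (pullback.snd f b') := e ▸ h

theorem isUnivCohDescentMap_of_iso {X X' S : TopCat.{u}} {f : X ⟶ S} {f' : X' ⟶ S} (e : X ≅ X')
    (he : e.hom ≫ f' = f) (h : FibDesc.IsUnivCohDescentMap f) : FibDesc.IsUnivCohDescentMap f' := by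
  intro T t
  refine isCohDescentMap_of_iso
    (asIso (pullback.map f t f' t e.hom (𝟙 T) (𝟙 S) (by rw [Category.comp_id, he]) (by simp)))
    ?_ (h T t)
  rw [asIso_hom]
  unfold pullback.map
  simp

theorem isUnivCohDescentMap_of_baseChange {X S S' : TopCat.{u}} (f : X ⟶ S) (g : S' ⟶ S)
    (hg : FibDesc.IsUnivCohDescentMap g) (h : FibDesc.IsUnivCohDescentMap (pullback.snd f g)) :
    FibDesc.IsUnivCohDescentMap f := by
  intro T t
  let v := pullback.snd g t
  refine isCohDescentMap_of_baseChange_levels _ v (isUnivCohDescentMap_baseChange t hg) (stdModel v)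
    fun n => ?_
  let b := (stdModel v).ε n
  let a := (stdModel v).π n 0 ≫ pullback.fst g t
  have e : b ≫ t = a ≫ g := by
    simp only [a, b, Category.assoc, pullback.condition]
    rw [← Category.assoc, (stdModel v).π_ε n 0]
  have h1 := h _ a
  have h2 : FibDesc.IsCohDescentMap (pullback.snd f (a ≫ g)) :=
    isCohDescentMap_of_iso (pullbackLeftPullbackSndIso f g a)
      (pullbackLeftPullbackSndIso_hom_snd f g a) h1
  replace h2 := isCohDescentMap_congr e.symm h2
  exact isCohDescentMap_of_iso (pullbackLeftPullbackSndIso f t b).symm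
    (by rw [Iso.symm_hom, pullbackLeftPullbackSndIso_inv_snd_snd]) h2

theorem isUnivCohDescentMap_iff {X S S' : TopCat.{u}} (f : X ⟶ S) (g : S' ⟶ S)
    (hg : FibDesc.IsUnivCohDescentMap g) :
    FibDesc.IsUnivCohDescentMap f ↔ FibDesc.IsUnivCohDescentMap (pullback.snd f g) :=
  ⟨isUnivCohDescentMap_baseChange g, isUnivCohDescentMap_of_baseChange f g hg⟩

theorem isUnivCohDescentMap_of_comp {X Y S : TopCat.{u}} (f : X ⟶ Y) (g : Y ⟶ S)
    (h : FibDesc.IsUnivCohDescentMap (f ≫ g)) : FibDesc.IsUnivCohDescentMap g :=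
  isUnivCohDescentMap_of_baseChange g (f ≫ g) h
    (isUnivCohDescentMap_of_section _ (pullback.lift f (𝟙 X) (Category.id_comp _).symm)
      (pullback.lift_snd _ _ _))

/-- A composite with a map admitting a section. -/
theorem isUnivCohDescentMap_comp_section {X Y S : TopCat.{u}} (p : X ⟶ Y) (q : Y ⟶ S) (d : S ⟶ Y)
    (hd : d ≫ q = 𝟙 S) (hp : FibDesc.IsUnivCohDescentMap p) :
    FibDesc.IsUnivCohDescentMap (p ≫ q) := by
  refine isUnivCohDescentMap_of_comp (pullback.fst p d) (p ≫ q) ?_
  have e : pullback.fst p d ≫ p ≫ q = pullback.snd p d := by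
    rw [← Category.assoc, pullback.condition, Category.assoc, hd, Category.comp_id]
  rw [e]
  exact isUnivCohDescentMap_baseChange d hp

theorem isUnivCohDescentMap_comp {X Y S : TopCat.{u}} (f : X ⟶ Y) (g : Y ⟶ S)
    (hf : FibDesc.IsUnivCohDescentMap f) (hg : FibDesc.IsUnivCohDescentMap g) :
    FibDesc.IsUnivCohDescentMap (f ≫ g) := by
  refine isUnivCohDescentMap_of_baseChange _ g hg ?_
  refine isUnivCohDescentMap_of_iso (pullbackRightPullbackFstIso g g f) ?_
    (isUnivCohDescentMap_comp_section (pullback.snd f (pullback.fst g g)) (pullback.snd g g)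
      (pullback.lift (𝟙 Y) (𝟙 Y) rfl) (pullback.lift_snd _ _ _)
      (isUnivCohDescentMap_baseChange (pullback.fst g g) hf))
  simp

theorem isUnivCohDescentMap_pullback_map {X X' Y Y' S : TopCat.{u}} (pX : X' ⟶ S) (pY : Y' ⟶ S)
    (f : X ⟶ X') (g : Y ⟶ Y') (hf : FibDesc.IsUnivCohDescentMap f)
    (hg : FibDesc.IsUnivCohDescentMap g) :
    FibDesc.IsUnivCohDescentMap
      (pullback.map (f ≫ pX) (g ≫ pY) pX pY f g (𝟙 S) (Category.comp_id _) (Category.comp_id _)) := by
  let h1 : pullback (f ≫ pX) (g ≫ pY) ⟶ pullback pX (g ≫ pY) :=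
    pullback.map _ _ _ _ f (𝟙 Y) (𝟙 S) (Category.comp_id _) (by simp)
  let h2 : pullback pX (g ≫ pY) ⟶ pullback pX pY :=
    pullback.map _ _ _ _ (𝟙 X') g (𝟙 S) (by simp) (Category.comp_id _)
  have e : pullback.map (f ≫ pX) (g ≫ pY) pX pY f g (𝟙 S) (Category.comp_id _) (Category.comp_id _) =
      h1 ≫ h2 := by
    apply pullback.hom_ext <;> simp [h1, h2, pullback.map]
  rw [e]
  refine isUnivCohDescentMap_comp _ _ ?_ ?_
  · refine isUnivCohDescentMap_of_iso (pullbackRightPullbackFstIso pX (g ≫ pY) f) ?_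
      (isUnivCohDescentMap_baseChange (pullback.fst pX (g ≫ pY)) hf)
    apply pullback.hom_ext <;> simp [h1, pullback.map, pullback.condition]
  · refine isUnivCohDescentMap_of_iso
      (pullbackSymmetry g (pullback.snd pX pY) ≪≫ pullbackLeftPullbackSndIso pX pY g) ?_
      (isUnivCohDescentMap_baseChange (pullback.snd pX pY) hg)
    apply pullback.hom_ext
    · simp [h2, pullback.map]
    · simp [h2, pullback.map, pullback.condition]

end Groth.Agent.Desc45
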