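import Groth.Agent.Desc45.Abstract
import Mathlib.CategoryTheory.Localization.Predicate

/-!
Composition, invariance, transfer along jointly conservative exact functors, and the section
criterion for full faithfulness on derived categories.
-/

set_option autoImplicit false
set_option linter.unusedSectionVars false
set_option linter.style.haveILetI false
universe w₁ w₂ w₃ w₄ v₁ v₂ v₃ v₄ u₁ u₂ u₃ u₄ t

namespace Groth.Agent.Desc45

open CategoryTheory CategoryTheory.Limits DerivedCategory

attribute [local instance] comp_preservesFiniteLimits comp_preservesFiniteColimits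

variable {C : Type u₁} [Category.{v₁} C] [Abelian C] [HasDerivedCategory.{w₁} C]
  {T : Type u₂} [Category.{v₂} T] [Abelian T] [HasDerivedCategory.{w₂} T]
  {U : Type u₃} [Category.{v₃} U] [Abelian U] [HasDerivedCategory.{w₃} U]

section trans

variable {F G : C ⥤ T} [F.Additive] [PreservesFiniteLimits F] [PreservesFiniteColimits F]
  [G.Additive] [PreservesFiniteLimits G] [PreservesFiniteColimits G]

/-- The natural transformation on derived categories. -/
noncomputable def dTrans (τ : F ⟶ G) : F.mapDerivedCategory ⟶ G.mapDerivedCategory :=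
  Localization.liftNatTrans Q (HomologicalComplex.quasiIso C (ComplexShape.up ℤ))
    (cx F ⋙ Q) (cx G ⋙ Q) _ _
    (Functor.whiskerRight (NatTrans.mapHomologicalComplex τ (ComplexShape.up ℤ)) Q)

theorem isIso_dTrans_Q (τ : F ⟶ G) (K : CochainComplex C ℤ) (h : ∀ n, IsIso (τ.app (K.X n))) :
    IsIso ((dTrans τ).app (Q.obj K)) := by
  have : IsIso ((NatTrans.mapHomologicalComplex τ (ComplexShape.up ℤ)).app K) := by
    have : ∀ n, IsIso (((NatTrans.mapHomologicalComplex τ (ComplexShape.up ℤ)).app K).f n) := h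
    exact HomologicalComplex.Hom.isIso_of_components _
  rw [dTrans, Localization.liftNatTrans_app]
  change IsIso (_ ≫ Q.map ((NatTrans.mapHomologicalComplex τ (ComplexShape.up ℤ)).app K) ≫ _)
  infer_instance

theorem dTrans_dmap (τ : F ⟶ G) {K M : DerivedCategory C} (g : K ⟶ M) :
    F.mapDerivedCategory.map g ≫ (dTrans τ).app M = (dTrans τ).app K ≫ G.mapDerivedCategory.map g :=
  (dTrans τ).naturality g

/-- An isomorphism of exact functors induces one on derived categories. -/
noncomputable def dIso (e : F ≅ G) : F.mapDerivedCategory ≅ G.mapDerivedCategory :=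
  Localization.liftNatIso Q (HomologicalComplex.quasiIso C (ComplexShape.up ℤ))
    (cx F ⋙ Q) (cx G ⋙ Q) _ _
    (Functor.isoWhiskerRight (NatIso.mapHomologicalComplex e (ComplexShape.up ℤ)) Q)

theorem bijective_iff_of_natIso {F' G' : DerivedCategory C ⥤ DerivedCategory T} (e : F' ≅ G')
    (K M : DerivedCategory C) :
    Function.Bijective (F'.map (X := K) (Y := M)) ↔ Function.Bijective (G'.map (X := K) (Y := M)) := by
  have : G'.map (X := K) (Y := M) = (e.app K).homCongr (e.app M) ∘ F'.map := by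
    funext g
    simp [Iso.homCongr]
  rw [this]
  exact ((e.app K).homCongr (e.app M)).bijective.of_comp_iff' _ |>.symm

theorem FF.of_iso (e : F ≅ G) (h : FF F) : FF G :=
  fun K M => (bijective_iff_of_natIso (dIso e) K.obj M.obj).1 (h K M)

end trans

section comp

variable (F : C ⥤ T) (G : T ⥤ U) [F.Additive] [PreservesFiniteLimits F] [PreservesFiniteColimits F]
  [G.Additive] [PreservesFiniteLimits G] [PreservesFiniteColimits G]


/-- Derived functors of composites of exact functors. -/
noncomputable def dComp :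
    F.mapDerivedCategory ⋙ G.mapDerivedCategory ≅ (F ⋙ G).mapDerivedCategory :=
  letI : Localization.Lifting Q (HomologicalComplex.quasiIso C (ComplexShape.up ℤ))
      (cx F ⋙ cx G ⋙ Q) (F.mapDerivedCategory ⋙ G.mapDerivedCategory) :=
    ⟨(Functor.associator _ _ _).symm ≪≫ Functor.isoWhiskerRight F.mapDerivedCategoryFactors _ ≪≫
      Functor.associator _ _ _ ≪≫ Functor.isoWhiskerLeft _ G.mapDerivedCategoryFactors⟩
  Localization.liftNatIso Q (HomologicalComplex.quasiIso C (ComplexShape.up ℤ))
    (cx F ⋙ cx G ⋙ Q) (cx (F ⋙ G) ⋙ Q) _ _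
    ((Functor.associator _ _ _).symm ≪≫ Functor.isoWhiskerRight
      (Functor.mapHomologicalComplexCompIso (Iso.refl (F ⋙ G)) (ComplexShape.up ℤ)) Q)

theorem bijective_comp_iff (K M : CochainComplex C ℤ) :
    Function.Bijective ((F ⋙ G).mapDerivedCategory.map (X := Q.obj K) (Y := Q.obj M)) ↔
      Function.Bijective (G.mapDerivedCategory.map ∘
        F.mapDerivedCategory.map (X := Q.obj K) (Y := Q.obj M)) :=
  (bijective_iff_of_natIso (dComp F G) _ _).symm

variable {F G}

theorem bijective_outer (hG : FF G) (K M : CochainComplex C ℤ) (a : ℤ) [K.IsStrictlyGE a]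
    [M.IsStrictlyGE a] :
    Function.Bijective (G.mapDerivedCategory.map (X := F.mapDerivedCategory.obj (Q.obj K))
      (Y := F.mapDerivedCategory.obj (Q.obj M))) := by
  have := isStrictlyGE_cx F K a
  have := isStrictlyGE_cx F M a
  exact bijective_map_of_iso G (F.mapDerivedCategoryFactors.app K)
    (F.mapDerivedCategoryFactors.app M) (hG ⟨_, plus_Q _ a⟩ ⟨_, plus_Q _ a⟩)

theorem FF.comp (hF : FF F) (hG : FF G) : FF (F ⋙ G) := by
  rw [FF_iff]
  intro K M a _ _
  rw [dmap_bijective_iff, bijective_comp_iff]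
  exact (bijective_outer hG K M a).comp (hF ⟨_, plus_Q _ a⟩ ⟨_, plus_Q _ a⟩)

theorem FF.of_comp (h : FF (F ⋙ G)) (hG : FF G) : FF F := by
  rw [FF_iff] at h ⊢
  intro K M a _ _
  rw [dmap_bijective_iff]
  have h' := h K M a
  rw [dmap_bijective_iff, bijective_comp_iff] at h'
  exact (Function.Bijective.of_comp_iff' (bijective_outer hG K M a) _).1 h'

theorem FF.of_inverse {F : C ⥤ T} {G : T ⥤ C} [F.Additive] [PreservesFiniteLimits F]
    [PreservesFiniteColimits F] [G.Additive] [PreservesFiniteLimits G] [PreservesFiniteColimits G]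
    (h : FF (F ⋙ G)) (h' : FF (G ⋙ F)) : FF F := by
  rw [FF_iff] at h h' ⊢
  intro K M a _ _
  rw [dmap_bijective_iff]
  have hFG := h K M a
  rw [dmap_bijective_iff, bijective_comp_iff] at hFG
  refine ⟨hFG.1.of_comp, fun g => ?_⟩
  obtain ⟨f, hf⟩ := hFG.2 (G.mapDerivedCategory.map g)
  refine ⟨f, ?_⟩
  have := isStrictlyGE_cx F K a
  have := isStrictlyGE_cx F M a
  have hGF := h' ((cx F).obj K) ((cx F).obj M) a
  rw [dmap_bijective_iff, bijective_comp_iff] at hGF
  have hinj : Function.Injective (G.mapDerivedCategory.map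
      (X := F.mapDerivedCategory.obj (Q.obj K)) (Y := F.mapDerivedCategory.obj (Q.obj M))) := by
    intro p q e
    have e1 := hGF.1.of_comp
    let eK := F.mapDerivedCategoryFactors.app K
    let eM := F.mapDerivedCategoryFactors.app M
    have : G.mapDerivedCategory.map (eK.inv ≫ p ≫ eM.hom) =
        G.mapDerivedCategory.map (eK.inv ≫ q ≫ eM.hom) := by
      simp only [Functor.map_comp, e]
    exact (cancel_mono eM.hom).1 ((cancel_epi eK.inv).1 (e1 this))
  exact hinj hf

end comp

section adj

variable {L : C ⥤ T} {R : T ⥤ C} (adj : L ⊣ R) [L.Additive] [R.Additive]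
  [PreservesFiniteLimits L] [PreservesFiniteColimits L]

include adj in
/-- An exact left adjoint with invertible unit and exact right adjoint is fully faithful. -/
theorem FF_of_exact [EnoughInjectives C] [EnoughInjectives T] [PreservesFiniteLimits R]
    [PreservesFiniteColimits R] [IsIso adj.unit] : FF L := by
  refine FF_of_UQ adj fun G a _ J b _ _ s hs => ?_
  have e : tr adj s = (DerAdj43.complexAdj adj (ComplexShape.up ℤ)).unit.app G ≫ (cx R).map s := rfl
  have : ∀ n, IsIso (((DerAdj43.complexAdj adj (ComplexShape.up ℤ)).unit.app G).f n) := fun n =>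
    inferInstanceAs (IsIso (adj.unit.app (G.X n)))
  have : IsIso ((DerAdj43.complexAdj adj (ComplexShape.up ℤ)).unit.app G) :=
    HomologicalComplex.Hom.isIso_of_components _
  have : QuasiIso ((cx R).map s) := inferInstance
  have : QuasiIso ((DerAdj43.complexAdj adj (ComplexShape.up ℤ)).unit.app G) := inferInstance
  rw [e]
  exact quasiIso_comp ((DerAdj43.complexAdj adj (ComplexShape.up ℤ)).unit.app G) ((cx R).map s)

end adj

section local_

/-- A family of exact functors detecting quasi-isomorphisms. -/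
theorem quasiIso_of_conservative {ι : Type t} {C₀ : ι → Type u₄} [∀ i, Category.{v₄} (C₀ i)]
    [∀ i, Abelian (C₀ i)] (r : ∀ i, C ⥤ C₀ i) [∀ i, (r i).Additive]
    [∀ i, PreservesFiniteLimits (r i)] [∀ i, PreservesFiniteColimits (r i)]
    (hr : ∀ X : C, (∀ i, IsZero ((r i).obj X)) → IsZero X)
    {K M : CochainComplex C ℤ} (f : K ⟶ M) (h : ∀ i, QuasiIso ((cx (r i)).map f)) : QuasiIso f := by
  rw [quasiIso_iff]
  intro n
  rw [quasiIsoAt_iff_isIso_homologyMap]
  have key : ∀ i, IsIso ((r i).map (HomologicalComplex.homologyMap f n)) := by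
    intro i
    have h1 : IsIso (HomologicalComplex.homologyMap ((cx (r i)).map f) n) := by
      have := h i
      infer_instance
    have h2 : IsIso (ShortComplex.homologyMap ((r i).mapShortComplex.map
        ((HomologicalComplex.shortComplexFunctor C (ComplexShape.up ℤ) n).map f))) := h1
    exact (NatIso.isIso_map_iff (ShortComplex.homologyFunctorIso (r i))
      ((HomologicalComplex.shortComplexFunctor C (ComplexShape.up ℤ) n).map f)).1 h2
  have : Mono (HomologicalComplex.homologyMap f n) :=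
    Preadditive.mono_of_isZero_kernel _ (hr _ fun i =>
      (isZero_kernel_of_mono ((r i).map (HomologicalComplex.homologyMap f n))).of_iso
        (PreservesKernel.iso (r i) _))
  have : Epi (HomologicalComplex.homologyMap f n) :=
    Preadditive.epi_of_isZero_cokernel _ (hr _ fun i =>
      (isZero_cokernel_of_epi ((r i).map (HomologicalComplex.homologyMap f n))).of_iso
        (PreservesCokernel.iso (r i) _))
  exact isIso_of_mono_of_epi _

variable {L : C ⥤ T} {R : T ⥤ C} (adj : L ⊣ R) [L.Additive] [R.Additive]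
  [PreservesFiniteLimits L] [PreservesFiniteColimits L]
  {C₀ : Type u₄} [Category.{v₄} C₀] [Abelian C₀] [HasDerivedCategory.{w₄} C₀]
  {L₀ : C₀ ⥤ U} {R₀ : U ⥤ C₀} (adj₀ : L₀ ⊣ R₀) [L₀.Additive] [R₀.Additive]
  [PreservesFiniteLimits L₀] [PreservesFiniteColimits L₀]
  (r : T ⥤ U) [r.Additive] [PreservesFiniteLimits r] [PreservesFiniteColimits r]
  (r' : C ⥤ C₀) [r'.Additive] [PreservesFiniteLimits r'] [PreservesFiniteColimits r']

/-- The data comparing an adjunction with its restriction along `(r, r')`. -/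
def IsRestriction (κ : R ⋙ r' ⟶ r ⋙ R₀) : Prop :=
  (∀ J : T, Injective J → IsIso (κ.app J) ∧ Injective (r.obj J)) ∧
    ∀ G : C, IsIso ((adj₀.homEquiv _ _).symm (r'.map (adj.unit.app G) ≫ κ.app (L.obj G)))

variable {adj adj₀ r r'}

theorem quasiIso_restrict {κ : R ⋙ r' ⟶ r ⋙ R₀} (hκ : IsRestriction adj adj₀ r r' κ)
    (h : UQ adj₀) (G : CochainComplex C ℤ) (a : ℤ) [G.IsStrictlyGE a] (J : CochainComplex T ℤ)
    (b : ℤ) [J.IsStrictlyGE b] (hJ : ∀ n, Injective (J.X n)) (s : (cx L).obj G ⟶ J)
    (hs : QuasiIso s) : QuasiIso ((cx r').map (tr adj s)) := by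
  let θ : ∀ X : C, L₀.obj (r'.obj X) ⟶ r.obj (L.obj X) := fun X =>
    (adj₀.homEquiv _ _).symm (r'.map (adj.unit.app X) ≫ κ.app (L.obj X))
  have hθ : ∀ {X Y : C} (f : X ⟶ Y), L₀.map (r'.map f) ≫ θ Y = θ X ≫ r.map (L.map f) := by
    intro X Y f
    refine (adj₀.homEquiv_naturality_left_symm _ _).symm.trans
      (Eq.trans ?_ (adj₀.homEquiv_naturality_right_symm _ _))
    congr 1
    have e := κ.naturality (L.map f)
    dsimp at e
    rw [← r'.map_comp_assoc, ← adj.unit_naturality, r'.map_comp_assoc, e, Category.assoc]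
  let Θ : (cx L₀).obj ((cx r').obj G) ⟶ (cx r).obj ((cx L).obj G) :=
    { f := fun n => θ (G.X n)
      comm' := fun i j _ => (hθ (G.d i j)).symm }
  have : ∀ n, IsIso (Θ.f n) := fun n => hκ.2 (G.X n)
  have : IsIso Θ := HomologicalComplex.Hom.isIso_of_components _
  have := isStrictlyGE_cx r' G a
  have := isStrictlyGE_cx r J b
  have : QuasiIso ((cx r).map s) := inferInstance
  have hq : QuasiIso (tr adj₀ (Θ ≫ (cx r).map s)) :=
    h ((cx r').obj G) a ((cx r).obj J) b (fun n => (hκ.1 _ (hJ n)).2) _ (quasiIso_comp Θ _)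
  let K' : (cx r').obj ((cx R).obj J) ⟶ (cx R₀).obj ((cx r).obj J) :=
    { f := fun n => κ.app (J.X n)
      comm' := fun i j _ => (κ.naturality (J.d i j)).symm }
  have : ∀ n, IsIso (K'.f n) := fun n => (hκ.1 _ (hJ n)).1
  have : IsIso K' := HomologicalComplex.Hom.isIso_of_components _
  have e : (cx r').map (tr adj s) ≫ K' = tr adj₀ (Θ ≫ (cx r).map s) := by
    ext n
    change r'.map (adj.unit.app (G.X n) ≫ R.map (s.f n)) ≫ κ.app (J.X n) =
      adj₀.unit.app (r'.obj (G.X n)) ≫ R₀.map (θ (G.X n) ≫ r.map (s.f n))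
    rw [R₀.map_comp, ← Category.assoc (adj₀.unit.app _)]
    have h1 : adj₀.unit.app (r'.obj (G.X n)) ≫ R₀.map (θ (G.X n)) =
        r'.map (adj.unit.app (G.X n)) ≫ κ.app (L.obj (G.X n)) :=
      (adj₀.homEquiv_unit _ _ _).symm.trans ((adj₀.homEquiv _ _).apply_symm_apply _)
    rw [h1]
    have e2 := κ.naturality (s.f n)
    dsimp at e2
    rw [r'.map_comp, Category.assoc]
    exact (_ ≫= e2).trans (Category.assoc _ _ _).symm
  exact quasiIso_of_comp_right ((cx r').map (tr adj s)) K' (hφφ' := e ▸ hq)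

end local_

section section_

variable {L : C ⥤ T} {R' : T ⥤ C} {S : T ⥤ T} [L.Additive] [R'.Additive] [S.Additive]
  [PreservesFiniteLimits L] [PreservesFiniteColimits L]
  [PreservesFiniteLimits R'] [PreservesFiniteColimits R']
  [PreservesFiniteLimits S] [PreservesFiniteColimits S]

/-- The section criterion. -/
theorem FF_of_section (e : L ⋙ R' ≅ 𝟭 C) (a : 𝟭 T ⟶ S) (b : R' ⋙ L ⟶ S)
    (ha : ∀ G, IsIso (a.app (L.obj G))) (hb : ∀ G, IsIso (b.app (L.obj G))) : FF L := by
  rw [FF_iff]
  intro K M _ _ _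
  rw [dmap_bijective_iff]
  have hL : ∀ N : CochainComplex C ℤ, IsIso ((dTrans a).app (L.mapDerivedCategory.obj (Q.obj N))) ∧
      IsIso ((dTrans b).app (L.mapDerivedCategory.obj (Q.obj N))) := fun N => by
    constructor
    · have := isIso_dTrans_Q a ((cx L).obj N) (fun n => ha (N.X n))
      exact (NatTrans.isIso_app_iff_of_iso _ (L.mapDerivedCategoryFactors.app N)).2 this
    · have := isIso_dTrans_Q b ((cx L).obj N) (fun n => hb (N.X n))
      exact (NatTrans.isIso_app_iff_of_iso _ (L.mapDerivedCategoryFactors.app N)).2 this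
  have hback : Function.Bijective (R'.mapDerivedCategory.map ∘
      L.mapDerivedCategory.map (X := Q.obj K) (Y := Q.obj M)) := by
    rw [← bijective_comp_iff, bijective_iff_of_natIso (dIso e)]
    letI : Localization.Lifting Q (HomologicalComplex.quasiIso C (ComplexShape.up ℤ))
        (cx (𝟭 C) ⋙ Q) (𝟭 (DerivedCategory C)) :=
      ⟨Q.rightUnitor ≪≫ Q.leftUnitor.symm ≪≫
        Functor.isoWhiskerRight (Functor.mapHomologicalComplexIdIso C (ComplexShape.up ℤ)).symm Q⟩
    rw [bijective_iff_of_natIso (Localization.liftNatIso Q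
      (HomologicalComplex.quasiIso C (ComplexShape.up ℤ)) (cx (𝟭 C) ⋙ Q) (cx (𝟭 C) ⋙ Q)
      (𝟭 C).mapDerivedCategory (𝟭 (DerivedCategory C)) (Iso.refl _))]
    exact Function.bijective_id
  refine ⟨hback.1.of_comp, fun g => ?_⟩
  obtain ⟨f, hf⟩ := hback.2 (R'.mapDerivedCategory.map g)
  refine ⟨f, ?_⟩
  have hS : S.mapDerivedCategory.map (L.mapDerivedCategory.map f) = S.mapDerivedCategory.map g := by
    have := (hL K).2
    rw [← cancel_epi ((dTrans b).app (L.mapDerivedCategory.obj (Q.obj K))), ← dTrans_dmap,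
      ← dTrans_dmap]
    congr 1
    have hcomp := (dComp R' L).inv.naturality
    rw [← cancel_mono ((dComp R' L).inv.app _), hcomp, hcomp]
    change _ ≫ L.mapDerivedCategory.map (R'.mapDerivedCategory.map _) =
      _ ≫ L.mapDerivedCategory.map (R'.mapDerivedCategory.map _)
    rw [show R'.mapDerivedCategory.map (L.mapDerivedCategory.map f) =
      R'.mapDerivedCategory.map g from hf]
  have := (hL M).1
  have h1 := dTrans_dmap a (L.mapDerivedCategory.map f)
  have h2 := dTrans_dmap a g
  rw [hS, ← h2] at h1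
  have h3 := (cancel_mono _).1 h1
  letI : Localization.Lifting Q (HomologicalComplex.quasiIso T (ComplexShape.up ℤ))
      (cx (𝟭 T) ⋙ Q) (𝟭 (DerivedCategory T)) :=
    ⟨Q.rightUnitor ≪≫ Q.leftUnitor.symm ≪≫
      Functor.isoWhiskerRight (Functor.mapHomologicalComplexIdIso T (ComplexShape.up ℤ)).symm Q⟩
  let u := Localization.liftNatIso Q (HomologicalComplex.quasiIso T (ComplexShape.up ℤ))
    (cx (𝟭 T) ⋙ Q) (cx (𝟭 T) ⋙ Q) (𝟭 T).mapDerivedCategory (𝟭 (DerivedCategory T)) (Iso.refl _)
  calc L.mapDerivedCategory.map f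
      = u.inv.app _ ≫ (𝟭 T).mapDerivedCategory.map (L.mapDerivedCategory.map f) ≫ u.hom.app _ :=
        (NatIso.naturality_1 u _).symm
    _ = u.inv.app _ ≫ (𝟭 T).mapDerivedCategory.map g ≫ u.hom.app _ := by rw [h3]
    _ = g := NatIso.naturality_1 u _

end section_

end Groth.Agent.Desc45
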