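import Groth.Agent.Desc45.Functors
import Groth.Agent.Desc45.Transfer

/-!
Calculus of inverse images along morphisms of diagrams: composition, two-cells, descent.
-/

set_option autoImplicit false
set_option linter.unusedVariables false
universe u

open CategoryTheory CategoryTheory.Limits Opposite TopologicalSpace

namespace Groth.Agent.Desc45

attribute [local instance] HasDerivedCategory.standard
attribute [local instance] comp_preservesFiniteLimits comp_preservesFiniteColimits

variable {I J K' : Type} [SmallCategory I] [SmallCategory J] [SmallCategory K']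
  {X : I ⥤ TopCat.{u}} {Y : J ⥤ TopCat.{u}} {Z : K' ⥤ TopCat.{u}}

theorem MMap.comp_pull {M : DMap Y X} {N : DMap Z Y} {G G' : Sh X} {F : Sh Y} {E : Sh Z}
    (η : MMap M G F) (θ : MMap N F E) (g : G' ⟶ G) : (η.comp θ).pull g = (η.pull g).comp θ :=
  rfl

theorem MMap.comp_push {M : DMap Y X} {N : DMap Z Y} {G : Sh X} {F : Sh Y} {E E' : Sh Z}
    (η : MMap M G F) (θ : MMap N F E) (h : E ⟶ E') : (η.comp θ).push h = η.comp (θ.push h) :=
  rfl

theorem MMap.push_comp {M : DMap Y X} {N : DMap Z Y} {G : Sh X} {F F' : Sh Y} {E : Sh Z}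
    (η : MMap M G F) (f : F ⟶ F') (θ : MMap N F' E) : (η.push f).comp θ = η.comp (θ.pull f) :=
  rfl

/-- A two-cell. -/
structure Cell (M' M : DMap Y X) where
  t : M'.idx ⟶ M.idx
  w : ∀ i, M'.map.app i ≫ X.map (t.app i) = M.map.app i

namespace Cell

variable {M' M : DMap Y X} (c : Cell M' M)

theorem pre_le (i : J) (V : Opens (X.obj (M.idx.obj i))) :
    M.pre i V ≤ (Opens.map (Y.map (𝟙 i))).obj
      (M'.pre i ((Opens.map (X.map (c.t.app i))).obj V)) :=
  Tot.le_map_id Y fun y hy => by
    change X.map (c.t.app i) (M'.map.app i y) ∈ V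
    rw [← ConcreteCategory.comp_apply, c.w i]
    exact hy

/-- Transport of a map along a two-cell. -/
def map {G : Sh X} {F : Sh Y} (η : MMap M' G F) : MMap M G F where
  app i V := res G (Tot.mkHom X (c.t.app i) le_rfl) ≫
    η.app i ((Opens.map (X.map (c.t.app i))).obj V) ≫ res F (Tot.mkHom Y (𝟙 i) (c.pre_le i V))
  natural {i j} f U V h x := by
    change res F _ (η.app i _ (res G _ (res G _ x))) = res F _ (res F _ (η.app j _ (res G _ x)))
    have e := η.natural f ((Opens.map (X.map (c.t.app i))).obj U)
      ((Opens.map (X.map (c.t.app j))).obj V) (fun y hy => by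
        change X.map (c.t.app j) (X.map (M'.idx.map f) y) ∈ V
        rw [← ConcreteCategory.comp_apply, ← X.map_comp, c.t.naturality f, X.map_comp]
        exact h hy) (res G (Tot.mkHom X (c.t.app j) le_rfl) x)
    rw [res_res] at e
    rw [res_res, res_res]
    refine (congrArg (fun q => res F _ q) ((congrArg (η.app i _)
      (res_eq G (c.t.naturality f).symm x)).trans e)).trans ?_
    rw [res_res]
    exact res_eq F ((Category.id_comp _).trans (Category.comp_id _).symm) _

theorem map_push {G : Sh X} {F F' : Sh Y} (η : MMap M' G F) (h : F ⟶ F') :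
    c.map (η.push h) = (c.map η).push h := by
  ext i V x
  exact (hom_res h _ _).symm

theorem map_pull {G G' : Sh X} {F : Sh Y} (η : MMap M' G F) (g : G' ⟶ G) :
    c.map (η.pull g) = (c.map η).pull g := by
  ext i V x
  change res F _ (η.app i _ (g.hom.app _ (res G' _ x))) =
    res F _ (η.app i _ (res G _ (g.hom.app _ x)))
  rw [hom_res g]

/-- The inverse of an invertible two-cell. -/
noncomputable def symm [IsIso c.t] : Cell M M' where
  t := inv c.t
  w i := by
    rw [← c.w i, Category.assoc, ← X.map_comp, NatIso.isIso_inv_app, IsIso.hom_inv_id, X.map_id]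
    exact Category.comp_id _

instance [IsIso c.t] : IsIso c.symm.t := inferInstanceAs (IsIso (inv c.t))

theorem map_map (d : Cell M M') (h : ∀ i, d.t.app i ≫ c.t.app i = 𝟙 _) {G : Sh X} {F : Sh Y}
    (η : MMap M G F) : c.map (d.map η) = η := by
  ext i V x
  change res F _ (res F _ (η.app i _ (res G _ (res G _ x)))) = _
  rw [res_res, res_res]
  have e := η.natural (𝟙 i)
    ((Opens.map (X.map (d.t.app i))).obj ((Opens.map (X.map (c.t.app i))).obj V)) V (by
      rw [M.idx.map_id]
      exact Tot.le_map_id X fun y hy => by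
        have hy' : X.map (c.t.app i) (X.map (d.t.app i) y) ∈ V := hy
        rw [← ConcreteCategory.comp_apply, ← X.map_comp, h i, X.map_id] at hy'
        exact hy') x
  refine (congrArg (fun q => res F _ q) ((congrArg (η.app i _) (res_eq G ((h i).trans
    (M.idx.map_id i).symm) x)).trans e)).trans ?_
  rw [res_res]
  exact res_self F _ (by simp) _

theorem map_bijective [IsIso c.t] (G : Sh X) (F : Sh Y) :
    Function.Bijective (c.map (G := G) (F := F)) :=
  Function.bijective_iff_has_inverse.2 ⟨c.symm.map,
    fun η => c.symm.map_map c (fun i => by simp [symm, NatIso.isIso_inv_app]) η,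
    fun η => c.map_map c.symm (fun i => by simp [symm, NatIso.isIso_inv_app]) η⟩

theorem map_isU [IsIso c.t] {G : Sh X} {F : Sh Y} {η : MMap M' G F} (h : η.IsU) :
    (c.map η).IsU := by
  intro K
  have : (fun g : F ⟶ K => (c.map η).push g) = c.map ∘ fun g => η.push g := by
    funext g
    exact (c.map_push η g).symm
  rw [this]
  exact (c.map_bijective G K).comp (h K)

end Cell

/-- The identity morphism. -/
abbrev idMap (X : I ⥤ TopCat.{u}) : DMap X X := ⟨𝟭 I, 𝟙 X⟩

section iso

variable (M : DMap Y X)

/-- A functor with natural universal maps is the inverse image. -/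
noncomputable def isoOfU (L' : Sh X ⥤ Sh Y) (η : ∀ G, MMap M G (L'.obj G))
    (nat : ∀ {G G' : Sh X} (g : G ⟶ G'), (η G').pull g = (η G).push (L'.map g))
    (hU : ∀ G, (η G).IsU) : L M ≅ L' :=
  Adjunction.leftAdjointUniq (adj M) (adjOfU M L' η nat hU)

/-- Restriction is an inverse image. -/
noncomputable def restrIso (hM : ∀ i, Topology.IsOpenEmbedding (M.map.app i)) :
    L M ≅ restr M hM :=
  isoOfU M (restr M hM) (restrUnit M hM) (fun g => restrUnit_nat M hM g) (restrUnit_isU M hM)

/-- Inverse images compose. -/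
noncomputable def compIso (N : DMap Z Y) : L (M.comp N) ≅ L M ⋙ L N :=
  isoOfU (M.comp N) (L M ⋙ L N) (fun G => (unit M G).comp (unit N ((L M).obj G)))
    (fun {G G'} g => by
      change ((unit M G').comp _).pull g = ((unit M G).comp (unit N _)).push _
      rw [MMap.comp_pull, unit_nat, MMap.push_comp, MMap.comp_push]
      exact congrArg _ (unit_nat N ((L M).map g)))
    (fun G => (unit_isU M G).comp (unit_isU N _))

end iso

section cellIso

variable {M' M : DMap Y X} (c : Cell M' M)

/-- Inverse images along isomorphic morphisms agree. -/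
noncomputable def cellIso [IsIso c.t] : L M ≅ L M' :=
  isoOfU M (L M') (fun G => c.map (unit M' G))
    (fun {G G'} g => by rw [← c.map_pull, unit_nat, c.map_push])
    (fun G => c.map_isU (unit_isU M' G))

/-- The transformation of inverse images of a two-cell. -/
noncomputable def cellTrans : L M ⟶ L M' where
  app G := ((adj M).homEquiv _ _).symm (mmapEquiv M G _ (c.map (unit M' G)))
  naturality {G G'} g := by
    rw [← Adjunction.homEquiv_naturality_left_symm, ← Adjunction.homEquiv_naturality_right_symm]
    congr 1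
    rw [← mmapEquiv_push]
    apply (mmapEquiv M G _).symm.injective
    rw [Equiv.symm_apply_apply, ← c.map_push, ← unit_nat, c.map_pull]
    change (ev M _).pull (g ≫ toR _) = _
    exact congrArg (fun q : MMap M G' _ => q.pull g) (ev_pull_toR _)

theorem unit_push_cellTrans (G : Sh X) :
    (unit M G).push ((cellTrans c).app G) = c.map (unit M' G) := by
  have h := ((adj M).homEquiv _ _).apply_symm_apply (mmapEquiv M G _ (c.map (unit M' G)))
  unfold adj at h
  rw [adjOfU_homEquiv] at h
  exact (mmapEquiv M G _).injective h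

/-- The transformation of a two-cell is invertible where the transported unit is universal. -/
theorem isIso_cellTrans (G : Sh X) (h : (c.map (unit M' G)).IsU) : IsIso ((cellTrans c).app G) :=
  (unit_isU M G).isIso h _ (unit_push_cellTrans c G)

end cellIso

/-- Cohomological descent along a morphism of diagrams: the inverse image is fully faithful on
bounded below derived categories. -/
def Desc (M : DMap Y X) : Prop := FF (L M)

theorem Desc.uq {M : DMap Y X} (h : Desc M) : UQ (adj M) := UQ_of_FF _ h

theorem Desc.of_uq {M : DMap Y X} (h : UQ (adj M)) : Desc M := FF_of_UQ _ h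

theorem Desc.comp {M : DMap Y X} {N : DMap Z Y} (hM : Desc M) (hN : Desc N) : Desc (M.comp N) :=
  FF.of_iso (compIso M N).symm (FF.comp hM hN)

theorem Desc.of_comp {M : DMap Y X} {N : DMap Z Y} (h : Desc (M.comp N)) (hN : Desc N) : Desc M :=
  FF.of_comp (G := L N) (FF.of_iso (compIso M N) h) hN

theorem Desc.of_cell {M' M : DMap Y X} (c : Cell M' M) [IsIso c.t] (h : Desc M') : Desc M :=
  FF.of_iso (cellIso c).symm h

/-- The universal map of the identity. -/
def idUnit (X : I ⥤ TopCat.{u}) (G : Sh X) : MMap (idMap X) G ((𝟭 (Sh X)).obj G) where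
  app i V := res G (Tot.mkHom X (𝟙 i) (Tot.le_map_id X fun x hx => hx))
  natural {i j} f U V h x := by
    change res G _ (res G _ x) = res G _ (res G _ x)
    rw [res_res, res_res]
    exact res_eq G ((Category.id_comp _).trans (Category.comp_id _).symm) x

theorem idUnit_isU (X : I ⥤ TopCat.{u}) (G : Sh X) : (idUnit X G).IsU := by
  intro K
  refine Function.bijective_iff_has_inverse.2 ⟨fun χ => ⟨{
    app := fun a => χ.app a.unop.base a.unop.opn
    naturality := fun a b φ => ConcreteCategory.hom_ext _ _ fun x => ?_ }⟩, fun h => ?_, fun χ => ?_⟩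
  · exact χ.natural φ.unop.base _ _ φ.unop.sub x
  · exact sh_hom_ext fun i V x => congrArg _ (res_self G _ rfl x)
  · ext i V x
    exact congrArg (χ.app i V) (res_self G _ rfl x)

/-- The inverse image along the identity. -/
noncomputable def idIso (X : I ⥤ TopCat.{u}) : L (idMap X) ≅ 𝟭 (Sh X) :=
  isoOfU (idMap X) (𝟭 _) (idUnit X) (fun g => by
    ext i V x
    exact (hom_res g _ x).symm) (idUnit_isU X)

theorem Desc.idMap (X : I ⥤ TopCat.{u}) : Desc (idMap X) :=
  FF.of_iso (idIso X).symm (FF_of_exact Adjunction.id)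

/-- Whiskering of a two-cell. -/
def Cell.whisker (E : DMap Y X) {M' M : DMap Z Y} (c : Cell M' M) :
    Cell (E.comp M') (E.comp M) where
  t := Functor.whiskerRight c.t E.idx
  w i := by
    change (M'.map.app i ≫ E.map.app _) ≫ X.map (E.idx.map (c.t.app i)) =
      M.map.app i ≫ E.map.app _
    rw [Category.assoc, ← c.w i, Category.assoc]
    congr 1
    exact (E.map.naturality (c.t.app i)).symm

theorem Cell.comp_map (E : DMap Y X) {M' M : DMap Z Y} (c : Cell M' M) {G : Sh X} {F : Sh Y}
    {K : Sh Z} (η : MMap E G F) (θ : MMap M' F K) :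
    η.comp (c.map θ) = (c.whisker E).map (η.comp θ) := by
  ext i V x
  let V' := (Opens.map (X.map (E.idx.map (c.t.app i)))).obj V
  change res K (Tot.mkHom Z (𝟙 i) (c.pre_le i (E.pre (M.idx.obj i) V)))
      (θ.app i ((Opens.map (Y.map (c.t.app i))).obj (E.pre (M.idx.obj i) V))
        (res F (Tot.mkHom Y (c.t.app i) le_rfl) (η.app (M.idx.obj i) V x))) =
    res K (Tot.mkHom Z (𝟙 i) ((c.whisker E).pre_le i V))
      (θ.app i (E.pre (M'.idx.obj i) V')
        (η.app (M'.idx.obj i) V' (res G (Tot.mkHom X (E.idx.map (c.t.app i)) le_rfl) x)))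
  have e := η.natural (c.t.app i) ((Opens.map (X.map (E.idx.map (c.t.app i)))).obj V) V le_rfl x
  refine Eq.trans ?_ (congrArg (fun q => res K _ (θ.app i _ q)) e).symm
  let U₁ := E.pre (M'.idx.obj i) ((Opens.map (X.map (E.idx.map (c.t.app i)))).obj V)
  let U₂ := (Opens.map (Y.map (c.t.app i))).obj (E.pre (M.idx.obj i) V)
  have hle : U₁ ≤ U₂ := (E.pre_sq (c.t.app i) V).symm.le
  have h' : U₁ ≤ (Opens.map (Y.map (M'.idx.map (𝟙 i)))).obj U₂ := by
    rw [M'.idx.map_id]
    exact Tot.le_map_id Y hle
  have e2 := θ.natural (𝟙 i) U₁ U₂ h'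
    (res F (Tot.mkHom Y (c.t.app i) le_rfl) (η.app (M.idx.obj i) V x))
  rw [res_res] at e2
  refine Eq.trans ?_ (congrArg (fun q => res K _ q) ((congrArg (θ.app i U₁) (res_eq F (by simp) _)).trans e2)).symm
  rw [res_res]
  exact res_eq K (by simp) _

theorem isIso_cellTrans_L (E : DMap Y X) {M' M : DMap Z Y} (c : Cell M' M)
    [IsIso (c.whisker E).t] (G : Sh X) : IsIso ((cellTrans c).app ((L E).obj G)) := by
  refine isIso_cellTrans c _ ((unit_isU E G).of_comp ?_)
  rw [c.comp_map E]
  exact (c.whisker E).map_isU ((unit_isU E G).comp (unit_isU M' _))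

/-- An invertible morphism of diagrams has descent. -/
theorem Desc.of_inverse {M : DMap Y X} {N : DMap X Y} (c : Cell (M.comp N) (Desc45.idMap X))
    (d : Cell (N.comp M) (Desc45.idMap Y)) [IsIso c.t] [IsIso d.t] : Desc M := by
  have h1 : Desc (M.comp N) := Desc.of_cell c.symm (Desc.idMap X)
  have h2 : Desc (N.comp M) := Desc.of_cell d.symm (Desc.idMap Y)
  exact FF.of_inverse (FF.of_iso (compIso M N) h1) (FF.of_iso (compIso N M) h2)

end Groth.Agent.Desc45
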