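import Groth.Agent.Desc45.Compare
import Mathlib.AlgebraicTopology.CechNerve

/-!
Čech nerves of maps of spaces and descent along maps with a section.
-/

set_option autoImplicit false
set_option linter.unusedVariables false
set_option backward.isDefEq.respectTransparency false
set_option backward.isDefEq.respectTransparency.types false
universe u

open CategoryTheory CategoryTheory.Limits Opposite TopologicalSpace

namespace Groth.Agent.Desc45

attribute [local instance] HasDerivedCategory.standard
attribute [local instance] comp_preservesFiniteLimits comp_preservesFiniteColimits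

/-- A model of the Čech nerve of a map. -/
structure CechModel {X S : TopCat.{u}} (f : X ⟶ S) where
  C : SimplexCategoryᵒᵖ ⥤ TopCat.{u}
  ε : ∀ n, C.obj n ⟶ S
  w : ∀ {n m : SimplexCategoryᵒᵖ} (φ : n ⟶ m), C.map φ ≫ ε m = ε n
  π : ∀ n : SimplexCategoryᵒᵖ, Fin (n.unop.len + 1) → (C.obj n ⟶ X)
  π_ε : ∀ n i, π n i ≫ f = ε n
  π_map : ∀ {n m : SimplexCategoryᵒᵖ} (φ : n ⟶ m) (i : Fin (m.unop.len + 1)),
    C.map φ ≫ π m i = π n (φ.unop.toOrderHom i)
  hom_ext : ∀ {T : TopCat.{u}} (n) (a b : T ⟶ C.obj n), (∀ i, a ≫ π n i = b ≫ π n i) → a = b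
  lift_exists : ∀ {T : TopCat.{u}} (n : SimplexCategoryᵒᵖ) (x : Fin (n.unop.len + 1) → (T ⟶ X)),
    (∀ i, x i ≫ f = x 0 ≫ f) → ∃ h : T ⟶ C.obj n, ∀ i, h ≫ π n i = x i

namespace CechModel

variable {X S : TopCat.{u}} {f : X ⟶ S} (M : CechModel f)

/-- The map into a level given by its components. -/
noncomputable def lift {T : TopCat.{u}} (n : SimplexCategoryᵒᵖ)
    (x : Fin (n.unop.len + 1) → (T ⟶ X)) (h : ∀ i, x i ≫ f = x 0 ≫ f) : T ⟶ M.C.obj n :=
  (M.lift_exists n x h).choose

@[simp]
theorem lift_π {T : TopCat.{u}} (n : SimplexCategoryᵒᵖ) (x : Fin (n.unop.len + 1) → (T ⟶ X))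
    (h : ∀ i, x i ≫ f = x 0 ≫ f) (i) : M.lift n x h ≫ M.π n i = x i :=
  (M.lift_exists n x h).choose_spec i

@[simp]
theorem lift_ε {T : TopCat.{u}} (n : SimplexCategoryᵒᵖ) (x : Fin (n.unop.len + 1) → (T ⟶ X))
    (h : ∀ i, x i ≫ f = x 0 ≫ f) : M.lift n x h ≫ M.ε n = x 0 ≫ f := by
  rw [← M.π_ε n 0, ← Category.assoc, lift_π]

/-- The augmentation. -/
abbrev aug : DMap M.C (pt S) := augMap M.ε fun φ => M.w φ

/-- Comparison of models. -/
noncomputable def compare (M' : CechModel f) : DMap M.C M'.C where
  idx := 𝟭 _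
  map :=
    { app := fun n => M'.lift n (M.π n) fun i => by rw [M.π_ε, M.π_ε]
      naturality := fun n m φ => M'.hom_ext m _ _ fun i => by
        simp only [Category.assoc, lift_π, M.π_map]
        exact ((_ ≫= M'.π_map φ i).trans (lift_π M' n (M.π n) _ _)).symm }

/-- Comparisons in both directions compose to the identity. -/
noncomputable def compareCell (M' : CechModel f) :
    Cell ((M'.compare M).comp (M.compare M')) (idMap M.C) where
  t := 𝟙 _
  w n := by
    change (M'.lift n (M.π n) (fun i => by rw [M.π_ε, M.π_ε]) ≫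
      M.lift n (M'.π n) (fun i => by rw [M'.π_ε, M'.π_ε])) ≫ M.C.map (𝟙 _) = 𝟙 _
    rw [M.C.map_id, Category.comp_id]
    exact M.hom_ext n _ _ fun i => by
      rw [Category.assoc, lift_π, lift_π, Category.id_comp]

/-- Augmentations are compatible with comparisons. -/
noncomputable def augCell (M' : CechModel f) : Cell (M'.aug.comp (M.compare M')) M.aug where
  t := { app := fun _ => Discrete.eqToHom rfl, naturality := fun _ _ _ => Subsingleton.elim _ _ }
  w n := by
    change (M'.lift n (M.π n) (fun i => by rw [M.π_ε, M.π_ε]) ≫ M'.ε n) ≫ 𝟙 _ = _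
    rw [Category.comp_id, lift_ε, M.π_ε]

instance (M' : CechModel f) : IsIso (M.compareCell M').t := inferInstanceAs (IsIso (𝟙 _))

instance isIso_discrete {K : Type} [SmallCategory K] {F G : K ⥤ Pt} (t : F ⟶ G) : IsIso t := by
  have : ∀ k, IsIso (t.app k) := fun k => inferInstance
  exact NatIso.isIso_of_isIso_app _

/-- Descent does not depend on the model. -/
theorem desc_aug_of (M' : CechModel f) (h : Desc M'.aug) : Desc M.aug :=
  Desc.of_cell (M.augCell M')
    (Desc.comp h (Desc.of_inverse (M'.compareCell M) (M.compareCell M')))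

end CechModel

section standard

variable {X S : TopCat.{u}} (f : X ⟶ S)

/-- The standard model. -/
noncomputable def stdModel : CechModel f where
  C := FibDesc.toAug SimplexCategory ⋙ FibDesc.cechAug f
  ε n := (FibDesc.cechAug f).map (toBot ((FibDesc.toAug SimplexCategory).obj n))
  w φ := by
    rw [Functor.comp_map, ← Functor.map_comp]
    exact congrArg _ (toBot_unique _)
  π n i := WidePullback.π (fun _ : Fin (n.unop.len + 1) => f) i
  π_ε n i := WidePullback.π_arrow (fun _ : Fin (n.unop.len + 1) => f) i
  π_map φ i := WidePullback.lift_π _ _ _ _ i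
  hom_ext n a b h := WidePullback.hom_ext _ _ _ h (by
    erw [← WidePullback.π_arrow (fun _ : Fin (n.unop.len + 1) => f) 0, ← Category.assoc,
      ← Category.assoc, h])
  lift_exists n x hx := ⟨WidePullback.lift (x 0 ≫ f) x hx,
    fun i => WidePullback.lift_π _ _ _ _ i⟩

theorem isCohDescentMap_iff (M : CechModel f) : FibDesc.IsCohDescentMap f ↔ Desc M.aug :=
  (isCohDescentTop_iff (FibDesc.cechAug f)).trans
    ⟨fun h => M.desc_aug_of (stdModel f) h, fun h => (stdModel f).desc_aug_of M h⟩

end standard

section sect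

/-- Adjoining a new first vertex. -/
def shift : SimplexCategory ⥤ SimplexCategory where
  obj a := SimplexCategory.mk (a.len + 1)
  map {a b} φ := SimplexCategory.Hom.mk ⟨Fin.cases 0 fun i => (φ.toOrderHom i).succ, by
    intro i j hij
    induction i using Fin.cases with
    | zero => simp
    | succ i =>
      induction j using Fin.cases with
      | zero => simp at hij
      | succ j => simpa using φ.toOrderHom.monotone (Fin.succ_le_succ_iff.1 hij)⟩
  map_id a := SimplexCategory.Hom.ext _ _ (OrderHom.ext _ _ (funext fun i => by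
    induction i using Fin.cases <;> simp))
  map_comp φ ψ := SimplexCategory.Hom.ext _ _ (OrderHom.ext _ _ (funext fun i => by
    induction i using Fin.cases <;> simp))

/-- The face omitting the new vertex. -/
def shiftTo : 𝟭 SimplexCategory ⟶ shift where
  app a := SimplexCategory.Hom.mk ⟨Fin.succ, fun i j h => Fin.succ_le_succ_iff.2 h⟩
  naturality a b φ := SimplexCategory.Hom.ext _ _ (OrderHom.ext _ _ (funext fun i => by
    simp [shift]))

/-- The new vertex. -/
def shiftVertex : (Functor.const SimplexCategory).obj (SimplexCategory.mk 0) ⟶ shift where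
  app a := SimplexCategory.Hom.mk ⟨fun _ => 0, fun _ _ _ => le_rfl⟩
  naturality a b φ := SimplexCategory.Hom.ext _ _ (OrderHom.ext _ _ (funext fun i => by
    simp [shift]))

namespace CechModel

variable {X S : TopCat.{u}} {f : X ⟶ S} (M : CechModel f) (s : S ⟶ X) (hs : s ≫ f = 𝟙 S)

/-- The section as a morphism of diagrams. -/
noncomputable def secMap : DMap (pt S) M.C where
  idx := (Functor.const Pt).obj (op (SimplexCategory.mk 0))
  map :=
    { app := fun _ => M.lift (op (SimplexCategory.mk 0)) (fun _ => s) (fun _ => rfl)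
      naturality := fun a b φ => by
        obtain ⟨⟨⟩⟩ := a
        obtain ⟨⟨⟩⟩ := b
        rw [Subsingleton.elim φ (𝟙 _), CategoryTheory.Functor.map_id]
        change 𝟙 S ≫ _ = _ ≫ M.C.map (𝟙 _)
        rw [M.C.map_id, Category.id_comp]
        exact (Category.comp_id _).symm }

/-- The components of the contraction. -/
noncomputable def shiftComp (n : SimplexCategoryᵒᵖ) :
    Fin ((shift.op.obj n).unop.len + 1) → (M.C.obj n ⟶ X) :=
  Fin.cases (M.ε n ≫ s) (M.π n)

include hs in
theorem shiftComp_cond (n : SimplexCategoryᵒᵖ) (i) :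
    M.shiftComp s n i ≫ f = M.shiftComp s n 0 ≫ f := by
  have h0 : M.shiftComp s n 0 ≫ f = M.ε n := by
    change (M.ε n ≫ s) ≫ f = _
    rw [Category.assoc, hs, Category.comp_id]
  rw [h0]
  refine Fin.cases ?_ (fun j => ?_) i
  · exact h0
  · exact M.π_ε n j

/-- The contraction. -/
noncomputable def contract : DMap M.C M.C where
  idx := shift.op
  map :=
    { app := fun n => M.lift (shift.op.obj n) (M.shiftComp s n) (M.shiftComp_cond s hs n)
      naturality := fun n m φ => M.hom_ext (shift.op.obj m) _ _ fun i => by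
        rw [Category.assoc, Category.assoc, lift_π, Functor.comp_map, M.π_map, lift_π]
        refine Fin.cases ?_ (fun j => ?_) i
        · change M.C.map φ ≫ M.ε m ≫ s = M.ε n ≫ s
          rw [← Category.assoc, M.w]
        · exact M.π_map φ j }

/-- From the identity to the contraction. -/
noncomputable def cellA : Cell (M.contract s hs) (idMap M.C) where
  t := { app := fun n => (shiftTo.app n.unop).op
         naturality := fun n m φ => Quiver.Hom.unop_inj (shiftTo.naturality φ.unop).symm }
  w n := M.hom_ext n _ _ fun i => by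
    change (M.lift (shift.op.obj n) (M.shiftComp s n) (M.shiftComp_cond s hs n) ≫ M.C.map (shiftTo.app n.unop).op) ≫ _ =
      𝟙 _ ≫ _
    rw [Category.id_comp, Category.assoc]
    exact (_ ≫= M.π_map ((shiftTo.app n.unop).op : shift.op.obj n ⟶ n) i).trans
      (lift_π M (shift.op.obj n) (M.shiftComp s n) _ _)

/-- From the projection to the section to the contraction. -/
noncomputable def cellB : Cell (M.contract s hs) ((M.secMap s).comp M.aug) where
  t := { app := fun n => (shiftVertex.app n.unop).op
         naturality := fun n m φ => Quiver.Hom.unop_inj (shiftVertex.naturality φ.unop).symm }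
  w n := M.hom_ext _ _ _ fun i => by
    change (M.lift (shift.op.obj n) (M.shiftComp s n) (M.shiftComp_cond s hs n) ≫ M.C.map (shiftVertex.app n.unop).op) ≫ _ =
      (M.ε n ≫ M.lift _ (fun _ => s) (fun _ => rfl)) ≫ _
    rw [Category.assoc, Category.assoc]
    refine ((_ ≫= M.π_map
      ((shiftVertex.app n.unop).op : shift.op.obj n ⟶ op (SimplexCategory.mk 0)) i).trans
      (lift_π M (shift.op.obj n) (M.shiftComp s n) _ _)).trans ?_
    exact (_ ≫= lift_π M (op (SimplexCategory.mk 0)) (fun _ => s) (fun _ => rfl) i).symm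

/-- The section splits the augmentation. -/
noncomputable def cellC : Cell (M.aug.comp (M.secMap s)) (idMap (pt S)) where
  t := { app := fun _ => Discrete.eqToHom (Subsingleton.elim _ _)
         naturality := fun _ _ _ => Subsingleton.elim _ _ }
  w k := by
    obtain ⟨⟨⟩⟩ := k
    change (M.lift _ (fun _ => s) (fun _ => rfl) ≫ M.ε _) ≫ 𝟙 _ = 𝟙 S
    rw [Category.comp_id, lift_ε, hs]

include hs in
/-- Descent along a map with a section. -/
theorem desc_of_section : Desc M.aug := by
  let e : L M.aug ⋙ L (M.secMap s) ≅ 𝟭 (Sh (pt S)) :=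
    (compIso M.aug (M.secMap s)).symm ≪≫ (cellIso (M.cellC s hs)).symm ≪≫ idIso (pt S)
  let a : 𝟭 (Sh M.C) ⟶ L (M.contract s hs) := (idIso M.C).inv ≫ cellTrans (M.cellA s hs)
  let b : L (M.secMap s) ⋙ L M.aug ⟶ L (M.contract s hs) :=
    (compIso (M.secMap s) M.aug).inv ≫ cellTrans (M.cellB s hs)
  refine FF_of_section e a b (fun G => ?_) (fun G => ?_)
  · have := isIso_cellTrans_L M.aug (M.cellA s hs) G
    simp only [a, NatTrans.comp_app]
    infer_instance
  · have := isIso_cellTrans_L M.aug (M.cellB s hs) G
    simp only [b, NatTrans.comp_app]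
    infer_instance

end CechModel

theorem isCohDescentMap_of_section {X S : TopCat.{u}} (f : X ⟶ S) (s : S ⟶ X) (hs : s ≫ f = 𝟙 S) :
    FibDesc.IsCohDescentMap f :=
  (isCohDescentMap_iff f (stdModel f)).2 ((stdModel f).desc_of_section s hs)

theorem isUnivCohDescentMap_of_section {X S : TopCat.{u}} (f : X ⟶ S) (s : S ⟶ X)
    (h : s ≫ f = 𝟙 S) : FibDesc.IsUnivCohDescentMap f := fun S' g =>
  isCohDescentMap_of_section _ (pullback.lift (g ≫ s) (𝟙 S')
    (by rw [Category.assoc, h, Category.comp_id, Category.id_comp])) (pullback.lift_snd _ _ _)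

end sect

end Groth.Agent.Desc45
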