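import Groth.Prelude.Def_FibDesc
import Groth.Agent.Fib44.FibSiteTotal
import Groth.Agent.Desc45.Calculus

/-!
Comparison of cohomological descent of an augmented diagram of spaces with descent of the associated
morphism of diagrams.
-/

set_option autoImplicit false
set_option linter.unusedVariables false
set_option backward.isDefEq.respectTransparency false
set_option backward.isDefEq.respectTransparency.types false
universe u

open CategoryTheory CategoryTheory.Limits Opposite TopologicalSpace Pseudofunctor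
  Pseudofunctor.CoGrothendieck

namespace Groth.Agent.Desc45

attribute [local instance] HasDerivedCategory.standard
attribute [local instance] comp_preservesFiniteLimits comp_preservesFiniteColimits

/-- The one-object index category. -/
abbrev Pt : Type := Discrete PUnit.{1}

/-- The one-space diagram. -/
abbrev pt (S : TopCat.{u}) : Pt ⥤ TopCat.{u} := Functor.fromPUnit S

variable {D : Type} [SmallCategory D]

/-- The morphism to a point of a diagram with an augmentation. -/
abbrev augMap {S : TopCat.{u}} {C : D ⥤ TopCat.{u}} (ε : ∀ d, C.obj d ⟶ S)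
    (w : ∀ {d d' : D} (f : d ⟶ d'), C.map f ≫ ε d' = ε d) : DMap C (pt S) where
  idx := (Functor.const D).obj ⟨PUnit.unit⟩
  map :=
    { app := ε
      naturality := fun d d' f => (w f).trans (Category.comp_id (ε d)).symm }

variable (Y : (WithInitial D)ᵒᵖ ⥤ TopCat.{u})

/-- The morphism to the final object of the augmented index category. -/
abbrev toBot (i : (WithInitial D)ᵒᵖ) : i ⟶ FibDesc.bot D :=
  (WithInitial.starInitial.to i.unop).op

theorem toBot_unique {i : (WithInitial D)ᵒᵖ} (f : i ⟶ FibDesc.bot D) : f = toBot i :=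
  Quiver.Hom.unop_inj (WithInitial.starInitial.hom_ext _ _)

/-- The structure morphism of the full augmented diagram. -/
abbrev fullAug : DMap Y (pt (Y.obj (FibDesc.bot D))) :=
  augMap (fun i => Y.map (toBot i)) fun {i i'} f => by
    rw [← Y.map_comp, toBot_unique (f ≫ toBot i')]

/-- The augmentation of the part. -/
abbrev partAug : DMap (FibDesc.toAug D ⋙ Y) (pt (Y.obj (FibDesc.bot D))) :=
  augMap (fun i => Y.map (toBot ((FibDesc.toAug D).obj i))) fun {i i'} f => by
    rw [Functor.comp_map, ← Y.map_comp]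
    exact congrArg Y.map (toBot_unique _)

theorem isPreFibSite : FibSite.IsPreFibSite (FibDesc.topAug Y) (FibDesc.topAugTop Y) :=
  fun R S f => inferInstanceAs ((Opens.map (Y.map f)).IsContinuous
    (Opens.grothendieckTopology (Y.obj S)) (Opens.grothendieckTopology (Y.obj R)))

theorem isPreFibSite_part : FibSite.IsPreFibSite (FibDesc.part (FibDesc.topAug Y))
    (FibDesc.partTop (FibDesc.topAug Y) (FibDesc.topAugTop Y)) :=
  fun R S f => isPreFibSite Y ((FibDesc.toAug D).map f)

theorem cg_ext {a b : ∫ᶜ (FibDesc.topAug Y)} {f g : a ⟶ b} (h : f.base = g.base) : f = g := by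
  obtain ⟨f1, f2⟩ := f
  obtain ⟨g1, g2⟩ := g
  change f1 = g1 at h
  subst h
  congr 1
  exact Subsingleton.elim (α := (_ : Opens (Y.obj a.base)) ⟶ _) f2 g2

theorem cg_ext_part {a b : ∫ᶜ (FibDesc.part (FibDesc.topAug Y))} {f g : a ⟶ b}
    (h : f.base = g.base) : f = g := by
  obtain ⟨f1, f2⟩ := f
  obtain ⟨g1, g2⟩ := g
  change f1 = g1 at h
  subst h
  congr 1
  exact Subsingleton.elim (α := (_ : Opens ((FibDesc.toAug D ⋙ Y).obj a.base)) ⟶ _) f2 g2

/-- The two total categories of the augmented diagram agree. -/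
noncomputable def fullTo : Tot Y ⥤ ∫ᶜ (FibDesc.topAug Y) where
  obj a := ⟨a.base, a.opn⟩
  map {a b} φ := ⟨φ.base, homOfLE (X := Opens (Y.obj a.base)) φ.sub⟩
  map_id _ := cg_ext Y rfl
  map_comp _ _ := cg_ext Y rfl

/-- Inverse of `fullTo`. -/
noncomputable def fullFrom : ∫ᶜ (FibDesc.topAug Y) ⥤ Tot Y where
  obj a := ⟨a.base, a.fiber⟩
  map {a b} φ := ⟨φ.base, leOfHom (X := Opens (Y.obj a.base)) φ.fiber⟩
  map_id _ := Tot.hom_ext rfl
  map_comp _ _ := Tot.hom_ext rfl

/-- The two total categories of the part agree. -/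
noncomputable def partTo : Tot (FibDesc.toAug D ⋙ Y) ⥤ ∫ᶜ (FibDesc.part (FibDesc.topAug Y)) where
  obj a := ⟨a.base, a.opn⟩
  map {a b} φ := ⟨φ.base, homOfLE (X := Opens ((FibDesc.toAug D ⋙ Y).obj a.base)) φ.sub⟩
  map_id _ := cg_ext_part Y rfl
  map_comp _ _ := cg_ext_part Y rfl

/-- Inverse of `partTo`. -/
noncomputable def partFrom : ∫ᶜ (FibDesc.part (FibDesc.topAug Y)) ⥤ Tot (FibDesc.toAug D ⋙ Y) where
  obj a := ⟨a.base, a.fiber⟩
  map {a b} φ := ⟨φ.base, leOfHom (X := Opens ((FibDesc.toAug D ⋙ Y).obj a.base)) φ.fiber⟩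
  map_id _ := Tot.hom_ext rfl
  map_comp _ _ := Tot.hom_ext rfl

/-- The base site. -/
noncomputable def baseFrom : (FibDesc.topAug Y).obj ⟨op (FibDesc.bot D)⟩ ⥤ Tot (pt (Y.obj (FibDesc.bot D))) :=
  Tot.ι (pt (Y.obj (FibDesc.bot D))) ⟨PUnit.unit⟩

/-- The base site. -/
noncomputable def baseTo : Tot (pt (Y.obj (FibDesc.bot D))) ⥤ (FibDesc.topAug Y).obj ⟨op (FibDesc.bot D)⟩ where
  obj a := a.opn
  map {a b} φ := homOfLE (X := Opens (Y.obj (FibDesc.bot D))) fun x hx => φ.sub hx
  map_id _ := Subsingleton.elim (α := ((_ : Opens (Y.obj (FibDesc.bot D))) ⟶ _)) _ _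
  map_comp _ _ := Subsingleton.elim (α := ((_ : Opens (Y.obj (FibDesc.bot D))) ⟶ _)) _ _

instance : (baseTo Y).IsContinuous (Tot.top (pt (Y.obj (FibDesc.bot D))))
    (FibDesc.topAugTop Y (FibDesc.bot D)) :=
  Tot.isContinuous_of_fibres _ _ fun i => by
    obtain ⟨⟨⟩⟩ := i
    have h : (𝟭 ((FibDesc.topAug Y).obj ⟨op (FibDesc.bot D)⟩)).IsContinuous
        (FibDesc.topAugTop Y (FibDesc.bot D)) (FibDesc.topAugTop Y (FibDesc.bot D)) := inferInstance
    exact @Functor.isContinuous_of_iso _ _ _ _ (𝟭 ((FibDesc.topAug Y).obj ⟨op (FibDesc.bot D)⟩)) _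
      (NatIso.ofComponents (fun _ => Iso.refl _) fun f =>
        Subsingleton.elim (α := ((_ : Opens (Y.obj (FibDesc.bot D))) ⟶ _)) _ _) _ _ h

instance : (baseFrom Y).IsContinuous (FibDesc.topAugTop Y (FibDesc.bot D))
    (Tot.top (pt (Y.obj (FibDesc.bot D)))) :=
  Tot.isContinuous_ι _ _

instance : (fullTo Y).IsContinuous (Tot.top Y)
    (FibDesc.totAug (FibDesc.topAug Y) (FibDesc.topAugTop Y)) :=
  Tot.isContinuous_of_fibres _ _ fun i => by
    have := Fib44.isContinuous_ι (isPreFibSite Y) i
    exact Functor.isContinuous_of_iso (F₁ := ι (FibDesc.topAug Y) i)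
      (NatIso.ofComponents (fun _ => Iso.refl _) fun f => cg_ext Y (by simp [fullTo, Tot.ι])) _ _

instance : (fullFrom Y).IsContinuous (FibDesc.totAug (FibDesc.topAug Y) (FibDesc.topAugTop Y))
    (Tot.top Y) :=
  (Fib44.isContinuous_total_iff (isPreFibSite Y) _ _).2 fun i =>
    Functor.isContinuous_of_iso (F₁ := Tot.ι Y i)
      (NatIso.ofComponents (fun _ => Iso.refl _) fun f => Tot.hom_ext (by simp [fullFrom, Tot.ι])) _ _

instance : (partTo Y).IsContinuous (Tot.top (FibDesc.toAug D ⋙ Y))
    (FibDesc.totPart (FibDesc.topAug Y) (FibDesc.topAugTop Y)) :=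
  Tot.isContinuous_of_fibres _ _ fun i => by
    exact @Functor.isContinuous_of_iso _ _ _ _ (ι (FibDesc.part (FibDesc.topAug Y)) i) _
      (NatIso.ofComponents (fun _ => Iso.refl _) fun f => cg_ext_part Y (by simp [partTo, Tot.ι])) _ _
      (Fib44.isContinuous_ι (isPreFibSite_part Y) i)

instance : (partFrom Y).IsContinuous (FibDesc.totPart (FibDesc.topAug Y) (FibDesc.topAugTop Y))
    (Tot.top (FibDesc.toAug D ⋙ Y)) :=
  (Fib44.isContinuous_total_iff (isPreFibSite_part Y) _ _).2 fun i =>
    @Functor.isContinuous_of_iso _ _ _ _ (Tot.ι (FibDesc.toAug D ⋙ Y) i) _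
      (NatIso.ofComponents (fun _ => Iso.refl _) fun f => Tot.hom_ext (by simp [partFrom, Tot.ι])) _ _
      (Tot.isContinuous_ι _ i)

theorem eps_continuous : (FibDesc.eps (FibDesc.topAug Y)).IsContinuous
    (FibDesc.topAugTop Y (FibDesc.bot D))
    (FibDesc.totAug (FibDesc.topAug Y) (FibDesc.topAugTop Y)) :=
  Fib44.isContinuous_ι (isPreFibSite Y) _

theorem incl_continuous : (FibDesc.incl (FibDesc.topAug Y)).IsContinuous
    (FibDesc.totPart (FibDesc.topAug Y) (FibDesc.topAugTop Y))
    (FibDesc.totAug (FibDesc.topAug Y) (FibDesc.topAugTop Y)) := by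
  refine (Fib44.isContinuous_total_iff (isPreFibSite_part Y) _ _).2 fun i => ?_
  have := Fib44.isContinuous_ι (isPreFibSite Y) ((FibDesc.toAug D).obj i)
  exact Functor.isContinuous_of_iso
    (F₁ := ι (FibDesc.topAug Y) ((FibDesc.toAug D).obj i))
    (NatIso.ofComponents (fun _ => Iso.refl _) fun f => cg_ext Y (by
      simp [FibSite.baseChangeFunctor])) _ _

theorem incl_cocontinuous : (FibDesc.incl (FibDesc.topAug Y)).IsCocontinuous
    (FibDesc.totPart (FibDesc.topAug Y) (FibDesc.topAugTop Y))
    (FibDesc.totAug (FibDesc.topAug Y) (FibDesc.topAugTop Y)) := by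
  refine ⟨fun {a T} hT => (Fib44.mem_total_iff_pullback (isPreFibSite_part Y) _).2 ?_⟩
  have h := (Fib44.mem_total_iff_pullback (isPreFibSite Y) T).1 hT
  refine GrothendieckTopology.superset_covering _ (fun V f hf => ?_) h
  change T _
  have hf' : T ((ι (FibDesc.topAug Y) ((FibDesc.toAug D).obj a.base)).map f) := hf
  refine Eq.mp (congrArg (fun q => T q) (cg_ext Y ?_)) hf'
  exact ((FibDesc.toAug D).map_id a.base).symm

/-- The morphism selecting the base. -/
abbrev botMap : DMap (pt (Y.obj (FibDesc.bot D))) Y where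
  idx := Functor.fromPUnit (FibDesc.bot D)
  map :=
    { app := fun _ => 𝟙 _
      naturality := fun _ _ f => by simp }

theorem isOpenEmbedding_botMap (k : Pt) : Topology.IsOpenEmbedding ((botMap Y).map.app k) :=
  Topology.IsOpenEmbedding.id

theorem img_botMap (k : Pt) (U : Opens (Y.obj (FibDesc.bot D))) :
    ((isOpenEmbedding_botMap Y k).functor.obj U) = U :=
  Opens.ext (Set.image_id (U : Set (Y.obj (FibDesc.bot D))))

theorem le_dom_bot {a : Tot (pt (Y.obj (FibDesc.bot D)))} {i : (WithInitial D)ᵒᵖ}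
    (f : (fullAug Y).idx.obj i ⟶ a.base) :
    dom (fullAug Y) a f ≤ (Opens.map (Y.map (toBot i))).obj
      ((isOpenEmbedding_botMap Y a.base).functor.obj a.opn) := by
  rw [img_botMap]
  exact fun x hx => hx

/-- The direct image along the full augmentation is evaluation at the base. -/
noncomputable def botEval : R (fullAug Y) ⟶ restr (botMap Y) (isOpenEmbedding_botMap Y) where
  app F := ⟨{
    app := fun a => AddCommGrpCat.ofHom
      { toFun := fun x : famGroup (fullAug Y) F a.unop =>
          res F (Tot.mkHom Y (𝟙 _) (Tot.le_map_id Y (by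
            rw [img_botMap]
            intro y hy
            have : Y.map (toBot (FibDesc.bot D)) y = y := by
              rw [← toBot_unique (𝟙 _), Y.map_id]
              rfl
            change Y.map (toBot (FibDesc.bot D)) y ∈ a.unop.opn
            rw [this]
            exact hy))) (x.1 (FibDesc.bot D) (Discrete.eqToHom rfl))
        map_zero' := map_zero _
        map_add' := fun x y => map_add _ _ _ }
    naturality := fun a b φ => ConcreteCategory.hom_ext _ _ fun x => by
      change res F _ (res F (Tot.mkHom Y (𝟙 _) _) ((x : famGroup (fullAug Y) F a.unop).1 _ _)) =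
        res F _ (res F _ ((x : famGroup (fullAug Y) F a.unop).1 _ _))
      rw [res_res, res_res]
      refine fam_congr (x : famGroup (fullAug Y) F a.unop).1 (Subsingleton.elim _ _) _ _ ?_
      exact (toBot_unique _).trans (toBot_unique _).symm }⟩
  naturality {F F'} h := sh_hom_ext fun k U x => (hom_res h _ _).symm

instance (F : Sh Y) : IsIso ((botEval Y).app F) := by
  have : ∀ a, IsIso (((botEval Y).app F).hom.app a) := fun a => by
    refine (ConcreteCategory.isIso_iff_bijective _).2 ⟨fun x x' e => ?_, fun y => ?_⟩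
    · refine Subtype.ext (funext fun i => funext fun f => ?_)
      let φ : (⟨i, dom (fullAug Y) a.unop f⟩ : Tot Y) ⟶
          ((botMap Y).img (isOpenEmbedding_botMap Y)).obj a.unop :=
        Tot.mkHom Y (toBot i) (le_dom_bot Y f)
      have h := congrArg (fun q => res F φ q) e
      have hx : ∀ z : famGroup (fullAug Y) F a.unop,
          res F φ (((botEval Y).app F).hom.app a z) = z.1 i f := by
        intro z
        refine (res_res F _ _ _).trans ?_
        refine Eq.trans ?_ ((z.2 i (FibDesc.bot D) (toBot i) (Discrete.eqToHom rfl)).trans ?_)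
        · exact res_eq F (Category.comp_id _) _
        · exact (res_self F (𝟙 _) rfl _).symm.trans
            ((fam_congr z.1 (Subsingleton.elim _ _) (𝟙 _) (Tot.mkHom Y (𝟙 i)
              (Tot.le_map_id Y fun q hq => hq)) rfl).trans (res_self F _ rfl _))
      exact (hx x).symm.trans (h.trans (hx x'))
    · let z : famGroup (fullAug Y) F a.unop := ⟨fun i f => res F (Tot.mkHom Y (toBot i) (le_dom_bot Y f)) y,
        fun i i' g f' => (res_res F _ _ _).trans (res_eq F (toBot_unique _) _)⟩
      refine ⟨z, ?_⟩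
      refine (res_res F _ _ _).trans ?_
      exact res_self F _ ((Category.id_comp _).trans (toBot_unique _).symm) _
  have : IsIso ((botEval Y).app F).hom := NatIso.isIso_of_isIso_app _
  have : IsIso ((sheafToPresheaf _ _).map ((botEval Y).app F)) := this
  exact isIso_of_reflects_iso _ (sheafToPresheaf _ _)

section equiv

variable {C D' : Type u} [SmallCategory C] [SmallCategory D'] {J : GrothendieckTopology C}
  {K : GrothendieckTopology D'} (F : C ⥤ D') (G : D' ⥤ C) [F.IsContinuous J K]
  [G.IsContinuous K J] (η : 𝟭 C ≅ F ⋙ G) (ε : G ⋙ F ≅ 𝟭 D')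

/-- Equivalent sites have equivalent sheaves. -/
noncomputable def sheafEquiv : Sheaf K AddCommGrpCat.{u} ≌ Sheaf J AddCommGrpCat.{u} :=
  CategoryTheory.Equivalence.mk (F.sheafPushforwardContinuous AddCommGrpCat.{u} J K)
    (G.sheafPushforwardContinuous AddCommGrpCat.{u} K J)
    ((Functor.sheafPushforwardContinuousComp' ε AddCommGrpCat.{u} K J K ≪≫
      Functor.sheafPushforwardContinuousId AddCommGrpCat.{u} K).symm)
    (Functor.sheafPushforwardContinuousComp' η.symm AddCommGrpCat.{u} J K J ≪≫
      Functor.sheafPushforwardContinuousId AddCommGrpCat.{u} J)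

end equiv

instance : IsIso (botEval Y) := NatIso.isIso_of_isIso_app _

theorem eqToHom_base {I : Type} [SmallCategory I] {X : I ⥤ TopCat.{u}} {a b : Tot X} (h : a = b) :
    Tot.Hom.base (eqToHom h) = eqToHom (congrArg Tot.base h) := by
  subst h
  rfl

/-- Base sheaves. -/
noncomputable def baseEquiv : Sh (pt (Y.obj (FibDesc.bot D))) ≌
    FibDesc.BaseSh (FibDesc.topAug Y) (FibDesc.topAugTop Y) AddCommGrpCat.{u} :=
  sheafEquiv (baseFrom Y) (baseTo Y) (NatIso.ofComponents (fun _ => Iso.refl _))
    (NatIso.ofComponents (fun a => eqToIso (by obtain ⟨⟨⟨⟩⟩, U⟩ := a; rfl))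
      fun f => Tot.hom_ext (Subsingleton.elim _ _))

/-- Sheaves on the full diagram. -/
noncomputable def fullEquiv : Sheaf (FibDesc.totAug (FibDesc.topAug Y) (FibDesc.topAugTop Y))
    AddCommGrpCat.{u} ≌ Sh Y :=
  sheafEquiv (fullTo Y) (fullFrom Y)
    (NatIso.ofComponents (fun _ => Iso.refl _) fun f => Tot.hom_ext (by simp [fullTo, fullFrom]))
    (NatIso.ofComponents (fun _ => Iso.refl _) fun f => cg_ext Y (by simp [fullTo, fullFrom]))

/-- Sheaves on the part. -/
noncomputable def partEquiv : FibDesc.DSh (FibDesc.topAug Y) (FibDesc.topAugTop Y)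
    AddCommGrpCat.{u} ≌ Sh (FibDesc.toAug D ⋙ Y) :=
  sheafEquiv (partTo Y) (partFrom Y)
    (NatIso.ofComponents (fun _ => Iso.refl _) fun f => Tot.hom_ext (by simp [partTo, partFrom]))
    (NatIso.ofComponents (fun _ => Iso.refl _) fun f => cg_ext_part Y (by simp [partTo, partFrom]))

attribute [local instance] eps_continuous incl_continuous incl_cocontinuous

/-- Right adjoints agree at the base. -/
noncomputable def restrBotIso :
    ((fullEquiv Y).functor ⋙ restr (botMap Y) (isOpenEmbedding_botMap Y)) ⋙ (baseEquiv Y).functor ≅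
      FibSite.restr (FibDesc.topAug Y) (FibDesc.topAugTop Y) AddCommGrpCat.{u} (FibDesc.bot D) := by
  let A := baseFrom Y
  let B := (botMap Y).img (isOpenEmbedding_botMap Y)
  let E := fullTo Y
  have : (A ⋙ B).IsContinuous (FibDesc.topAugTop Y (FibDesc.bot D)) (Tot.top Y) :=
    Functor.isContinuous_comp _ _ _ (Tot.top (pt (Y.obj (FibDesc.bot D)))) _
  let e : (A ⋙ B) ⋙ E ≅ FibDesc.eps (FibDesc.topAug Y) :=
    NatIso.ofComponents (fun U => eqToIso (by
      change (⟨FibDesc.bot D, _⟩ : ∫ᶜ (FibDesc.topAug Y)) = ⟨FibDesc.bot D, U⟩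
      exact congrArg (fun V => (⟨FibDesc.bot D, V⟩ : ∫ᶜ (FibDesc.topAug Y))) (img_botMap Y _ U)))
      fun f => cg_ext Y ((toBot_unique _).trans (toBot_unique _).symm)
  exact Functor.associator _ _ _ ≪≫
    Functor.isoWhiskerLeft _ (Functor.sheafPushforwardContinuousComp A B AddCommGrpCat.{u}
      (FibDesc.topAugTop Y (FibDesc.bot D)) (Tot.top (pt (Y.obj (FibDesc.bot D)))) (Tot.top Y)) ≪≫
    Functor.sheafPushforwardContinuousComp' e AddCommGrpCat.{u}
      (FibDesc.topAugTop Y (FibDesc.bot D)) (Tot.top Y)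
      (FibDesc.totAug (FibDesc.topAug Y) (FibDesc.topAugTop Y))

/-- Extension from the base. -/
noncomputable def extendIso :
    FibSite.extend (FibDesc.topAug Y) (FibDesc.topAugTop Y) AddCommGrpCat.{u} (FibDesc.bot D) ≅
      (baseEquiv Y).inverse ⋙ L (fullAug Y) ⋙ (fullEquiv Y).inverse :=
  Adjunction.leftAdjointUniq
    ((FibDesc.eps (FibDesc.topAug Y)).sheafAdjunctionContinuous AddCommGrpCat.{u} _ _)
    (((baseEquiv Y).symm.toAdjunction.comp ((adj (fullAug Y)).ofNatIsoRight (asIso (botEval Y))
      |>.comp (fullEquiv Y).symm.toAdjunction)).ofNatIsoRight (restrBotIso Y))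

/-- The inclusion of the part. -/
abbrev partMap : DMap (FibDesc.toAug D ⋙ Y) Y := bcMap (FibDesc.toAug D) Y

/-- Restriction to the part. -/
noncomputable def inclIso :
    (fullEquiv Y).inverse ⋙ (FibDesc.incl (FibDesc.topAug Y)).sheafPushforwardContinuous
        AddCommGrpCat.{u} (FibDesc.totPart (FibDesc.topAug Y) (FibDesc.topAugTop Y))
        (FibDesc.totAug (FibDesc.topAug Y) (FibDesc.topAugTop Y)) ≅
      restr (partMap Y) (isOpenEmbedding_bcMap _ _) ⋙ (partEquiv Y).inverse := by
  let B := (partMap Y).img (isOpenEmbedding_bcMap _ _)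
  have : (FibDesc.incl (FibDesc.topAug Y) ⋙ fullFrom Y).IsContinuous
      (FibDesc.totPart (FibDesc.topAug Y) (FibDesc.topAugTop Y)) (Tot.top Y) :=
    Functor.isContinuous_comp _ _ _ (FibDesc.totAug (FibDesc.topAug Y) (FibDesc.topAugTop Y)) _
  let e : partFrom Y ⋙ B ≅ FibDesc.incl (FibDesc.topAug Y) ⋙ fullFrom Y :=
    NatIso.ofComponents (fun a => eqToIso (congrArg (fun V => (⟨_, V⟩ : Tot Y))
      (Opens.ext (Set.image_id _))))
      fun f => Tot.hom_ext (by simp [fullFrom, partFrom, B, DMap.img, bcMap, eqToHom_base]; rfl)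
  exact Functor.sheafPushforwardContinuousComp _ _ AddCommGrpCat.{u} _ _ _ ≪≫
    (Functor.sheafPushforwardContinuousComp' e AddCommGrpCat.{u} _
      (Tot.top (FibDesc.toAug D ⋙ Y)) _).symm

/-- The two-cell between the augmentations. -/
abbrev partCell : Cell ((fullAug Y).comp (partMap Y)) (partAug Y) where
  t := { app := fun _ => Discrete.eqToHom rfl
         naturality := fun _ _ _ => Subsingleton.elim _ _ }
  w i := by
    change (𝟙 _ ≫ _) ≫ 𝟙 _ = _
    simp
    rfl

instance : IsIso (partCell Y).t := by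
  have : ∀ i, IsIso ((partCell Y).t.app i) := fun _ => inferInstance
  exact NatIso.isIso_of_isIso_app _

/-- The inverse image of the prelude is ours. -/
noncomputable def pullIso [((FibDesc.eps (FibDesc.topAug Y)).sheafPushforwardContinuous
      AddCommGrpCat.{u} (FibDesc.topAugTop Y (FibDesc.bot D))
      (FibDesc.totAug (FibDesc.topAug Y) (FibDesc.topAugTop Y))).IsRightAdjoint] :
    FibDesc.pull (FibDesc.topAug Y) (FibDesc.topAugTop Y) AddCommGrpCat.{u} ≅
      (baseEquiv Y).inverse ⋙ L (partAug Y) ⋙ (partEquiv Y).inverse :=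
  Functor.isoWhiskerRight (extendIso Y) _ ≪≫ Functor.associator _ _ _ ≪≫
    Functor.isoWhiskerLeft _ (Functor.associator _ _ _ ≪≫ Functor.isoWhiskerLeft _ (inclIso Y) ≪≫
      (Functor.associator _ _ _).symm ≪≫
      Functor.isoWhiskerRight (Functor.isoWhiskerLeft _ (restrIso _ _).symm ≪≫
        (compIso _ _).symm ≪≫ (cellIso (partCell Y)).symm) _)

theorem FF_equivalence {C T : Type (u + 1)} [Category.{u} C] [Category.{u} T] [Abelian C] [Abelian T]
    [EnoughInjectives C] [EnoughInjectives T] (e : C ≌ T) [e.functor.Additive] [e.inverse.Additive]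
    [PreservesFiniteLimits e.functor] [PreservesFiniteColimits e.functor]
    [PreservesFiniteLimits e.inverse] [PreservesFiniteColimits e.inverse] : FF e.functor := by
  have : IsIso e.toAdjunction.unit := inferInstanceAs (IsIso e.unit)
  exact FF_of_exact e.toAdjunction

instance (Y : (WithInitial D)ᵒᵖ ⥤ TopCat.{u}) :
    EnoughInjectives (FibDesc.DSh (FibDesc.topAug Y) (FibDesc.topAugTop Y) AddCommGrpCat.{u}) :=
  IsGrothendieckAbelian.enoughInjectives.{u}

instance (Y : (WithInitial D)ᵒᵖ ⥤ TopCat.{u}) :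
    EnoughInjectives (FibDesc.BaseSh (FibDesc.topAug Y) (FibDesc.topAugTop Y) AddCommGrpCat.{u}) :=
  IsGrothendieckAbelian.enoughInjectives.{u}

attribute [local instance] Functor.additive_of_preservesBinaryBiproducts
  preservesBinaryBiproducts_of_preservesBinaryProducts

/-- The prelude's predicate is descent of the associated morphism of diagrams. -/
theorem isCohDescentTop_iff : FibDesc.IsCohDescentTop Y ↔ Desc (partAug Y) := by
  have h1 := eps_continuous Y
  have h3 := incl_continuous Y
  have h4 := incl_cocontinuous Y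
  have h5 : ∀ (P : (∫ᶜ (FibDesc.part (FibDesc.topAug Y)))ᵒᵖ ⥤ AddCommGrpCat.{u}),
      (FibDesc.incl (FibDesc.topAug Y)).op.HasPointwiseRightKanExtension P := fun P => inferInstance
  have h2 : ((FibDesc.eps (FibDesc.topAug Y)).sheafPushforwardContinuous AddCommGrpCat.{u}
      (FibDesc.topAugTop Y (FibDesc.bot D))
      (FibDesc.totAug (FibDesc.topAug Y) (FibDesc.topAugTop Y))).IsRightAdjoint := inferInstance
  let P := FibDesc.pull (FibDesc.topAug Y) (FibDesc.topAugTop Y) AddCommGrpCat.{u}
  have hinv := FF_equivalence (baseEquiv Y).symm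
  have hfun := FF_equivalence (baseEquiv Y)
  have hpinv := FF_equivalence (partEquiv Y).symm
  have hlim : PreservesFiniteLimits P := by
    have : PreservesFiniteLimits
        ((baseEquiv Y).inverse ⋙ L (partAug Y) ⋙ (partEquiv Y).inverse) := inferInstance
    exact preservesFiniteLimits_of_natIso (pullIso Y).symm
  have : (baseEquiv Y).functor.Additive := Functor.additive_of_preservesBinaryBiproducts _
  have : (baseEquiv Y).inverse.Additive := Functor.additive_of_preservesBinaryBiproducts _
  have : (partEquiv Y).inverse.Additive := Functor.additive_of_preservesBinaryBiproducts _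
  have : (L (partAug Y) ⋙ (partEquiv Y).inverse).Additive := inferInstance
  have : ((baseEquiv Y).inverse ⋙ L (partAug Y) ⋙ (partEquiv Y).inverse).Additive := inferInstance
  have key : FF P ↔ Desc (partAug Y) := by
    constructor
    · intro h
      have h' : FF (L (partAug Y) ⋙ (partEquiv Y).inverse) :=
        FF.of_iso ((Functor.associator _ _ _).symm ≪≫
          Functor.isoWhiskerRight (baseEquiv Y).unitIso.symm _ ≪≫ Functor.leftUnitor _)
          (FF.comp (G := (baseEquiv Y).inverse ⋙ L (partAug Y) ⋙ (partEquiv Y).inverse) hfun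
            (FF.of_iso (pullIso Y) h))
      exact FF.of_comp h' hpinv
    · intro h
      exact FF.of_iso (pullIso Y).symm (FF.comp hinv (FF.comp h hpinv))
  refine ⟨fun h => ?_, fun h => ⟨h1, h2, h3, h4, h5, hlim, key.2 h⟩⟩
  obtain ⟨_, _, _, _, _, _, hb⟩ := h
  exact key.1 hb

end Groth.Agent.Desc45
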