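import Groth.Agent.Desc45.Calc
import Mathlib.AlgebraicTopology.SimplicialObject.Basic
import Mathlib.CategoryTheory.Comma.Over.Basic
import Mathlib.Topology.Category.TopCat.Limits.Pullbacks

/-!
A point-wise model of the coskeleta of a simplicial space over a space.
-/

set_option autoImplicit false
set_option linter.unusedVariables false
set_option backward.isDefEq.respectTransparency false
set_option backward.isDefEq.respectTransparency.types false
universe u

open CategoryTheory CategoryTheory.Limits Opposite TopologicalSpace Simplicial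

namespace Groth.Agent.Desc45

section model

variable {S : TopCat.{u}} (C : SimplexCategoryᵒᵖ ⥤ TopCat.{u}) (ε : ∀ n, C.obj n ⟶ S)
  (w : ∀ {n m : SimplexCategoryᵒᵖ} (φ : n ⟶ m), C.map φ ≫ ε m = ε n)

/-- Values on all simplices of dimension at most `n`. -/
abbrev CoskCmp (n : ℕ) (p : SimplexCategory) : Type u :=
  ∀ (i : {q : ℕ // q ≤ n}), (⦋i.1⦌ ⟶ p) → C.obj (op ⦋i.1⦌)

/-- The points of the coskeleton. -/
def coskSet (n : ℕ) (p : SimplexCategory) : Set (S × CoskCmp C n p) :=
  {x | (∀ i σ, ε _ (x.2 i σ) = x.1) ∧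
    ∀ (i j : {q : ℕ // q ≤ n}) (α : ⦋j.1⦌ ⟶ ⦋i.1⦌) (σ : ⦋i.1⦌ ⟶ p),
      C.map α.op (x.2 i σ) = x.2 j (α ≫ σ)}

/-- The points of the coskeleton, as a type. -/
abbrev CoskPt (n : ℕ) (p : SimplexCategory) : Type u := coskSet C ε n p

/-- Functoriality of the coskeleton. -/
def coskMap (n : ℕ) {p p' : SimplexCategory} (φ : p' ⟶ p) : C(CoskPt C ε n p, CoskPt C ε n p') where
  toFun x := ⟨(x.1.1, fun i σ => x.1.2 i (σ ≫ φ)), fun i σ => x.2.1 i _, fun i j α σ =>
    (x.2.2 i j α (σ ≫ φ)).trans (congrArg (x.1.2 j) (Category.assoc α σ φ).symm)⟩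
  continuous_toFun := Continuous.subtype_mk
    (f := fun x : CoskPt C ε n p => ((x.1.1, fun i σ => x.1.2 i (σ ≫ φ)) : S × CoskCmp C n p'))
    ((continuous_fst.comp continuous_subtype_val).prodMk (continuous_pi fun i => continuous_pi fun σ =>
      (continuous_apply (σ ≫ φ)).comp ((continuous_apply i).comp
        (continuous_snd.comp continuous_subtype_val)))) _

theorem coskPt_ext {n : ℕ} {p : SimplexCategory} {x y : CoskPt C ε n p} (h₁ : x.1.1 = y.1.1)
    (h₂ : ∀ i σ, x.1.2 i σ = y.1.2 i σ) : x = y :=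
  Subtype.ext (Prod.ext h₁ (funext fun i => funext fun σ => h₂ i σ))

/-- The coskeleton. -/
def coskObj (n : ℕ) : SimplexCategoryᵒᵖ ⥤ TopCat.{u} where
  obj p := TopCat.of (CoskPt C ε n p.unop)
  map φ := TopCat.ofHom (coskMap C ε n φ.unop)
  map_id p := TopCat.ext fun x => by
    refine coskPt_ext C ε ?_ fun i σ => ?_
    · rfl
    · exact congrArg ((x : CoskPt C ε n p.unop).1.2 i) (Category.comp_id σ)
  map_comp {p q r} φ ψ := TopCat.ext fun x => by
    refine coskPt_ext C ε ?_ fun i σ => ?_
    · rfl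
    · exact congrArg ((x : CoskPt C ε n p.unop).1.2 i) (Category.assoc σ ψ.unop φ.unop).symm

/-- The augmentation of the coskeleton. -/
def coskAug (n : ℕ) (p : SimplexCategoryᵒᵖ) : (coskObj C ε n).obj p ⟶ S :=
  TopCat.ofHom ⟨fun x : CoskPt C ε n p.unop => x.1.1, continuous_fst.comp continuous_subtype_val⟩

theorem coskAug_w (n : ℕ) {p p' : SimplexCategoryᵒᵖ} (φ : p ⟶ p') :
    (coskObj C ε n).map φ ≫ coskAug C ε n p' = coskAug C ε n p :=
  rfl

/-- The restriction between coskeleta. -/
def coskTr {n m : ℕ} (h : n ≤ m) : coskObj C ε m ⟶ coskObj C ε n where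
  app p := TopCat.ofHom
    ⟨fun x : CoskPt C ε m p.unop => (⟨(x.1.1, fun i σ => x.1.2 ⟨i.1, i.2.trans h⟩ σ),
        fun i σ => x.2.1 ⟨i.1, i.2.trans h⟩ σ, fun i j α σ => x.2.2 ⟨i.1, i.2.trans h⟩ ⟨j.1, j.2.trans h⟩ α σ⟩ :
        CoskPt C ε n p.unop),
      Continuous.subtype_mk
        (f := fun x : CoskPt C ε m p.unop =>
          ((x.1.1, fun i σ => x.1.2 ⟨i.1, i.2.trans h⟩ σ) : S × CoskCmp C n p.unop))
        ((continuous_fst.comp continuous_subtype_val).prodMk
        (continuous_pi fun i => (continuous_apply (⟨i.1, i.2.trans h⟩ : {q : ℕ // q ≤ m})).comp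
          (continuous_snd.comp continuous_subtype_val))) _⟩
  naturality p p' φ := rfl

include w in
theorem coskK_mem (n : ℕ) {p : SimplexCategoryᵒᵖ} (x : C.obj p) :
    ((ε p x, fun i σ => C.map σ.op x) : S × CoskCmp C n p.unop) ∈ coskSet C ε n p.unop := by
  refine ⟨fun i σ => ?_, fun i j α σ => ?_⟩
  · exact ConcreteCategory.congr_hom (w σ.op) x
  · change C.map α.op (C.map σ.op x) = C.map (α ≫ σ).op x
    rw [← ConcreteCategory.comp_apply, ← C.map_comp]
    rfl

/-- The canonical map to the coskeleton. -/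
def coskK (n : ℕ) : C ⟶ coskObj C ε n where
  app p := TopCat.ofHom ⟨fun x => (⟨(ε p x, fun i σ => C.map σ.op x), coskK_mem C ε w n x⟩ :
      CoskPt C ε n p.unop),
    Continuous.subtype_mk
      (f := fun x => ((ε p x, fun i σ => C.map σ.op x) : S × CoskCmp C n p.unop))
      ((ε p).hom.continuous.prodMk (continuous_pi fun i => continuous_pi fun σ =>
      (C.map σ.op).hom.continuous)) _⟩
  naturality p p' φ := TopCat.hom_ext (ContinuousMap.ext fun x => coskPt_ext C ε
    (ConcreteCategory.congr_hom (w φ) x) fun i σ => by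
      change C.map σ.op (C.map φ x) = C.map (σ ≫ φ.unop).op x
      rw [← ConcreteCategory.comp_apply, ← C.map_comp]
      rfl)

theorem coskK_aug (n : ℕ) (p : SimplexCategoryᵒᵖ) :
    (coskK C ε w n).app p ≫ coskAug C ε n p = ε p := rfl

theorem coskK_tr {n m : ℕ} (h : n ≤ m) :
    coskK C ε w m ≫ coskTr C ε h = coskK C ε w n := by
  refine NatTrans.ext (funext fun p => TopCat.ext fun x => ?_)
  rfl

theorem coskPt_eq_map {n : ℕ} {p : ℕ} (hp : p ≤ n) (x : CoskPt C ε n ⦋p⦌)
    (i : {q : ℕ // q ≤ n}) (σ : ⦋i.1⦌ ⟶ ⦋p⦌) :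
    x.1.2 i σ = C.map σ.op (x.1.2 ⟨p, hp⟩ (𝟙 ⦋p⦌)) :=
  ((x.2.2 ⟨p, hp⟩ i σ (𝟙 _)).trans (congrArg (x.1.2 i) (Category.comp_id σ))).symm

/-- In low degrees the coskeleton is the simplicial space. -/
theorem isIso_coskK_app {n p : ℕ} (hp : p ≤ n) : IsIso ((coskK C ε w n).app (op ⦋p⦌)) := by
  refine ⟨TopCat.ofHom ⟨fun x : CoskPt C ε n ⦋p⦌ => x.1.2 ⟨p, hp⟩ (𝟙 _),
    (continuous_apply (𝟙 ⦋p⦌)).comp ((continuous_apply (⟨p, hp⟩ : {q : ℕ // q ≤ n})).comp
      (continuous_snd.comp continuous_subtype_val))⟩, ?_, ?_⟩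
  · refine TopCat.hom_ext (ContinuousMap.ext fun x => ?_)
    change C.map (𝟙 ⦋p⦌).op x = x
    rw [op_id, C.map_id]
    rfl
  · refine TopCat.hom_ext (ContinuousMap.ext fun x => ?_)
    exact coskPt_ext C ε ((x : CoskPt C ε n ⦋p⦌).2.1 ⟨p, hp⟩ (𝟙 _))
      fun i σ => (coskPt_eq_map C ε hp x i σ).symm

end model

section over

variable {S : TopCat.{u}} (K : SimplicialObject (Over S))

/-- The underlying simplicial space. -/
abbrev ovC : SimplexCategoryᵒᵖ ⥤ TopCat.{u} := K ⋙ Over.forget S

/-- The underlying augmentation. -/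
abbrev ovε (p : SimplexCategoryᵒᵖ) : (ovC K).obj p ⟶ S := (K.obj p).hom

theorem ovw {p p' : SimplexCategoryᵒᵖ} (φ : p ⟶ p') : (ovC K).map φ ≫ ovε K p' = ovε K p :=
  Over.w (K.map φ)

/-- The coskeleton over the base. -/
def coskOver (n : ℕ) : SimplicialObject (Over S) where
  obj p := Over.mk (coskAug (ovC K) (ovε K) n p)
  map φ := Over.homMk ((coskObj (ovC K) (ovε K) n).map φ) (coskAug_w _ _ n φ)
  map_id p := Over.OverMorphism.ext ((coskObj (ovC K) (ovε K) n).map_id p)
  map_comp φ ψ := Over.OverMorphism.ext ((coskObj (ovC K) (ovε K) n).map_comp φ ψ)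

/-- The canonical map over the base. -/
def coskOverK (n : ℕ) : K ⟶ coskOver K n where
  app p := Over.homMk ((coskK (ovC K) (ovε K) (ovw K) n).app p) (coskK_aug _ _ _ n p)
  naturality p p' φ := Over.OverMorphism.ext ((coskK (ovC K) (ovε K) (ovw K) n).naturality φ)

variable (n : ℕ)

/-- The object of the truncated category. -/
abbrev trObj {n : ℕ} (i : {q : ℕ // q ≤ n}) : (SimplexCategory.Truncated n)ᵒᵖ :=
  op ⟨⦋i.1⦌, i.2⟩

/-- Descending to truncated maps: the value of a lift. -/
def coskLift {L : SimplicialObject (Over S)}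
    (φ : (SimplicialObject.truncation n).obj L ⟶ (SimplicialObject.truncation n).obj K) :
    L ⟶ coskOver K n where
  app p := Over.homMk (TopCat.ofHom ⟨fun x : (L.obj p).left =>
      (⟨((L.obj p).hom x, fun i σ => (φ.app (trObj i)).left ((L.map σ.op).left x)),
        fun i σ => by
          change (K.obj (op ⦋i.1⦌)).hom ((φ.app (trObj i)).left ((L.map σ.op).left x)) =
            (L.obj p).hom x
          exact (ConcreteCategory.congr_hom (Over.w (φ.app (trObj i))) _).trans
            (ConcreteCategory.congr_hom (Over.w (L.map σ.op)) x),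
        fun i j α σ => by
          change (K.map α.op).left ((φ.app (trObj i)).left ((L.map σ.op).left x)) =
            (φ.app (trObj j)).left ((L.map (α ≫ σ).op).left x)
          have h := congrArg CommaMorphism.left
            (φ.naturality (SimplexCategory.Truncated.Hom.tr α j.2 i.2).op)
          refine (ConcreteCategory.congr_hom h ((L.map σ.op).left x)).symm.trans ?_
          refine congrArg (φ.app (trObj j)).left ?_
          change ((L.map σ.op).left ≫ (L.map α.op).left) x = _
          rw [← Over.comp_left, ← L.map_comp]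
          rfl⟩ : CoskPt (ovC K) (ovε K) n p.unop),
      Continuous.subtype_mk
        (f := fun x : (L.obj p).left => (((L.obj p).hom x,
          fun i σ => (φ.app (trObj i)).left ((L.map σ.op).left x)) : S × CoskCmp (ovC K) n p.unop))
        ((L.obj p).hom.hom.continuous.prodMk (continuous_pi fun i =>
        continuous_pi fun σ => (φ.app (trObj i)).left.hom.continuous.comp
          (L.map σ.op).left.hom.continuous)) _⟩) rfl
  naturality p p' ψ := Over.OverMorphism.ext (TopCat.hom_ext (ContinuousMap.ext fun x =>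
    coskPt_ext (ovC K) (ovε K) (ConcreteCategory.congr_hom (Over.w (L.map ψ)) x) fun i σ => by
      change (φ.app (trObj i)).left ((L.map σ.op).left ((L.map ψ).left x)) =
        (φ.app (trObj i)).left ((L.map (σ ≫ ψ.unop).op).left x)
      refine congrArg (φ.app (trObj i)).left ?_
      change ((L.map ψ).left ≫ (L.map σ.op).left) x = _
      rw [← Over.comp_left, ← L.map_comp]
      rfl))

theorem truncation_coskLift {L : SimplicialObject (Over S)}
    (φ : (SimplicialObject.truncation n).obj L ⟶ (SimplicialObject.truncation n).obj K) :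
    (SimplicialObject.truncation n).map (coskLift K n φ) =
      φ ≫ (SimplicialObject.truncation n).map (coskOverK K n) := by
  ext ⟨⟨⟨p⟩, hp⟩⟩ : 2
  refine Over.OverMorphism.ext (TopCat.hom_ext (ContinuousMap.ext fun x => coskPt_ext _ _ ?_ ?_))
  · exact (ConcreteCategory.congr_hom (Over.w (φ.app (trObj ⟨p, hp⟩))) x).symm
  · intro i σ
    exact ConcreteCategory.congr_hom (congrArg CommaMorphism.left
      (φ.naturality (SimplexCategory.Truncated.Hom.tr σ i.2 hp).op)) x

theorem coskOver_hom_ext {L : SimplicialObject (Over S)} {g g' : L ⟶ coskOver K n}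
    (h : (SimplicialObject.truncation n).map g = (SimplicialObject.truncation n).map g') : g = g' := by
  refine NatTrans.ext (funext fun p => Over.OverMorphism.ext (TopCat.hom_ext (ContinuousMap.ext fun x =>
    coskPt_ext (ovC K) (ovε K) ?_ fun i σ => ?_)))
  · exact (ConcreteCategory.congr_hom (Over.w (g.app p)) x).trans
      (ConcreteCategory.congr_hom (Over.w (g'.app p)) x).symm
  · have key : ∀ k : L ⟶ coskOver K n,
        ((k.app p).left x : CoskPt (ovC K) (ovε K) n p.unop).1.2 i σ =
          ((k.app (op ⦋i.1⦌)).left ((L.map σ.op).left x) :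
            CoskPt (ovC K) (ovε K) n ⦋i.1⦌).1.2 i (𝟙 _) := fun k => by
      have e := ConcreteCategory.congr_hom (congrArg CommaMorphism.left (k.naturality σ.op)) x
      refine Eq.trans ?_ (congrArg (fun y : CoskPt (ovC K) (ovε K) n ⦋i.1⦌ => y.1.2 i (𝟙 _)) e).symm
      change _ = ((k.app p).left x : CoskPt (ovC K) (ovε K) n p.unop).1.2 i (𝟙 _ ≫ σ)
      rw [Category.id_comp]
    rw [key g, key g']
    exact congrArg (fun y : CoskPt (ovC K) (ovε K) n ⦋i.1⦌ => y.1.2 i (𝟙 _))
      (ConcreteCategory.congr_hom (congrArg CommaMorphism.left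
        (NatTrans.congr_app h (trObj i))) ((L.map σ.op).left x))

theorem isIso_truncation_coskOverK : IsIso ((SimplicialObject.truncation n).map (coskOverK K n)) := by
  have : ∀ a, IsIso (((SimplicialObject.truncation n).map (coskOverK K n)).app a) := by
    rintro ⟨⟨⟨p⟩, hp⟩⟩
    have := isIso_coskK_app (ovC K) (ovε K) (ovw K) hp
    have : IsIso ((Over.forget S).map ((coskOverK K n).app (op ⦋p⦌))) := this
    exact isIso_of_reflects_iso ((coskOverK K n).app (op ⦋p⦌)) (Over.forget S)
  exact NatIso.isIso_of_isIso_app _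

variable [∀ (G : (SimplexCategory.Truncated n)ᵒᵖ ⥤ Over S),
  (SimplexCategory.Truncated.inclusion n).op.HasRightKanExtension G]

/-- The coskeleton of Mathlib is the point-wise one. -/
theorem exists_iso_cosk : ∃ e : (SimplicialObject.cosk n).obj K ≅ coskOver K n,
    (SimplicialObject.coskAdj n).unit.app K ≫ e.hom = coskOverK K n := by
  let A := SimplicialObject.coskAdj (C := Over S) n
  let tr := SimplicialObject.truncation (C := Over S) n
  have := isIso_truncation_coskOverK K n
  let g : (SimplicialObject.cosk n).obj K ⟶ coskOver K n := coskLift K n (A.counit.app (tr.obj K))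
  let h : coskOver K n ⟶ (SimplicialObject.cosk n).obj K :=
    A.homEquiv _ _ (inv (tr.map (coskOverK K n)))
  have hg : tr.map g = A.counit.app (tr.obj K) ≫ tr.map (coskOverK K n) :=
    truncation_coskLift K n _
  have hh : tr.map h ≫ A.counit.app (tr.obj K) = inv (tr.map (coskOverK K n)) :=
    (A.homEquiv_counit _ _ h).symm.trans ((A.homEquiv _ _).symm_apply_apply _)
  refine ⟨⟨g, h, ?_, ?_⟩, ?_⟩
  · apply (A.homEquiv _ _).symm.injective
    rw [A.homEquiv_counit, A.homEquiv_counit, Functor.map_comp, Category.assoc]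
    erw [hh]
    rw [hg]
    simp [tr]
  · apply coskOver_hom_ext
    rw [Functor.map_comp, hg, ← Category.assoc, hh, IsIso.inv_hom_id, CategoryTheory.Functor.map_id]
  · apply coskOver_hom_ext
    change tr.map (_ ≫ g) = _
    rw [Functor.map_comp, hg, ← Category.assoc]
    exact ((A.left_triangle_components K) =≫ _).trans (Category.id_comp _)

end over

end Groth.Agent.Desc45
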