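import Groth.Agent.Desc45.Calc
import Mathlib.Topology.IsLocalHomeomorph

/-!
Cohomological descent is local on the base; local homeomorphisms.
-/

set_option autoImplicit false
set_option linter.unusedVariables false
set_option backward.isDefEq.respectTransparency false
set_option backward.isDefEq.respectTransparency.types false
universe u

open CategoryTheory CategoryTheory.Limits Opposite TopologicalSpace

namespace Groth.Agent.Desc45

attribute [local instance] HasDerivedCategory.standard

section restrict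

variable {X S T : TopCat.{u}} {f : X ⟶ S} (A : CechModel f) (j : T ⟶ S)

/-- The base change of a model. -/
noncomputable def pullModel : CechModel (pullback.snd f j) where
  C :=
    { obj := fun n => pullback (A.ε n) j
      map := fun φ => pullback.map _ _ _ _ (A.C.map φ) (𝟙 T) (𝟙 S)
        (by rw [Category.comp_id, A.w]) (by simp)
      map_id := fun n => by apply pullback.hom_ext <;> simp [pullback.map]
      map_comp := fun φ ψ => by apply pullback.hom_ext <;> simp [pullback.map] }
  ε n := pullback.snd _ _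
  w φ := by simp [pullback.map]
  π n i := pullback.lift (pullback.fst (A.ε n) j ≫ A.π n i) (pullback.snd _ _)
    (by rw [Category.assoc, A.π_ε, pullback.condition])
  π_ε n i := pullback.lift_snd _ _ _
  π_map {n l} φ i := by
    apply pullback.hom_ext <;> simp [pullback.map, A.π_map]
  hom_ext n a b h := by
    refine pullback.hom_ext (A.hom_ext n _ _ fun i => ?_) ?_
    · simpa using h i =≫ pullback.fst _ _
    · simpa using h 0 =≫ pullback.snd _ _
  lift_exists {T'} n x hx := by
    have hw : ∀ i, (x i ≫ pullback.fst f j) ≫ f = (x 0 ≫ pullback.snd f j) ≫ j := by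
      intro i
      rw [Category.assoc, pullback.condition, ← Category.assoc, hx i, Category.assoc]
    refine ⟨pullback.lift (A.lift n (fun i => x i ≫ pullback.fst _ _) (fun i => by rw [hw, hw]))
      (x 0 ≫ pullback.snd _ _)
      ((A.lift_ε n (fun i => x i ≫ pullback.fst f j) _).trans (hw 0)), fun i => ?_⟩
    apply pullback.hom_ext
    · simp
    · simp [hx i]

/-- The inclusion of the base. -/
noncomputable def baseIncl : DMap (pt T) (pt S) where
  idx := 𝟭 Pt
  map :=
    { app := fun _ => j
      naturality := fun a b φ => by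
        obtain ⟨⟨⟩⟩ := a
        obtain ⟨⟨⟩⟩ := b
        simp }

/-- The inclusion of the restricted nerve. -/
noncomputable def nerveIncl : DMap (pullModel A j).C A.C where
  idx := 𝟭 _
  map :=
    { app := fun n => pullback.fst _ _
      naturality := fun n m φ => pullback.lift_fst _ _ _ }

variable {j}

theorem mem_range_fst (hj : Topology.IsOpenEmbedding j) (n : SimplexCategoryᵒᵖ) (y : A.C.obj n) :
    y ∈ Set.range ((nerveIncl A j).map.app n) ↔ A.ε n y ∈ Set.range j := by
  change y ∈ Set.range (pullback.fst (A.ε n) j) ↔ _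
  rw [TopCat.pullback_fst_range]
  exact ⟨fun ⟨z, hz⟩ => ⟨z, hz.symm⟩, fun ⟨z, hz⟩ => ⟨z, hz.symm⟩⟩

/-- The square of an open piece of the base. -/
noncomputable def openSquare (hj : Topology.IsOpenEmbedding j) :
    Square A.aug (baseIncl j) (nerveIncl A j) (pullModel A j).aug where
  embN _ := hj
  embN' n := TopCat.fst_isOpenEmbedding_of_right (f := A.ε n) hj
  cartN {a b} h x hx := by
    obtain ⟨⟨⟩⟩ := a
    obtain ⟨⟨⟩⟩ := b
    exact hx
  cartN' {a b} h x hx := by
    have h2 : A.ε a x ∈ Set.range j := by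
      have h3 := (mem_range_fst A hj b (A.C.map h x)).1 hx
      rwa [← ConcreteCategory.comp_apply, A.w h] at h3
    exact (mem_range_fst A hj a x).2 h2
  pcofilN' := ⟨fun {i a b c} fb fc hb hc e => ⟨i, 𝟙 i, fb, fc, Category.id_comp _,
    Category.id_comp _, e⟩, fun {i a b} fb h h' e => ⟨i, 𝟙 i, fb, Category.id_comp _, e⟩⟩
  c :=
    { t := { app := fun _ => Discrete.eqToHom rfl, naturality := fun _ _ _ => Subsingleton.elim _ _ }
      w := fun n => by
        change (pullback.fst _ _ ≫ A.ε n) ≫ 𝟙 _ = pullback.snd _ _ ≫ j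
        rw [Category.comp_id, pullback.condition] }
  isIso := CechModel.isIso_discrete _
  cartSq n y hy := (mem_range_fst A hj n y).2 hy
  cof i k f := ⟨i, Discrete.eqToHom (Subsingleton.elim _ _), 𝟙 i, Subsingleton.elim _ _,
    fun i₁ f₁ g₁ e => ⟨g₁, Category.id_comp _, Subsingleton.elim _ _⟩⟩

end restrict

theorem isCohDescentMap_of_openCover {X S : TopCat.{u}} (u₀ : X ⟶ S) {ι : Type u} (V : ι → Opens S)
    (hV : iSup V = ⊤)
    (h : ∀ i, FibDesc.IsCohDescentMap
      (pullback.snd u₀ (TopCat.ofHom ⟨Subtype.val, continuous_subtype_val⟩ : TopCat.of (V i) ⟶ S))) :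
    FibDesc.IsCohDescentMap u₀ := by
  have hj : ∀ i, Topology.IsOpenEmbedding
      (TopCat.ofHom ⟨Subtype.val, continuous_subtype_val⟩ : TopCat.of (V i) ⟶ S) :=
    fun i => (V i).isOpen.isOpenEmbedding_subtypeVal
  refine (isCohDescentMap_iff u₀ (stdModel u₀)).2 (Desc.of_restrictions
    (fun i => openSquare (stdModel u₀) (hj i)) (fun k x => ?_)
    fun i => (isCohDescentMap_iff _ (pullModel (stdModel u₀) _)).1 (h i))
  obtain ⟨⟨⟩⟩ := k
  obtain ⟨i, hi⟩ := Opens.mem_iSup.1 (show (x : S) ∈ iSup V by rw [hV]; exact Set.mem_univ _)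
  exact ⟨i, ⟨PUnit.unit⟩, 𝟙 _, inferInstance, ⟨x, hi⟩, rfl⟩

theorem isUnivCohDescentMap_of_local_section {X S : TopCat.{u}} (f : X ⟶ S)
    (hloc : ∀ s : S, ∃ (U : Opens S) (σ : TopCat.of U ⟶ X), s ∈ U ∧
      σ ≫ f = TopCat.ofHom ⟨Subtype.val, continuous_subtype_val⟩) :
    FibDesc.IsUnivCohDescentMap f := by
  intro T t
  choose U σ hs hσ using hloc
  let V : T → Opens T := fun x => (Opens.map t).obj (U (t x))
  refine isCohDescentMap_of_openCover _ V
    (top_le_iff.1 fun x _ => Opens.mem_iSup.2 ⟨x, hs (t x)⟩) fun x => ?_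
  let j : TopCat.of (V x) ⟶ T := TopCat.ofHom ⟨Subtype.val, continuous_subtype_val⟩
  let r : TopCat.of (V x) ⟶ TopCat.of (U (t x)) :=
    TopCat.ofHom ⟨fun y => ⟨t y.1, y.2⟩, by fun_prop⟩
  have hr : (r ≫ σ (t x)) ≫ f = j ≫ t := by
    rw [Category.assoc, hσ (t x)]
    ext y
    rfl
  exact isCohDescentMap_of_section _ (pullback.lift (pullback.lift (r ≫ σ (t x)) j hr) (𝟙 _)
    (by simp; rfl)) (pullback.lift_snd _ _ _)

theorem isUnivCohDescentMap_of_isLocalHomeomorph {X S : TopCat.{u}} (f : X ⟶ S)
    (hf : IsLocalHomeomorph f) (hsurj : Function.Surjective f) :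
    FibDesc.IsUnivCohDescentMap f := by
  refine isUnivCohDescentMap_of_local_section f fun s => ?_
  obtain ⟨x, hx⟩ := hsurj s
  obtain ⟨e, hxe, he⟩ := hf x
  refine ⟨⟨e.target, e.open_target⟩,
    TopCat.ofHom ⟨fun y => e.symm y.1, e.symm.continuousOn.comp_continuous continuous_subtype_val
      fun y => y.2⟩, ?_, ?_⟩
  · rw [← hx, he]
    exact e.map_source hxe
  · ext y
    change f (e.symm y.1) = y.1
    rw [he]
    exact e.right_inv y.2

end Groth.Agent.Desc45
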