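import Groth.Agent.Desc45.Cosk
import Groth.Agent.Desc45.Local
import Mathlib.AlgebraicTopology.SimplexCategory.Basic

/-!
The levels of the restriction between consecutive coskeleta.
-/

set_option autoImplicit false
set_option linter.unusedVariables false
set_option backward.isDefEq.respectTransparency false
set_option backward.isDefEq.respectTransparency.types false
universe u

open CategoryTheory CategoryTheory.Limits Opposite TopologicalSpace Simplicial

namespace Groth.Agent.Desc45

theorem exists_fac_of_not_injective {n : ℕ} {p : SimplexCategory} (τ : ⦋n + 1⦌ ⟶ p)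
    (h : ¬ Function.Injective τ.toOrderHom) :
    ∃ (r : {q : ℕ // q ≤ n}) (e : ⦋n + 1⦌ ⟶ ⦋r.1⦌) (m : ⦋r.1⦌ ⟶ p), Epi e ∧ Mono m ∧ e ≫ m = τ := by
  let r := Limits.image τ
  have hle : r.len ≤ n := by
    by_contra hlt
    have h1 : r.len ≤ n + 1 := SimplexCategory.len_le_of_epi (factorThruImage τ)
    have h2 : r = ⦋n + 1⦌ := SimplexCategory.ext (by
      change r.len = n + 1
      lia)
    apply h
    let e' : ⦋n + 1⦌ ⟶ ⦋n + 1⦌ := factorThruImage τ ≫ eqToHom h2
    have he' : e' = 𝟙 _ := SimplexCategory.eq_id_of_epi e'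
    have : τ = eqToHom h2.symm ≫ image.ι τ := by
      have h4 : (e' ≫ eqToHom h2.symm) ≫ image.ι τ = τ := by simp [e']
      rw [he', Category.id_comp] at h4
      exact h4.symm
    rw [this]
    exact SimplexCategory.mono_iff_injective.1 inferInstance
  exact ⟨⟨r.len, hle⟩, factorThruImage τ, image.ι τ,
    inferInstanceAs (Epi (factorThruImage τ)), inferInstanceAs (Mono (image.ι τ)), image.fac τ⟩

theorem not_injective_comp {a b c : SimplexCategory} (α : a ⟶ b) (σ : b ⟶ c)
    (h : ¬ Function.Injective α.toOrderHom) : ¬ Function.Injective (α ≫ σ).toOrderHom :=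
  fun hi => h (Function.Injective.of_comp (f := σ.toOrderHom) hi)

theorem not_injective_comp' {a : SimplexCategory} (α : a ⟶ a) {c : SimplexCategory} (σ : a ⟶ c)
    (h : ¬ Function.Injective σ.toOrderHom) : ¬ Function.Injective (α ≫ σ).toOrderHom := by
  by_cases hα : Function.Injective α.toOrderHom
  · have : Mono α := SimplexCategory.mono_iff_injective.2 hα
    rwa [SimplexCategory.eq_id_of_mono α, Category.id_comp]
  · exact not_injective_comp α σ hα

theorem not_injective_of_lt {m n : ℕ} (h : n < m) (α : ⦋m⦌ ⟶ ⦋n⦌) :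
    ¬ Function.Injective α.toOrderHom := fun hi => by
  have := Fintype.card_le_of_injective _ hi
  simp at this
  lia

section step

variable {S : TopCat.{u}} (C : SimplexCategoryᵒᵖ ⥤ TopCat.{u}) (ε : ∀ n, C.obj n ⟶ S)
  (w : ∀ {n m : SimplexCategoryᵒᵖ} (φ : n ⟶ m), C.map φ ≫ ε m = ε n) (n : ℕ)

/-- The restriction between consecutive coskeleta at a level. -/
abbrev coskStep (p : SimplexCategoryᵒᵖ) :
    (coskObj C ε (n + 1)).obj p ⟶ (coskObj C ε n).obj p :=
  (coskTr C ε n.le_succ).app p

variable {C ε n}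

/-- Values which the lower coskeleton determines. -/
theorem coskPt_agree {p : SimplexCategory} {x y : CoskPt C ε (n + 1) p}
    (h : coskStep C ε n (op p) x = coskStep C ε n (op p) y) (i : {q : ℕ // q ≤ n + 1})
    (σ : ⦋i.1⦌ ⟶ p) (hi : i.1 ≤ n ∨ ¬ Function.Injective σ.toOrderHom) : x.1.2 i σ = y.1.2 i σ := by
  have low : ∀ (j : {q : ℕ // q ≤ n}) (τ : ⦋j.1⦌ ⟶ p),
      x.1.2 ⟨j.1, j.2.trans n.le_succ⟩ τ = y.1.2 ⟨j.1, j.2.trans n.le_succ⟩ τ := fun j τ =>
    congrArg (fun z : CoskPt C ε n p => z.1.2 j τ) h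
  obtain ⟨i, hin⟩ := i
  rcases Nat.lt_or_ge i (n + 1) with hi' | hi'
  · exact low ⟨i, Nat.lt_succ_iff.1 hi'⟩ σ
  obtain rfl : i = n + 1 := le_antisymm hin hi'
  obtain ⟨r, e, m, he, hm, rfl⟩ := exists_fac_of_not_injective σ (hi.resolve_left (by
    change ¬ n + 1 ≤ n
    lia))
  rw [← x.2.2 ⟨r.1, r.2.trans n.le_succ⟩ ⟨n + 1, hin⟩ e m,
    ← y.2.2 ⟨r.1, r.2.trans n.le_succ⟩ ⟨n + 1, hin⟩ e m, low r m]

variable (C ε n)

/-- The injective simplices of dimension `n + 1`. -/
abbrev InjS (p : SimplexCategory) : Type := {σ : ⦋n + 1⦌ ⟶ p // Function.Injective σ.toOrderHom}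

/-- Partial fillings of the injective simplices. -/
abbrev Fill (p : SimplexCategory) (s : Finset (InjS n p)) : Type u :=
  {z : CoskPt C ε n p × (s → C.obj (op ⦋n + 1⦌)) //
    ∀ σ : s, (coskK C ε w n).app (op ⦋n + 1⦌) (z.2 σ) = coskMap C ε n σ.1.1 z.1}

/-- The projection of partial fillings. -/
abbrev fillProj (p : SimplexCategory) (s : Finset (InjS n p)) :
    TopCat.of (Fill C ε w n p s) ⟶ (coskObj C ε n).obj (op p) :=
  TopCat.ofHom (Y := CoskPt C ε n p)
    ⟨fun z => z.1.1, continuous_fst.comp continuous_subtype_val⟩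

variable {w}

theorem isUniv_fillProj
    (hk : FibDesc.IsUnivCohDescentMap ((coskK C ε w n).app (op ⦋n + 1⦌)))
    (p : SimplexCategory) (s : Finset (InjS n p)) :
    FibDesc.IsUnivCohDescentMap (fillProj C ε w n p s) := by
  classical
  induction s using Finset.induction with
  | empty =>
    refine isUnivCohDescentMap_of_section _ (TopCat.ofHom (X := CoskPt C ε n p) ⟨fun t =>
      ⟨(t, fun σ => absurd σ.2 (Finset.notMem_empty _)),
        fun σ => absurd σ.2 (Finset.notMem_empty _)⟩,
      Continuous.subtype_mk (f := fun t : CoskPt C ε n p =>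
          ((t, fun σ => absurd σ.2 (Finset.notMem_empty _)) :
            CoskPt C ε n p × ((∅ : Finset (InjS n p)) → C.obj (op ⦋n + 1⦌))))
        (continuous_id.prodMk (continuous_pi fun σ => absurd σ.2 (Finset.notMem_empty _))) _⟩) rfl
  | insert a s has ih =>
    let g : TopCat.of (Fill C ε w n p s) ⟶ (coskObj C ε n).obj (op ⦋n + 1⦌) :=
      TopCat.ofHom (Y := CoskPt C ε n ⦋n + 1⦌) ⟨fun z => coskMap C ε n a.1 z.1.1,
        (coskMap C ε n a.1).continuous.comp (continuous_fst.comp continuous_subtype_val)⟩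
    let k := (coskK C ε w n).app (op ⦋n + 1⦌)
    let q : TopCat.of (Fill C ε w n p (insert a s)) ⟶ TopCat.of (Fill C ε w n p s) :=
      TopCat.ofHom ⟨fun z => ⟨(z.1.1, fun σ => z.1.2 ⟨σ.1, Finset.mem_insert_of_mem σ.2⟩),
        fun σ => z.2 ⟨σ.1, Finset.mem_insert_of_mem σ.2⟩⟩,
        Continuous.subtype_mk (f := fun z : Fill C ε w n p (insert a s) =>
          ((z.1.1, fun σ => z.1.2 ⟨σ.1, Finset.mem_insert_of_mem σ.2⟩) :
            CoskPt C ε n p × (s → C.obj (op ⦋n + 1⦌))))
          ((continuous_fst.comp continuous_subtype_val).prodMk (continuous_pi fun σ =>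
            (continuous_apply (⟨σ.1, Finset.mem_insert_of_mem σ.2⟩ : (insert a s : Finset _))).comp
              (continuous_snd.comp continuous_subtype_val))) _⟩
    have hq : FibDesc.IsUnivCohDescentMap q := by
      let P := {v : C.obj (op ⦋n + 1⦌) × Fill C ε w n p s // k v.1 = g v.2}
      let fn : P → ↥(insert a s) → C.obj (op ⦋n + 1⦌) := fun v σ =>
        if h : σ.1 ∈ s then v.1.2.1.2 ⟨σ.1, h⟩ else v.1.1
      have hfn : Continuous fn := continuous_pi fun σ => by
        by_cases h : σ.1 ∈ s
        · simp only [fn, dif_pos h]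
          exact (continuous_apply (⟨σ.1, h⟩ : s)).comp (continuous_snd.comp (continuous_subtype_val.comp
            (continuous_snd.comp continuous_subtype_val)))
        · simp only [fn, dif_neg h]
          exact continuous_fst.comp continuous_subtype_val
      let e : P ≃ₜ Fill C ε w n p (insert a s) :=
        { toFun := fun v => ⟨(v.1.2.1.1, fn v), fun σ => by
            by_cases h : σ.1 ∈ s
            · simp only [fn, dif_pos h]
              exact v.1.2.2 ⟨σ.1, h⟩
            · simp only [fn, dif_neg h]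
              have hσ : σ.1 = a := (Finset.mem_insert.1 σ.2).resolve_right h
              rw [hσ]
              exact v.2⟩
          invFun := fun z => ⟨(z.1.2 ⟨a, Finset.mem_insert_self a s⟩, q z),
            z.2 ⟨a, Finset.mem_insert_self a s⟩⟩
          left_inv := fun v => Subtype.ext (Prod.ext (dif_neg has) (Subtype.ext (Prod.ext rfl
            (funext fun σ => dif_pos σ.2))))
          right_inv := fun z => Subtype.ext (Prod.ext rfl (funext fun σ => by
            by_cases h : σ.1 ∈ s
            · exact dif_pos h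
            · refine (dif_neg h).trans (congrArg z.1.2 (Subtype.ext ?_))
              exact ((Finset.mem_insert.1 σ.2).resolve_right h).symm))
          continuous_toFun := Continuous.subtype_mk
            (f := fun v : P => ((v.1.2.1.1, fn v) :
              CoskPt C ε n p × (↥(insert a s) → C.obj (op ⦋n + 1⦌))))
            ((continuous_fst.comp (continuous_subtype_val.comp
              (continuous_snd.comp continuous_subtype_val))).prodMk hfn) _
          continuous_invFun := Continuous.subtype_mk
            (f := fun z : Fill C ε w n p (insert a s) =>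
              ((z.1.2 ⟨a, Finset.mem_insert_self a s⟩, q z) :
                C.obj (op ⦋n + 1⦌) × Fill C ε w n p s))
            (((continuous_apply _).comp (continuous_snd.comp continuous_subtype_val)).prodMk
              q.hom.continuous) _ }
      refine isUnivCohDescentMap_of_iso (TopCat.pullbackIsoProdSubtype k g ≪≫ TopCat.isoOfHomeo e) ?_
        (isUnivCohDescentMap_baseChange g hk)
      refine TopCat.ext fun v => ?_
      refine Eq.trans ?_ (TopCat.pullbackIsoProdSubtype_hom_snd k g ▸ rfl :
        ((TopCat.pullbackIsoProdSubtype k g).hom ≫ TopCat.pullbackSnd k g) v = pullback.snd k g v)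
      change q (e ((TopCat.pullbackIsoProdSubtype k g).hom v)) = _
      exact congrArg (fun z : P => z.1.2) (e.left_inv _)
    exact isUnivCohDescentMap_comp q (fillProj C ε w n p s) hq ih

/-- The restriction between consecutive coskeleta is universally of cohomological descent levelwise. -/
theorem isUniv_coskStep (hk : FibDesc.IsUnivCohDescentMap ((coskK C ε w n).app (op ⦋n + 1⦌)))
    (p : SimplexCategoryᵒᵖ) : FibDesc.IsUnivCohDescentMap (coskStep C ε n p) := by
  classical
  obtain ⟨p⟩ := p
  have : Fintype (⦋n + 1⦌ ⟶ p) := Fintype.ofInjective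
    (fun σ => (σ.toOrderHom : Fin (n + 2) → Fin (p.len + 1))) fun a b h =>
      SimplexCategory.Hom.ext _ _ (OrderHom.ext _ _ h)
  let U : Finset (InjS n p) := Finset.univ
  let N : {q : ℕ // q ≤ n + 1} := ⟨n + 1, le_rfl⟩
  let up : ∀ i : {q : ℕ // q ≤ n}, {q : ℕ // q ≤ n + 1} := fun i => ⟨i.1, i.2.trans n.le_succ⟩
  let toFill : C(CoskPt C ε (n + 1) p, Fill C ε w n p U) :=
    ⟨fun x => ⟨(coskStep C ε n (op p) x, fun σ => x.1.2 N σ.1.1),
      fun σ => coskPt_ext C ε (x.2.1 N σ.1.1) fun i τ => x.2.2 N (up i) τ σ.1.1⟩,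
      Continuous.subtype_mk (f := fun x : CoskPt C ε (n + 1) p =>
          ((coskStep C ε n (op p) x, fun σ => x.1.2 N σ.1.1) :
            CoskPt C ε n p × (U → C.obj (op ⦋n + 1⦌))))
        ((coskStep C ε n (op p)).hom.continuous.prodMk (continuous_pi fun σ =>
          (continuous_apply σ.1.1).comp ((continuous_apply N).comp
            (continuous_snd.comp continuous_subtype_val)))) _⟩
  choose fr fe fm hfe hfm hfac using
    fun (σ : ⦋n + 1⦌ ⟶ p) (hs : ¬ Function.Injective σ.toOrderHom) => exists_fac_of_not_injective σ hs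
  let top : Fill C ε w n p U → (⦋n + 1⦌ ⟶ p) → C.obj (op ⦋n + 1⦌) := fun z σ =>
    if hs : Function.Injective σ.toOrderHom then z.1.2 ⟨⟨σ, hs⟩, Finset.mem_univ _⟩
    else C.map (fe σ hs).op (z.1.1.1.2 (fr σ hs) (fm σ hs))
  let val : Fill C ε w n p U → CoskCmp C (n + 1) p := fun z i σ =>
    if h : i.1 ≤ n then z.1.1.1.2 ⟨i.1, h⟩ σ
    else C.map (eqToHom (congrArg (fun a => op (SimplexCategory.mk a))
        (show n + 1 = i.1 by have := i.2; lia)))
      (top z (eqToHom (congrArg SimplexCategory.mk (show n + 1 = i.1 by have := i.2; lia)) ≫ σ))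
  have val_top : ∀ z σ, val z N σ = top z σ := fun z σ => by
    simp only [val, N]
    rw [dif_neg (by lia)]
    simp [eqToHom_refl]
  have val_low : ∀ z (i : {q : ℕ // q ≤ n}) σ, val z (up i) σ = z.1.1.1.2 i σ := fun z i σ =>
    dif_pos i.2
  have case_i : ∀ {P : {q : ℕ // q ≤ n + 1} → Prop}, P N →
      (∀ i, P (up i)) → ∀ i, P i := fun {P} hN hup i => by
    by_cases h : i.1 ≤ n
    · exact hup ⟨i.1, h⟩
    · obtain rfl : i = N := Subtype.ext (show i.1 = n + 1 by have := i.2; lia)
      exact hN
  have facet : ∀ z (j : {q : ℕ // q ≤ n}) (α : ⦋j.1⦌ ⟶ ⦋n + 1⦌) σ,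
      C.map α.op (top z σ) = z.1.1.1.2 j (α ≫ σ) := fun z j α σ => by
    by_cases hs : Function.Injective σ.toOrderHom
    · simp only [top, dif_pos hs]
      exact congrArg (fun t : CoskPt C ε n ⦋n + 1⦌ => t.1.2 j α)
        (z.2 ⟨⟨σ, hs⟩, Finset.mem_univ _⟩)
    · simp only [top, dif_neg hs]
      rw [← ConcreteCategory.comp_apply, ← C.map_comp, ← op_comp]
      refine (z.1.1.2.2 _ j _ _).trans (congrArg (z.1.1.1.2 j) ?_)
      rw [Category.assoc, hfac]
  have deg : ∀ z (r : {q : ℕ // q ≤ n}) (e : ⦋n + 1⦌ ⟶ ⦋r.1⦌) [Epi e] (θ : ⦋r.1⦌ ⟶ p),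
      C.map e.op (z.1.1.1.2 r θ) = top z (e ≫ θ) := fun z r e _ θ => by
    have hs : ¬ Function.Injective (e ≫ θ).toOrderHom :=
      not_injective_comp e θ (not_injective_of_lt (Nat.lt_succ_iff.2 r.2) e)
    have : IsSplitEpi e := isSplitEpi_of_epi e
    have := hfm (e ≫ θ) hs
    have hθ : θ = (section_ e ≫ fe (e ≫ θ) hs) ≫ fm (e ≫ θ) hs := by
      rw [Category.assoc, hfac, ← Category.assoc, IsSplitEpi.id, Category.id_comp]
    have he : e ≫ section_ e ≫ fe (e ≫ θ) hs = fe (e ≫ θ) hs := by
      rw [← cancel_mono (fm (e ≫ θ) hs), Category.assoc, ← hθ, hfac]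
    simp only [top, dif_neg hs]
    conv_lhs => rw [hθ]
    rw [← z.1.1.2.2 (fr (e ≫ θ) hs) r (section_ e ≫ fe (e ≫ θ) hs) (fm (e ≫ θ) hs),
      ← ConcreteCategory.comp_apply, ← C.map_comp, ← op_comp, he]
  have hε : ∀ z σ, ε _ (top z σ) = z.1.1.1.1 := fun z σ => by
    by_cases hs : Function.Injective σ.toOrderHom
    · simp only [top, dif_pos hs]
      exact congrArg (fun t : CoskPt C ε n ⦋n + 1⦌ => t.1.1)
        (z.2 ⟨⟨σ, hs⟩, Finset.mem_univ _⟩)
    · simp only [top, dif_neg hs]
      exact (ConcreteCategory.congr_hom (w _) _).trans (z.1.1.2.1 _ _)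
  have hmem : ∀ z : Fill C ε w n p U,
      ((z.1.1.1.1, val z) : S × CoskCmp C (n + 1) p) ∈ coskSet C ε (n + 1) p := fun z => by
    refine ⟨case_i (fun σ => ?_) (fun i σ => ?_), case_i (case_i ?_ fun j α σ => ?_)
      (fun i => case_i ?_ fun j α σ => ?_)⟩
    · exact (congrArg (ε _) (val_top z σ)).trans (hε z σ)
    · exact (congrArg (ε _) (val_low z i σ)).trans (z.1.1.2.1 i σ)
    · intro α σ
      change C.map α.op (val z N σ) = val z N (α ≫ σ)
      rw [val_top, val_top]
      by_cases hα : Function.Injective α.toOrderHom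
      · have : Mono α := SimplexCategory.mono_iff_injective.2 hα
        rw [SimplexCategory.eq_id_of_mono α, op_id, C.map_id, Category.id_comp]
        rfl
      · obtain ⟨r, e, m, he, hm, rfl⟩ := exists_fac_of_not_injective α hα
        rw [op_comp, C.map_comp, Category.assoc]
        exact (congrArg (C.map e.op) (facet z r m σ)).trans (deg z r e (m ≫ σ))
    · change C.map α.op (val z N σ) = val z (up j) (α ≫ σ)
      rw [val_top, val_low]
      exact facet z j α σ
    · intro α σ
      change C.map α.op (val z (up i) σ) = val z N (α ≫ σ)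
      rw [val_top, val_low]
      obtain ⟨r, e, m, he, hm, rfl⟩ :=
        exists_fac_of_not_injective α (not_injective_of_lt (Nat.lt_succ_iff.2 i.2) α)
      rw [op_comp, C.map_comp, Category.assoc]
      exact (congrArg (C.map e.op) (z.1.1.2.2 i r m σ)).trans (deg z r e (m ≫ σ))
    · change C.map α.op (val z (up i) σ) = val z (up j) (α ≫ σ)
      rw [val_low, val_low]
      exact z.1.1.2.2 i j α σ
  have hcont : Continuous (fun z : Fill C ε w n p U =>
      ((z.1.1.1.1, val z) : S × CoskCmp C (n + 1) p)) := by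
    refine (continuous_fst.comp (continuous_subtype_val.comp (continuous_fst.comp
      continuous_subtype_val))).prodMk (continuous_pi fun i => continuous_pi fun σ => ?_)
    have hlow : ∀ (j : {q : ℕ // q ≤ n}) (τ : ⦋j.1⦌ ⟶ p),
        Continuous fun z : Fill C ε w n p U => z.1.1.1.2 j τ := fun j τ =>
      (continuous_apply τ).comp ((continuous_apply j).comp (continuous_snd.comp
        (continuous_subtype_val.comp (continuous_fst.comp continuous_subtype_val))))
    have htop : ∀ τ, Continuous fun z : Fill C ε w n p U => top z τ := fun τ => by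
      by_cases hs : Function.Injective τ.toOrderHom
      · simp only [top, dif_pos hs]
        exact (continuous_apply _).comp (continuous_snd.comp continuous_subtype_val)
      · simp only [top, dif_neg hs]
        exact (C.map _).hom.continuous.comp (hlow _ _)
    simp only [val]
    by_cases h : i.1 ≤ n
    · simp only [dif_pos h]
      exact hlow _ _
    · simp only [dif_neg h]
      exact (C.map _).hom.continuous.comp (htop _)
  let e : Fill C ε w n p U ≃ₜ CoskPt C ε (n + 1) p :=
    { toFun := fun z => ⟨(z.1.1.1.1, val z), hmem z⟩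
      invFun := toFill
      left_inv := fun z => Subtype.ext (Prod.ext (coskPt_ext C ε rfl fun i σ => val_low z i σ)
        (funext fun σ => (val_top z σ.1.1).trans (dif_pos σ.1.2)))
      right_inv := fun x => coskPt_ext C ε rfl (case_i (fun σ => by
        change val (toFill x) N σ = x.1.2 N σ
        rw [val_top]
        by_cases hs : Function.Injective σ.toOrderHom
        · exact dif_pos hs
        · refine (dif_neg hs).trans ?_
          exact (x.2.2 (up (fr σ hs)) N (fe σ hs) (fm σ hs)).trans (congrArg _ (hfac σ hs)))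
        fun i σ => val_low _ i σ)
      continuous_toFun := hcont.subtype_mk _
      continuous_invFun := toFill.continuous }
  exact isUnivCohDescentMap_of_iso (f := fillProj C ε w n p U) (TopCat.isoOfHomeo (X := TopCat.of (Fill C ε w n p U))
    (Y := TopCat.of (CoskPt C ε (n + 1) p)) e)
    (TopCat.ext fun z => coskPt_ext C ε rfl fun i σ => val_low z i σ)
    (isUniv_fillProj C ε n hk p U)

end step

end Groth.Agent.Desc45
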