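import Mathlib.Algebra.Category.Grp.Adjunctions
import Mathlib.Algebra.Category.Grp.Abelian
import Mathlib.AlgebraicTopology.AlternatingFaceMapComplex
import Mathlib.CategoryTheory.Abelian.FunctorCategory
import Mathlib.CategoryTheory.Preadditive.Injective.Basic
import Mathlib.CategoryTheory.Adjunction.Whiskering

/-!
Cochains of a presheaf of abelian groups along a simplicial object, and their exactness for
injective presheaves when the simplicial object is pointwise contractible.
-/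

set_option autoImplicit false
universe u

open CategoryTheory CategoryTheory.Limits Opposite Simplicial

namespace Groth.Agent.Desc45

variable {T : Type u} [SmallCategory T]

/-- Free abelian presheaves on representables. -/
noncomputable abbrev freeY (T : Type u) [SmallCategory T] : T ⥤ Tᵒᵖ ⥤ AddCommGrpCat.{u} :=
  yoneda ⋙ (Functor.whiskeringRight _ _ _).obj AddCommGrpCat.free

/-- Maps out of a free presheaf are sections. -/
noncomputable def freeYEquiv (b : T) (F : Tᵒᵖ ⥤ AddCommGrpCat.{u}) :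
    ((freeY T).obj b ⟶ F) ≃ F.obj (op b) :=
  ((AddCommGrpCat.adj.whiskerRight _).homEquiv (yoneda.obj b) F).trans yonedaEquiv

theorem freeYEquiv_apply (b : T) (F : Tᵒᵖ ⥤ AddCommGrpCat.{u}) (φ : (freeY T).obj b ⟶ F) :
    freeYEquiv b F φ = φ.app (op b) (FreeAbelianGroup.of (𝟙 b)) := rfl

theorem freeY_app_of {b b' a : T} (g : b ⟶ b') (σ : a ⟶ b) :
    ((freeY T).map g).app (op a) (FreeAbelianGroup.of σ) = FreeAbelianGroup.of (σ ≫ g) :=
  FreeAbelianGroup.map_of_apply _

theorem freeYEquiv_map {b b' : T} (g : b ⟶ b') (F : Tᵒᵖ ⥤ AddCommGrpCat.{u})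
    (φ : (freeY T).obj b' ⟶ F) :
    freeYEquiv b F ((freeY T).map g ≫ φ) = F.map g.op (freeYEquiv b' F φ) := by
  simp only [freeYEquiv_apply]
  change φ.app (op b) (((freeY T).map g).app (op b) (FreeAbelianGroup.of (𝟙 b))) = _
  rw [← ConcreteCategory.comp_apply (φ.app (op b')), ← φ.naturality g.op, ConcreteCategory.comp_apply]
  refine congrArg (φ.app (op b)) ((freeY_app_of g (𝟙 b)).trans ?_)
  refine Eq.trans ?_ (FreeAbelianGroup.map_of_apply _).symm
  simp

theorem freeYEquiv_add (b : T) (F : Tᵒᵖ ⥤ AddCommGrpCat.{u}) (φ ψ : (freeY T).obj b ⟶ F) :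
    freeYEquiv b F (φ + ψ) = freeYEquiv b F φ + freeYEquiv b F ψ := by
  simp only [freeYEquiv_apply]
  rfl

/-- Sections of an injective presheaf extend along monomorphisms of representables. -/
theorem surjective_map_of_injective (F : Tᵒᵖ ⥤ AddCommGrpCat.{u}) [Injective F] {b b' : T}
    (g : b ⟶ b') [Mono ((freeY T).map g)] : Function.Surjective (F.map g.op) := fun x => by
  refine ⟨freeYEquiv b' F (Injective.factorThru ((freeYEquiv b F).symm x) ((freeY T).map g)), ?_⟩
  rw [← freeYEquiv_map, Injective.comp_factorThru, Equiv.apply_symm_apply]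

variable (P : SimplicialObject T)

/-- The simplicial free presheaf. -/
noncomputable abbrev freeS : SimplicialObject (Tᵒᵖ ⥤ AddCommGrpCat.{u}) := P ⋙ freeY T

/-- The differential of the cochains of a presheaf along a simplicial object. -/
noncomputable def cod (F : Tᵒᵖ ⥤ AddCommGrpCat.{u}) (n : ℕ) :
    F.obj (op (P _⦋n⦌)) →+ F.obj (op (P _⦋n + 1⦌)) where
  toFun x := freeYEquiv _ F
    (AlgebraicTopology.AlternatingFaceMapComplex.objD (freeS P) n ≫ (freeYEquiv _ F).symm x)
  map_zero' := by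
    have h : ∀ b : T, freeYEquiv b F 0 = 0 := fun b => by
      simp only [freeYEquiv_apply]
      rfl
    rw [show (freeYEquiv (P _⦋n⦌) F).symm 0 = 0 from (Equiv.symm_apply_eq _).2 (h _).symm,
      comp_zero, h]
  map_add' x y := by
    have h : (freeYEquiv _ F).symm (x + y) =
        (freeYEquiv _ F).symm x + (freeYEquiv _ F).symm y :=
      (Equiv.symm_apply_eq _).2 (by
        rw [freeYEquiv_add, Equiv.apply_symm_apply, Equiv.apply_symm_apply])
    rw [h, Preadditive.comp_add, freeYEquiv_add]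

theorem cod_cod (F : Tᵒᵖ ⥤ AddCommGrpCat.{u}) (n : ℕ) (x : F.obj (op (P _⦋n⦌))) :
    cod P F (n + 1) (cod P F n x) = 0 := by
  change freeYEquiv _ F (_ ≫ (freeYEquiv _ F).symm (freeYEquiv _ F (_ ≫ _))) = 0
  rw [Equiv.symm_apply_apply, ← Category.assoc, AlgebraicTopology.AlternatingFaceMapComplex.d_squared,
    zero_comp]
  simp only [freeYEquiv_apply]
  rfl

theorem cod_eq (F : Tᵒᵖ ⥤ AddCommGrpCat.{u}) (n : ℕ) (x : F.obj (op (P _⦋n⦌))) :
    cod P F n x = ∑ i : Fin (n + 2), (-1 : ℤ) ^ (i : ℕ) • F.map (P.δ i).op x := by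
  let a : ((freeS P) _⦋n + 1⦌ ⟶ F) →+ F.obj (op (P _⦋n + 1⦌)) :=
    AddMonoidHom.mk' (freeYEquiv _ F) (freeYEquiv_add _ F)
  change a (_ ≫ (freeYEquiv _ F).symm x) = _
  rw [AlgebraicTopology.AlternatingFaceMapComplex.objD, Preadditive.sum_comp, map_sum]
  refine Finset.sum_congr rfl fun i _ => ?_
  rw [Preadditive.zsmul_comp, map_zsmul]
  congr 1
  change freeYEquiv _ F ((freeY T).map (P.δ i) ≫ _) = _
  rw [freeYEquiv_map, Equiv.apply_symm_apply]

theorem cod_nat {F G : Tᵒᵖ ⥤ AddCommGrpCat.{u}} (g : F ⟶ G) (n : ℕ) (x : F.obj (op (P _⦋n⦌))) :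
    cod P G n (g.app _ x) = g.app _ (cod P F n x) := by
  simp only [cod_eq, map_sum, map_zsmul]
  refine Finset.sum_congr rfl fun i _ => ?_
  congr 1
  exact (ConcreteCategory.congr_hom (g.naturality (P.δ i).op) x).symm

/-- The cochains are exact in positive degrees. -/
def ExCod (F : Tᵒᵖ ⥤ AddCommGrpCat.{u}) : Prop :=
  ∀ (n : ℕ) (x : F.obj (op (P _⦋n + 1⦌))), cod P F (n + 1) x = 0 → ∃ y, cod P F n y = x

/-- A pointwise contraction. -/
structure Contraction where
  ext : ∀ (a : T) (n : ℕ), (a ⟶ P _⦋n⦌) → (a ⟶ P _⦋n + 1⦌)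
  δ_zero : ∀ (a : T) (n : ℕ) (σ : a ⟶ P _⦋n⦌), ext a n σ ≫ P.δ 0 = σ
  δ_succ : ∀ (a : T) (n : ℕ) (σ : a ⟶ P _⦋n + 1⦌) (i : Fin (n + 2)),
    ext a (n + 1) σ ≫ P.δ i.succ = ext a n (σ ≫ P.δ i)

variable {P}

theorem objD_app_of (a : T) (n : ℕ) (σ : a ⟶ P _⦋n + 1⦌) :
    (AlgebraicTopology.AlternatingFaceMapComplex.objD (freeS P) n).app (op a)
        (FreeAbelianGroup.of σ) =
      ∑ i : Fin (n + 2), (-1 : ℤ) ^ (i : ℕ) •
        (FreeAbelianGroup.of (σ ≫ P.δ i) : FreeAbelianGroup (a ⟶ P _⦋n⦌)) := by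
  let e : ((freeS P) _⦋n + 1⦌ ⟶ (freeS P) _⦋n⦌) →+ FreeAbelianGroup (a ⟶ P _⦋n⦌) :=
    AddMonoidHom.mk' (fun φ => φ.app (op a) (FreeAbelianGroup.of σ)) fun _ _ => rfl
  change e _ = _
  rw [AlgebraicTopology.AlternatingFaceMapComplex.objD, map_sum]
  refine Finset.sum_congr rfl fun i _ => ?_
  rw [map_zsmul]
  congr 1

/-- The differential on free groups. -/
noncomputable def freeD (P : SimplicialObject T) (a : T) (n : ℕ) :
    FreeAbelianGroup (a ⟶ P _⦋n + 1⦌) →+ FreeAbelianGroup (a ⟶ P _⦋n⦌) :=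
  ((AlgebraicTopology.AlternatingFaceMapComplex.objD (freeS P) n).app (op a)).hom

theorem freeD_of (a : T) (n : ℕ) (σ : a ⟶ P _⦋n + 1⦌) :
    freeD P a n (FreeAbelianGroup.of σ) =
      ∑ i : Fin (n + 2), (-1 : ℤ) ^ (i : ℕ) • FreeAbelianGroup.of (σ ≫ P.δ i) :=
  objD_app_of a n σ

theorem Contraction.homotopy (c : Contraction P) (a : T) (n : ℕ)
    (z : FreeAbelianGroup (a ⟶ P _⦋n + 1⦌)) :
    freeD P a (n + 1) (FreeAbelianGroup.map (c.ext a (n + 1)) z) +
      FreeAbelianGroup.map (c.ext a n) (freeD P a n z) = z := by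
  induction z using FreeAbelianGroup.induction_on with
  | zero => simp
  | of σ =>
    rw [FreeAbelianGroup.map_of_apply, freeD_of, freeD_of, map_sum, Fin.sum_univ_succ, c.δ_zero,
      add_assoc, ← Finset.sum_add_distrib]
    simp [c.δ_succ, pow_succ, FreeAbelianGroup.map_of_apply]
  | neg σ h =>
    simp only [map_neg]
    rw [← neg_add, h]
  | add x y hx hy =>
    simp only [map_add]
    rw [add_add_add_comm, hx, hy]

/-- The cochains of an injective presheaf along a contractible simplicial object are exact. -/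
theorem Contraction.exCod (c : Contraction P) (F : Tᵒᵖ ⥤ AddCommGrpCat.{u}) [Injective F] :
    ExCod P F := by
  intro n x hx
  let d := AlgebraicTopology.AlternatingFaceMapComplex.objD (freeS P)
  let φ := (freeYEquiv _ F).symm x
  have h0 : d (n + 1) ≫ φ = 0 := by
    apply (freeYEquiv _ F).injective
    exact hx.trans (by simp only [freeYEquiv_apply]; rfl)
  have hk : kernel.ι (d n) ≫ φ = 0 := by
    ext a w
    let z : FreeAbelianGroup (a.unop ⟶ P _⦋n + 1⦌) := (kernel.ι (d n)).app a w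
    have hz : (d n).app a z = 0 :=
      ConcreteCategory.congr_hom (NatTrans.congr_app (kernel.condition (d n)) a) w
    have h := c.homotopy a.unop n z
    change φ.app a z = 0
    rw [← h]
    rw [show freeD P a.unop n z = 0 from hz, map_zero, add_zero]
    let y : ((freeS P) _⦋n + 1 + 1⦌).obj a := FreeAbelianGroup.map (c.ext a.unop (n + 1)) z
    have e := ConcreteCategory.congr_hom (NatTrans.congr_app h0 a) y
    rw [NatTrans.comp_app, ConcreteCategory.comp_apply] at e
    simp only [freeD]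
    exact e
  let χ := cokernel.desc (kernel.ι (d n)) φ hk
  let ψ := Injective.factorThru χ (Abelian.factorThruCoimage (d n))
  refine ⟨freeYEquiv _ F ψ, ?_⟩
  change freeYEquiv _ F (d n ≫ (freeYEquiv _ F).symm (freeYEquiv _ F ψ)) = x
  rw [Equiv.symm_apply_apply]
  have : d n ≫ ψ = φ := by
    rw [← Abelian.coimage.fac (d n), Category.assoc, Injective.comp_factorThru]
    exact cokernel.π_desc _ _ _
  rw [this]
  exact Equiv.apply_symm_apply _ _

end Groth.Agent.Desc45
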