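import Groth.Agent.Desc45.MMap
import Groth.Agent.SiteCoh.LanExact

/-!
Inverse images along morphisms of diagrams: existence, exactness, restrictions.
-/

set_option autoImplicit false
set_option linter.unusedVariables false
universe u

open CategoryTheory CategoryTheory.Limits Opposite TopologicalSpace Groth.Agent.SiteCoh

namespace Groth.Agent.Desc45

variable {I J : Type} [SmallCategory I] [SmallCategory J] {X : I ⥤ TopCat.{u}}
  {Y : J ⥤ TopCat.{u}}

namespace DMap

variable (M : DMap Y X)

/-- The preimage functor. -/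
def pb : Tot (M.idx ⋙ X) ⥤ Tot Y where
  obj a := ⟨a.base, M.pre a.base a.opn⟩
  map {a b} φ := ⟨φ.base, M.pre_le φ.base φ.sub⟩
  map_id _ := Tot.hom_ext rfl
  map_comp _ _ := Tot.hom_ext rfl

instance : (M.pb).IsContinuous (Tot.top (M.idx ⋙ X)) (Tot.top Y) :=
  Tot.isContinuous_of_fibres _ _ fun i => by
    have h : (Opens.map (M.map.app i) ⋙ Tot.ι Y i).IsContinuous
        (Opens.grothendieckTopology ((M.idx ⋙ X).obj i)) (Tot.top Y) :=
      Functor.isContinuous_comp _ _ _ (Opens.grothendieckTopology (Y.obj i)) _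
    exact Functor.isContinuous_of_iso (F₁ := Opens.map (M.map.app i) ⋙ Tot.ι Y i)
      (NatIso.ofComponents (fun U => Iso.refl _) fun f => Tot.hom_ext (by
        exact (Category.comp_id _).trans (Category.id_comp _).symm)) _ _

/-- The open image functor, for componentwise open embeddings. -/
def img (hM : ∀ i, Topology.IsOpenEmbedding (M.map.app i)) : Tot Y ⥤ Tot X where
  obj a := ⟨M.idx.obj a.base, (hM a.base).functor.obj a.opn⟩
  map {a b} φ := ⟨M.idx.map φ.base, by
    rintro _ ⟨y, hy, rfl⟩
    exact ⟨Y.map φ.base y, φ.sub hy, by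
      change M.map.app b.base (Y.map φ.base y) = X.map (M.idx.map φ.base) (M.map.app a.base y)
      rw [← ConcreteCategory.comp_apply, M.map.naturality φ.base]
      rfl⟩⟩
  map_id a := Tot.hom_ext (M.idx.map_id _)
  map_comp φ ψ := Tot.hom_ext (M.idx.map_comp _ _)

instance (hM : ∀ i, Topology.IsOpenEmbedding (M.map.app i)) :
    (M.img hM).IsContinuous (Tot.top Y) (Tot.top X) :=
  Tot.isContinuous_of_fibres _ _ fun i => by
    have hc := (hM i).functor_isContinuous
    have h : ((hM i).functor ⋙ Tot.ι X (M.idx.obj i)).IsContinuous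
        (Opens.grothendieckTopology (Y.obj i)) (Tot.top X) :=
      @Functor.isContinuous_comp _ _ _ _ _ _ (hM i).functor (Tot.ι X (M.idx.obj i))
        (Opens.grothendieckTopology (Y.obj i))
        (Opens.grothendieckTopology (X.obj (M.idx.obj i))) (Tot.top X) hc _
    exact Functor.isContinuous_of_iso (F₁ := (hM i).functor ⋙ Tot.ι X (M.idx.obj i))
      (F₂ := Tot.ι Y i ⋙ M.img hM)
      (NatIso.ofComponents (fun U => Iso.refl _) fun f => Tot.hom_ext (by
        exact (Category.comp_id _).trans ((M.idx.map_id i).symm.trans (Category.id_comp _).symm)))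
      _ _

end DMap

/-- Base change along a functor of index categories. -/
def bcMap (ψ : J ⥤ I) (X : I ⥤ TopCat.{u}) : DMap (ψ ⋙ X) X := ⟨ψ, 𝟙 _⟩

theorem isOpenEmbedding_bcMap (ψ : J ⥤ I) (X : I ⥤ TopCat.{u}) (i : J) :
    Topology.IsOpenEmbedding ((bcMap ψ X).map.app i) :=
  Topology.IsOpenEmbedding.id

section res

variable (M : DMap Y X) (hM : ∀ i, Topology.IsOpenEmbedding (M.map.app i))

/-- Restriction along componentwise open embeddings. -/
noncomputable abbrev restr : Sh X ⥤ Sh Y :=
  (M.img hM).sheafPushforwardContinuous AddCommGrpCat.{u} (Tot.top Y) (Tot.top X)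

theorem img_pre_le (i : J) (V : Opens (X.obj (M.idx.obj i))) :
    (hM i).functor.obj (M.pre i V) ≤ (Opens.map (X.map (𝟙 (M.idx.obj i)))).obj V :=
  Tot.le_map_id X fun x hx => by
    obtain ⟨y, hy, rfl⟩ := hx
    exact hy

/-- The universal map of a restriction. -/
noncomputable def restrUnit (G : Sh X) : MMap M G ((restr M hM).obj G) where
  app i V := res G (Tot.mkHom X (𝟙 _) (img_pre_le M hM i V))
  natural {i j} f U V h x := by
    change res G _ (res G _ x) = res G ((M.img hM).map (Tot.mkHom Y f _)) (res G _ x)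
    rw [res_res]
    refine Eq.trans ?_ (res_res G _ _ x).symm
    exact res_eq G ((Category.id_comp _).trans (Category.comp_id _).symm) _

theorem restrUnit_nat {G G' : Sh X} (g : G ⟶ G') :
    (restrUnit M hM G').pull g = (restrUnit M hM G).push ((restr M hM).map g) := by
  ext i V x
  exact (hom_res g _ x).symm

theorem le_pre_img (i : J) (U : Opens (Y.obj i)) :
    U ≤ (Opens.map (Y.map (𝟙 i))).obj (M.pre i ((hM i).functor.obj U)) :=
  Tot.le_map_id Y fun y hy => ⟨y, hy, rfl⟩

theorem pre_img_le (i : J) (U : Opens (Y.obj i)) :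
    M.pre i ((hM i).functor.obj U) ≤ (Opens.map (Y.map (𝟙 i))).obj U :=
  Tot.le_map_id Y fun y hy => by
    obtain ⟨z, hz, e⟩ := hy
    exact (hM i).injective e ▸ hz

/-- The morphism out of a restriction given by a map. -/
noncomputable def restrDesc {G : Sh X} {K : Sh Y} (χ : MMap M G K) :
    (restr M hM).obj G ⟶ K :=
  ⟨{ app := fun a => χ.app a.unop.base ((hM a.unop.base).functor.obj a.unop.opn) ≫
      res K (Tot.mkHom Y (𝟙 a.unop.base) (le_pre_img M hM a.unop.base a.unop.opn))
     naturality := fun a b φ => ConcreteCategory.hom_ext _ _ fun x => by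
      change res K _ (χ.app _ _ (res G ((M.img hM).map φ.unop) x)) =
        res K φ.unop (res K _ (χ.app _ _ x))
      refine (congrArg (fun q => res K _ q)
        (χ.natural φ.unop.base _ _ ((M.img hM).map φ.unop).sub x)).trans ?_
      rw [res_res, res_res]
      exact res_eq K ((Category.id_comp _).trans (Category.comp_id _).symm) _ }⟩

theorem push_restrDesc {G : Sh X} {K : Sh Y} (χ : MMap M G K) :
    (restrUnit M hM G).push (restrDesc M hM χ) = χ := by
  ext i V x
  change res K _ (χ.app i _ (res G _ x)) = _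
  have e := χ.natural (𝟙 i) ((hM i).functor.obj (M.pre i V)) V (by
    rw [M.idx.map_id]; exact img_pre_le M hM i V) x
  refine (congrArg (fun q => res K _ q) ((congrArg (χ.app i _)
    (res_eq G (M.idx.map_id i).symm x)).trans e)).trans ?_
  rw [res_res]
  exact res_self K _ (Category.id_comp _) _

theorem restrUnit_isU (G : Sh X) : (restrUnit M hM G).IsU := by
  intro K
  refine ⟨fun h h' e => ?_, fun χ => ⟨restrDesc M hM χ, ?_⟩⟩
  · have key : ∀ (g : (restr M hM).obj G ⟶ K), g = restrDesc M hM ((restrUnit M hM G).push g) := by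
      intro g
      refine sh_hom_ext fun i U x => ?_
      change _ = res K _ (g.hom.app _ (res G _ x))
      refine Eq.trans ?_ (hom_res g (Tot.mkHom Y (𝟙 i) (le_pre_img M hM i U)) _)
      refine congrArg _ (Eq.symm ((res_res G _ _ x).trans (res_self G _ ?_ x)))
      exact (Category.comp_id _).trans (M.idx.map_id _)
    change (restrUnit M hM G).push h = (restrUnit M hM G).push h' at e
    rw [key h, key h', e]
  · exact push_restrDesc M hM χ

/-- Restriction is left adjoint to the direct image. -/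
noncomputable def restrAdj : restr M hM ⊣ R M :=
  adjOfU M (restr M hM) (restrUnit M hM) (fun g => restrUnit_nat M hM g) (restrUnit_isU M hM)

end res

section pull

variable (M : DMap Y X)

/-- Restriction to the index category of the source. -/
noncomputable abbrev reidx : Sh X ⥤ Sh (M.idx ⋙ X) :=
  restr (bcMap M.idx X) (isOpenEmbedding_bcMap M.idx X)

/-- The inverse image. -/
noncomputable def L : Sh X ⥤ Sh Y :=
  reidx M ⋙ (M.pb).sheafPullback AddCommGrpCat.{u} (Tot.top (M.idx ⋙ X)) (Tot.top Y)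

/-- Maps over `M` from morphisms into the push-forward along the preimage functor. -/
noncomputable def ofPb {G : Sh X} {K : Sh Y}
    (φ : (reidx M).obj G ⟶
      ((M.pb).sheafPushforwardContinuous AddCommGrpCat.{u} (Tot.top (M.idx ⋙ X)) (Tot.top Y)).obj K) :
    MMap M G K where
  app i V := res G (Tot.mkHom X (𝟙 _) (img_pre_le (bcMap M.idx X) (isOpenEmbedding_bcMap M.idx X) i V))
    ≫ φ.hom.app (op ⟨i, V⟩) ≫ res K (Tot.mkHom Y (𝟙 i) (Tot.le_map_id Y le_rfl))
  natural {i j} f U V h x := by
    have e := (restrUnit (bcMap M.idx X) (isOpenEmbedding_bcMap M.idx X) G).natural f U V h x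
    refine Eq.trans (congrArg (fun q => res K _ (φ.hom.app (op ⟨i, U⟩) q)) e) ?_
    refine Eq.trans (congrArg (fun q => res K _ q) (hom_res φ _ _)) ?_
    refine Eq.trans ?_ (res_res K _ _ _).symm
    exact (res_res K _ ((M.pb).map (Tot.mkHom (M.idx ⋙ X) f h)) _).trans
      (res_eq K ((Category.id_comp _).trans (Category.comp_id _).symm) _)

/-- Maps over `M` are morphisms into the push-forward along the preimage functor. -/
theorem ofPb_bijective (G : Sh X) (K : Sh Y) : Function.Bijective (ofPb M (G := G) (K := K)) := by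
  have key := restrUnit_isU (bcMap M.idx X) (isOpenEmbedding_bcMap M.idx X) G
  let P := ((M.pb).sheafPushforwardContinuous AddCommGrpCat.{u} (Tot.top (M.idx ⋙ X)) (Tot.top Y)).obj K
  let toM : MMap (bcMap M.idx X) G P → MMap M G K := fun χ =>
    { app := fun i V => χ.app i V ≫ res K (Tot.mkHom Y (𝟙 i) (Tot.le_map_id Y le_rfl))
      natural := fun {i j} f U V h x => by
        refine Eq.trans (congrArg (fun q => res K _ q) (χ.natural f U V h x)) ?_
        refine Eq.trans ?_ (res_res K _ _ _).symm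
        exact (res_res K _ ((M.pb).map (Tot.mkHom (M.idx ⋙ X) f h)) _).trans
          (res_eq K ((Category.id_comp _).trans (Category.comp_id _).symm) _) }
  let ofM : MMap M G K → MMap (bcMap M.idx X) G P := fun χ =>
    { app := fun i V => χ.app i V
      natural := fun {i j} f U V h x => χ.natural f U V h x }
  have hto : Function.Bijective toM := by
    refine Function.bijective_iff_has_inverse.2 ⟨ofM, fun χ => ?_, fun χ => ?_⟩
    · ext i V x; exact res_self K _ rfl _
    · ext i V x; exact res_self K _ rfl _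
  have : ofPb M (G := G) (K := K) = toM ∘
      (fun h => (restrUnit (bcMap M.idx X) (isOpenEmbedding_bcMap M.idx X) G).push h) := by
    funext φ
    ext i V x
    rfl
  rw [this]
  exact hto.comp (key P)

/-- The universal map to the inverse image. -/
noncomputable def unit (G : Sh X) : MMap M G ((L M).obj G) :=
  ofPb M (((M.pb).sheafAdjunctionContinuous AddCommGrpCat.{u} (Tot.top (M.idx ⋙ X))
    (Tot.top Y)).unit.app ((reidx M).obj G))

theorem unit_nat {G G' : Sh X} (g : G ⟶ G') :
    (unit M G').pull g = (unit M G).push ((L M).map g) := by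
  ext i V x
  let A := (M.pb).sheafAdjunctionContinuous AddCommGrpCat.{u} (Tot.top (M.idx ⋙ X)) (Tot.top Y)
  have e1 := hom_res g (Tot.mkHom X (𝟙 _)
    (img_pre_le (bcMap M.idx X) (isOpenEmbedding_bcMap M.idx X) i V)) x
  have e2 := ConcreteCategory.congr_hom (NatTrans.congr_app
    (congrArg (fun q => q.hom) (A.unit.naturality ((reidx M).map g))) (op ⟨i, V⟩))
    (res G (Tot.mkHom X (𝟙 _)
      (img_pre_le (bcMap M.idx X) (isOpenEmbedding_bcMap M.idx X) i V)) x)
  refine Eq.trans ?_ (hom_res ((L M).map g) _ _).symm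
  refine Eq.trans (congrArg (fun q => res ((L M).obj G') (Tot.mkHom Y (𝟙 i) (Tot.le_map_id Y le_rfl))
    ((A.unit.app ((reidx M).obj G')).hom.app (op ⟨i, V⟩) q)) e1.symm) ?_
  exact congrArg (fun q => res ((L M).obj G') _ q) e2

theorem unit_isU (G : Sh X) : (unit M G).IsU := by
  intro K
  have : (fun h => (unit M G).push h) = ofPb M ∘
      ((M.pb).sheafAdjunctionContinuous AddCommGrpCat.{u} (Tot.top (M.idx ⋙ X))
        (Tot.top Y)).homEquiv ((reidx M).obj G) K := by
    funext h
    ext i V x
    change h.hom.app _ (res _ _ _) = ((ofPb M _).app i V) x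
    rw [hom_res h, Adjunction.homEquiv_unit]
    rfl
  rw [this]
  exact (ofPb_bijective M G K).comp (Equiv.bijective _)

/-- Inverse image is left adjoint to direct image. -/
noncomputable def adj : L M ⊣ R M :=
  adjOfU M (L M) (unit M) (fun g => unit_nat M g) (unit_isU M)

instance additive_R : (R M).Additive :=
  (additive_of_U M (L M) (unit M) (fun g => unit_nat M g) (unit_isU M)).2

instance additive_L : (L M).Additive :=
  (additive_of_U M (L M) (unit M) (fun g => unit_nat M g) (unit_isU M)).1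

instance preservesFiniteColimits_L : PreservesFiniteColimits (L M) :=
  ⟨fun K _ _ => (adj M).leftAdjoint_preservesColimits.preservesColimitsOfShape⟩

instance hasPseudoFilteredComma_pb : HasPseudoFilteredComma M.pb := by
  refine ⟨fun V => ⟨fun {a b c} f g => ?_, fun {a b} f g => ?_⟩⟩
  · have ef : a.hom.unop = b.hom.unop ≫ M.pb.map f.left.unop :=
      (congrArg Quiver.Hom.unop (CostructuredArrow.w f)).symm
    have eg : a.hom.unop = c.hom.unop ≫ M.pb.map g.left.unop :=
      (congrArg Quiver.Hom.unop (CostructuredArrow.w g)).symm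
    let Ud : Opens (X.obj (M.idx.obj V.unop.base)) :=
      (Opens.map (X.map (M.idx.map b.hom.unop.base))).obj b.left.unop.opn ⊓
        (Opens.map (X.map (M.idx.map c.hom.unop.base))).obj c.left.unop.opn
    let d : Tot (M.idx ⋙ X) := ⟨V.unop.base, Ud⟩
    have hle : V.unop.opn ≤ M.pre V.unop.base Ud := fun x hx => by
      have h1 := b.hom.unop.sub hx
      have h2 := c.hom.unop.sub hx
      exact ⟨(M.pre_sq b.hom.unop.base b.left.unop.opn).le h1,
        (M.pre_sq c.hom.unop.base c.left.unop.opn).le h2⟩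
    let t : V.unop ⟶ M.pb.obj d := ⟨𝟙 _, Tot.le_map_id Y hle⟩
    let kb : d ⟶ b.left.unop := ⟨b.hom.unop.base, inf_le_left⟩
    let kc : d ⟶ c.left.unop := ⟨c.hom.unop.base, inf_le_right⟩
    refine ⟨CostructuredArrow.mk (Y := op d) (t.op : M.pb.op.obj (op d) ⟶ V),
      CostructuredArrow.homMk kb.op (Quiver.Hom.unop_inj (Tot.hom_ext (Category.id_comp _))),
      CostructuredArrow.homMk kc.op (Quiver.Hom.unop_inj (Tot.hom_ext (Category.id_comp _))),
      CostructuredArrow.hom_ext _ _ (Quiver.Hom.unop_inj (Tot.hom_ext ?_))⟩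
    exact (congrArg Tot.Hom.base ef).symm.trans (congrArg Tot.Hom.base eg)
  · have ef : a.hom.unop = b.hom.unop ≫ M.pb.map f.left.unop :=
      (congrArg Quiver.Hom.unop (CostructuredArrow.w f)).symm
    have eg : a.hom.unop = b.hom.unop ≫ M.pb.map g.left.unop :=
      (congrArg Quiver.Hom.unop (CostructuredArrow.w g)).symm
    let Ud : Opens (X.obj (M.idx.obj V.unop.base)) :=
      (Opens.map (X.map (M.idx.map b.hom.unop.base))).obj b.left.unop.opn
    let d : Tot (M.idx ⋙ X) := ⟨V.unop.base, Ud⟩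
    have hle : V.unop.opn ≤ M.pre V.unop.base Ud := fun x hx =>
      (M.pre_sq b.hom.unop.base b.left.unop.opn).le (b.hom.unop.sub hx)
    let t : V.unop ⟶ M.pb.obj d := ⟨𝟙 _, Tot.le_map_id Y hle⟩
    let kb : d ⟶ b.left.unop := ⟨b.hom.unop.base, le_rfl⟩
    refine ⟨CostructuredArrow.mk (Y := op d) (t.op : M.pb.op.obj (op d) ⟶ V),
      CostructuredArrow.homMk kb.op (Quiver.Hom.unop_inj (Tot.hom_ext (Category.id_comp _))),
      CostructuredArrow.hom_ext _ _ (Quiver.Hom.unop_inj (Tot.hom_ext ?_))⟩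
    exact (congrArg Tot.Hom.base ef).symm.trans (congrArg Tot.Hom.base eg)

instance preservesFiniteLimits_L : PreservesFiniteLimits (L M) := by
  have := sheafPullback_preservesFiniteLimits M.pb (Tot.top (M.idx ⋙ X)) (Tot.top Y)
  exact comp_preservesFiniteLimits _ _

end pull

section restr_exact

variable (M : DMap Y X) (hM : ∀ i, Topology.IsOpenEmbedding (M.map.app i))

instance additive_restr : (restr M hM).Additive :=
  (additive_of_U M (restr M hM) (restrUnit M hM) (fun g => restrUnit_nat M hM g)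
    (restrUnit_isU M hM)).1

instance preservesFiniteColimits_restr : PreservesFiniteColimits (restr M hM) :=
  ⟨fun K _ _ => (restrAdj M hM).leftAdjoint_preservesColimits.preservesColimitsOfShape⟩

/-- Cartesianness of a morphism of diagrams, on ranges. -/
def DMap.IsCart : Prop :=
  ∀ {i j : J} (h : i ⟶ j) (x : X.obj (M.idx.obj i)),
    X.map (M.idx.map h) x ∈ Set.range (M.map.app j) → x ∈ Set.range (M.map.app i)

/-- The index condition under which restriction preserves injectives. -/
def PCofil (ψ : J ⥤ I) : Prop :=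
  (∀ {i : I} {a b c : J} (fb : i ⟶ ψ.obj b) (fc : i ⟶ ψ.obj c) (hb : b ⟶ a) (hc : c ⟶ a),
      fb ≫ ψ.map hb = fc ≫ ψ.map hc → ∃ (d : J) (fd : i ⟶ ψ.obj d) (kb : d ⟶ b) (kc : d ⟶ c),
        fd ≫ ψ.map kb = fb ∧ fd ≫ ψ.map kc = fc ∧ kb ≫ hb = kc ≫ hc) ∧
  ∀ {i : I} {a b : J} (fb : i ⟶ ψ.obj b) (h h' : b ⟶ a),
      fb ≫ ψ.map h = fb ≫ ψ.map h' → ∃ (d : J) (fd : i ⟶ ψ.obj d) (k : d ⟶ b),
        fd ≫ ψ.map k = fb ∧ k ≫ h = k ≫ h'

theorem hasPseudoFilteredComma_img (hc : M.IsCart) (hψ : PCofil M.idx) :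
    HasPseudoFilteredComma (M.img hM) := by
  have mem : ∀ {a : Tot X} {d : J} (b : Tot Y) (fd : a.base ⟶ M.idx.obj d) (kb : d ⟶ b.base)
      (φ : a ⟶ (M.img hM).obj b), fd ≫ M.idx.map kb = φ.base → ∀ x ∈ a.opn,
      ∃ y, M.map.app d y = X.map fd x ∧ Y.map kb y ∈ b.opn := by
    intro a d b fd kb φ e x hx
    obtain ⟨z, hz, ez⟩ := φ.sub hx
    have e' : X.map (M.idx.map kb) (X.map fd x) = X.map φ.base x := by
      rw [← ConcreteCategory.comp_apply, ← X.map_comp, e]
      rfl
    obtain ⟨y, hy⟩ := hc kb (X.map fd x) ⟨z, ez.trans e'.symm⟩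
    refine ⟨y, hy, ?_⟩
    have : M.map.app b.base (Y.map kb y) = M.map.app b.base z := by
      rw [ez, ← e', ← hy, ← ConcreteCategory.comp_apply, M.map.naturality kb]
      rfl
    exact (hM b.base).injective this ▸ hz
  refine ⟨fun V => ⟨fun {a b c} f g => ?_, fun {a b} f g => ?_⟩⟩
  · have ef : a.hom.unop = b.hom.unop ≫ (M.img hM).map f.left.unop :=
      (congrArg Quiver.Hom.unop (CostructuredArrow.w f)).symm
    have eg : a.hom.unop = c.hom.unop ≫ (M.img hM).map g.left.unop :=
      (congrArg Quiver.Hom.unop (CostructuredArrow.w g)).symm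
    obtain ⟨d, fd, kb, kc, e1, e2, e3⟩ := hψ.1 b.hom.unop.base c.hom.unop.base f.left.unop.base
      g.left.unop.base ((congrArg Tot.Hom.base ef).symm.trans (congrArg Tot.Hom.base eg))
    let Ud : Opens (Y.obj d) :=
      (Opens.map (Y.map kb)).obj b.left.unop.opn ⊓ (Opens.map (Y.map kc)).obj c.left.unop.opn
    have hle : V.unop.opn ≤ (Opens.map (X.map fd)).obj ((hM d).functor.obj Ud) := fun x hx => by
      obtain ⟨y, hy, hy1⟩ := mem b.left.unop fd kb b.hom.unop e1 x hx
      obtain ⟨y', hy', hy2⟩ := mem c.left.unop fd kc c.hom.unop e2 x hx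
      obtain rfl := (hM d).injective (hy.trans hy'.symm)
      exact ⟨y, ⟨hy1, hy2⟩, hy⟩
    let dd : Tot Y := ⟨d, Ud⟩
    let t : V.unop ⟶ (M.img hM).obj dd := ⟨fd, hle⟩
    let qb : dd ⟶ b.left.unop := ⟨kb, inf_le_left⟩
    let qc : dd ⟶ c.left.unop := ⟨kc, inf_le_right⟩
    exact ⟨CostructuredArrow.mk (Y := op dd) (t.op : (M.img hM).op.obj (op dd) ⟶ V),
      CostructuredArrow.homMk qb.op (Quiver.Hom.unop_inj (Tot.hom_ext e1)),
      CostructuredArrow.homMk qc.op (Quiver.Hom.unop_inj (Tot.hom_ext e2)),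
      CostructuredArrow.hom_ext _ _ (Quiver.Hom.unop_inj (Tot.hom_ext e3))⟩
  · have ef : a.hom.unop = b.hom.unop ≫ (M.img hM).map f.left.unop :=
      (congrArg Quiver.Hom.unop (CostructuredArrow.w f)).symm
    have eg : a.hom.unop = b.hom.unop ≫ (M.img hM).map g.left.unop :=
      (congrArg Quiver.Hom.unop (CostructuredArrow.w g)).symm
    obtain ⟨d, fd, k, e1, e3⟩ := hψ.2 b.hom.unop.base f.left.unop.base
      g.left.unop.base ((congrArg Tot.Hom.base ef).symm.trans (congrArg Tot.Hom.base eg))
    let Ud : Opens (Y.obj d) := (Opens.map (Y.map k)).obj b.left.unop.opn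
    have hle : V.unop.opn ≤ (Opens.map (X.map fd)).obj ((hM d).functor.obj Ud) := fun x hx => by
      obtain ⟨y, hy, hy1⟩ := mem b.left.unop fd k b.hom.unop e1 x hx
      exact ⟨y, hy1, hy⟩
    let dd : Tot Y := ⟨d, Ud⟩
    let t : V.unop ⟶ (M.img hM).obj dd := ⟨fd, hle⟩
    let qb : dd ⟶ b.left.unop := ⟨k, le_rfl⟩
    exact ⟨CostructuredArrow.mk (Y := op dd) (t.op : (M.img hM).op.obj (op dd) ⟶ V),
      CostructuredArrow.homMk qb.op (Quiver.Hom.unop_inj (Tot.hom_ext e1)),
      CostructuredArrow.hom_ext _ _ (Quiver.Hom.unop_inj (Tot.hom_ext e3))⟩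

theorem restr_injective (hc : M.IsCart) (hψ : PCofil M.idx) (F : Sh X) [Injective F] :
    Injective ((restr M hM).obj F) := by
  have := hasPseudoFilteredComma_img M hM hc hψ
  exact push_injective (M.img hM) (Tot.top Y) (Tot.top X) F

end restr_exact

end Groth.Agent.Desc45
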