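import Groth.Agent.Desc45.AcyclicClass
import Mathlib.Algebra.Homology.DerivedCategory.HomologySequence

/-!
Graded acyclic classes: left exact functors preserve quasi-isomorphisms in a range of degrees.
Retracts of fully faithful functors on derived categories.
-/

set_option autoImplicit false
set_option linter.unusedSectionVars false
universe w₁ w₂ w₃ v₁ v₂ v₃ u₁ u₂ u₃

namespace Groth.Agent.Desc45

open CategoryTheory CategoryTheory.Limits DerivedCategory
open scoped ZeroObject

variable {A : Type u₁} [Category.{v₁} A] [Abelian A] {B : Type u₂} [Category.{v₂} B] [Abelian B]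
  (R : A ⥤ B) [R.Additive]

/-- A decreasing sequence of classes, acyclic for a left exact functor up to a degree. -/
structure GradedClass where
  P : ℕ → A → Prop
  antitone : ∀ {j k : ℕ}, j ≤ k → ∀ X, P k X → P j X
  of_isZero : ∀ k X, IsZero X → P k X
  of_injective : ∀ k X, Injective X → P k X
  X₂ : ∀ k {S : ShortComplex A}, S.ShortExact → P k S.X₁ → P k S.X₃ → P k S.X₂
  X₃ : ∀ k {S : ShortComplex A}, S.ShortExact → P (k + 1) S.X₁ → P k S.X₂ → P k S.X₃
  epi : ∀ {S : ShortComplex A}, S.ShortExact → P 1 S.X₁ → Epi (R.map S.g)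

variable {R}

namespace GradedClass

variable (c : GradedClass R) [PreservesFiniteLimits R]

theorem exactAt_map (K : CochainComplex A ℤ) (a : ℤ) [K.IsStrictlyGE a] (hK : K.Acyclic) (N : ℕ)
    (hP : ∀ n, c.P N (K.X n)) (n : ℤ) (hn : n + 1 ≤ a + N) :
    ((R.mapHomologicalComplex (ComplexShape.up ℤ)).obj K).ExactAt n := by
  let T : ℤ → ShortComplex A := fun n =>
    ShortComplex.mk (K.iCycles n) (K.toCycles n (n + 1)) (by
      rw [← cancel_mono (K.iCycles (n + 1)), Category.assoc, HomologicalComplex.toCycles_i,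
        HomologicalComplex.iCycles_d, zero_comp])
  have hT : ∀ n, (T n).ShortExact := fun n => by
    have hm : Mono (T n).f := inferInstanceAs (Mono (K.iCycles n))
    have : Epi (T n).g := by
      have h := hK (n + 1)
      rw [HomologicalComplex.exactAt_iff_isZero_homology] at h
      exact Preadditive.epi_of_isZero_cokernel' _ (K.homologyIsCokernel n (n + 1) (by simp)) h
    have he : (T n).Exact := ShortComplex.exact_of_f_is_kernel _ (KernelFork.IsLimit.ofι _ _
      (fun g hg => K.liftCycles g (n + 1) (by simp) (by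
        rw [← K.toCycles_i n (n + 1), ← Category.assoc, hg, zero_comp]))
      (fun g hg => K.liftCycles_i _ _ _ _) (fun g hg b hb => by
        rw [← cancel_mono (K.iCycles n), K.liftCycles_i]; exact hb))
    exact { exact := he, mono_f := hm, epi_g := this }
  have hZ : ∀ (m : ℕ) (n : ℤ), n ≤ a + m → ∀ k, k + m ≤ N → c.P k (K.cycles n) := by
    intro m
    induction m with
    | zero =>
      intro n hn k _
      refine c.of_isZero _ _ ?_
      rcases lt_or_eq_of_le (show n ≤ a by simpa using hn) with h | h
      · exact (K.isZero_of_isStrictlyGE a n h).of_mono (K.iCycles n)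
      · subst h
        have := (hT (n - 1)).epi_g
        have h0 : IsZero (K.cycles (n - 1 + 1)) :=
          IsZero.of_epi (T (n - 1)).g (K.isZero_of_isStrictlyGE n (n - 1) (by lia))
        rwa [sub_add_cancel] at h0
    | succ m ih =>
      intro n hn k hk
      have h1 := c.X₃ k (hT (n - 1)) (ih (n - 1) (by push_cast at hn; lia) (k + 1) (by lia))
        (c.antitone (by lia) _ (hP (n - 1)))
      change c.P k (K.cycles (n - 1 + 1)) at h1
      rwa [sub_add_cancel] at h1
  obtain ⟨i, rfl⟩ : ∃ i, n = i + 1 := ⟨n - 1, by lia⟩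
  rw [HomologicalComplex.exactAt_iff' _ i (i + 1) (i + 1 + 1) (by simp) (by simp)]
  let S₁ : ShortComplex A := ShortComplex.mk (K.iCycles (i + 1)) (K.d (i + 1) (i + 1 + 1))
    (K.iCycles_d _ _)
  have hS₁ : S₁.Exact := ShortComplex.exact_of_f_is_kernel _
    (K.cyclesIsKernel (i + 1) (i + 1 + 1) (by simp))
  have h2 : (S₁.map R).Exact :=
    hS₁.map_of_mono_of_preservesKernel R (inferInstanceAs (Mono (K.iCycles (i + 1)))) inferInstance
  have h1 : Epi (R.map (T i).g) := by
    by_cases h : i < a
    · have := R.map_isZero ((K.isZero_of_isStrictlyGE a i h))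
      have hz : IsZero (K.cycles (i + 1)) := by
        have := (hT i).epi_g
        exact IsZero.of_epi (T i).g (K.isZero_of_isStrictlyGE a i h)
      exact ⟨fun g g' _ => (R.map_isZero hz).eq_of_src g g'⟩
    · refine c.epi (hT i) ?_
      exact hZ (i - a).toNat i (by lia) 1 (by lia)
  let φ : (((R.mapHomologicalComplex (ComplexShape.up ℤ)).obj K).sc' i (i + 1) (i + 1 + 1)) ⟶
      S₁.map R :=
    { τ₁ := R.map (K.toCycles i (i + 1))
      τ₂ := 𝟙 _
      τ₃ := 𝟙 _
      comm₁₂ := by
        change R.map _ ≫ R.map _ = R.map (K.d i (i + 1)) ≫ 𝟙 _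
        rw [← R.map_comp, K.toCycles_i, Category.comp_id]
      comm₂₃ := (Category.id_comp _).trans (Category.comp_id _).symm }
  have : Epi φ.τ₁ := h1
  have : IsIso φ.τ₂ := inferInstanceAs (IsIso (𝟙 _))
  have : Mono φ.τ₃ := inferInstanceAs (Mono (𝟙 _))
  exact (ShortComplex.exact_iff_of_epi_of_isIso_of_mono φ).2 h2

variable [HasDerivedCategory.{w₂} B]

/-- Quasi-isomorphisms are preserved in a range of degrees. -/
theorem quasiIsoAt_map {K L : CochainComplex A ℤ} (f : K ⟶ L) [QuasiIso f] (a : ℤ)
    [K.IsStrictlyGE a] [L.IsStrictlyGE a] (N : ℕ) (hK : ∀ n, c.P N (K.X n))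
    (hL : ∀ n, Injective (L.X n)) (n : ℤ) (hn : n + 2 ≤ a + N) :
    QuasiIsoAt ((cx R).map f) n := by
  let C := CochainComplex.mappingCone f
  let bX : ∀ n, C.X n ≅ K.X (n + 1) ⊞ L.X n := fun n =>
    HomologicalComplex.homotopyCofiber.XIsoBiprod f n (n + 1) rfl
  have hC : C.IsStrictlyGE (a - 1) := by
    rw [CochainComplex.isStrictlyGE_iff]
    intro i hi
    refine IsZero.of_iso ?_ (bX i)
    exact (biprod_isZero_iff _ _).2 ⟨K.isZero_of_isStrictlyGE a _ (by lia),
      L.isZero_of_isStrictlyGE a _ (by lia)⟩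
  have hP : ∀ n, c.P N (C.X n) := fun n => by
    let S : ShortComplex A := ShortComplex.mk (biprod.inl ≫ (bX n).inv)
      ((bX n).hom ≫ biprod.snd) (by simp)
    have hs : S.Splitting :=
      { r := (bX n).hom ≫ biprod.fst
        s := biprod.inr ≫ (bX n).inv
        f_r := by simp [S]
        s_g := by simp [S]
        id := by
          simp only [S]
          rw [← cancel_mono (bX n).hom]
          simp [← Preadditive.comp_add] }
    exact c.X₂ N hs.shortExact (hK _) (c.of_injective N _ (hL n))
  have hz : ∀ m, m ≤ n → IsZero ((CochainComplex.mappingCone ((cx R).map f)).homology m) := by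
    intro m hm
    rw [← HomologicalComplex.exactAt_iff_isZero_homology]
    exact HomologicalComplex.ExactAt.of_iso
      (c.exactAt_map C (a - 1) ((quasiIso_iff_cone f).1 inferInstance) N hP m (by lia))
      (CochainComplex.mappingCone.mapHomologicalComplexIso f R)
  have hT := DerivedCategory.mappingCone_triangle_distinguished ((cx R).map f)
  rw [quasiIsoAt_iff_isIso_homologyMap]
  have : Mono (HomologicalComplex.homologyMap ((cx R).map f) n) :=
    (CochainComplex.homologyMap_exact₁_of_distTriang _ hT (n - 1) n).mono_g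
      ((hz (n - 1) (by lia)).eq_of_src _ _)
  have : Epi (HomologicalComplex.homologyMap ((cx R).map f) n) :=
    (CochainComplex.homologyMap_exact₂_of_distTriang _ hT n).epi_f
      ((hz n le_rfl).eq_of_tgt _ _)
  exact isIso_of_mono_of_epi _

end GradedClass

section retract

variable {C : Type u₁} [Category.{v₁} C] [Abelian C] [HasDerivedCategory.{w₁} C]
  {T : Type u₂} [Category.{v₂} T] [Abelian T] [HasDerivedCategory.{w₂} T]
  {U : Type u₃} [Category.{v₃} U] [Abelian U] [HasDerivedCategory.{w₃} U]

attribute [local instance] comp_preservesFiniteLimits comp_preservesFiniteColimits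

/-- A functor is fully faithful if its composite with a split monic functor is. -/
theorem FF.of_retract {F : C ⥤ T} {P : T ⥤ U} {Q : U ⥤ T} [F.Additive] [PreservesFiniteLimits F]
    [PreservesFiniteColimits F] [P.Additive] [PreservesFiniteLimits P] [PreservesFiniteColimits P]
    [Q.Additive] [PreservesFiniteLimits Q] [PreservesFiniteColimits Q]
    (h : FF (F ⋙ P)) (e : P ⋙ Q ≅ 𝟭 T) : FF F := by
  rw [FF_iff] at h ⊢
  intro K M a _ _
  have h1 := h K M a
  rw [dmap_bijective_iff, bijective_comp_iff] at h1
  rw [dmap_bijective_iff]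
  have inj : Function.Injective (P.mapDerivedCategory.map
      (X := F.mapDerivedCategory.obj (DerivedCategory.Q.obj K))
      (Y := F.mapDerivedCategory.obj (DerivedCategory.Q.obj M))) := by
    intro p q hpq
    letI : Localization.Lifting DerivedCategory.Q (HomologicalComplex.quasiIso T (ComplexShape.up ℤ))
        (cx (𝟭 T) ⋙ DerivedCategory.Q) (𝟭 (DerivedCategory T)) :=
      ⟨DerivedCategory.Q.rightUnitor ≪≫ DerivedCategory.Q.leftUnitor.symm ≪≫
        Functor.isoWhiskerRight (Functor.mapHomologicalComplexIdIso T (ComplexShape.up ℤ)).symm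
          DerivedCategory.Q⟩
    let u : P.mapDerivedCategory ⋙ Q.mapDerivedCategory ≅ 𝟭 (DerivedCategory T) :=
      dComp P Q ≪≫ dIso e ≪≫ Localization.liftNatIso DerivedCategory.Q
        (HomologicalComplex.quasiIso T (ComplexShape.up ℤ)) (cx (𝟭 T) ⋙ DerivedCategory.Q)
        (cx (𝟭 T) ⋙ DerivedCategory.Q) _ _ (Iso.refl _)
    have hp := (NatIso.naturality_1 u p).symm
    have hq := (NatIso.naturality_1 u q).symm
    simp only [Functor.comp_map, Functor.id_map] at hp hq
    rw [hpq] at hp
    exact hp.trans hq.symm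
  refine ⟨h1.1.of_comp, fun g => ?_⟩
  obtain ⟨f, hf⟩ := h1.2 (P.mapDerivedCategory.map g)
  exact ⟨f, inj hf⟩

end retract

end Groth.Agent.Desc45
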