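import Groth.Agent.Desc45.SimpTransfer
import Groth.Agent.Desc45.CoskLevels

/-!
Hypercoverings for universal cohomological descent are of cohomological descent.
-/

set_option autoImplicit false
set_option linter.unusedVariables false
set_option backward.isDefEq.respectTransparency false
set_option backward.isDefEq.respectTransparency.types false
universe u

open CategoryTheory CategoryTheory.Limits Opposite TopologicalSpace Simplicial

namespace Groth.Agent.Desc45

attribute [local instance] HasDerivedCategory.standard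
attribute [local instance] comp_preservesFiniteLimits comp_preservesFiniteColimits

/-- Descent from a graded criterion. -/
theorem desc_of_transfer {S : TopCat.{u}} {C : SimplexCategoryᵒᵖ ⥤ TopCat.{u}} (ε : ∀ n, C.obj n ⟶ S)
    (w : ∀ {n m : SimplexCategoryᵒᵖ} (φ : n ⟶ m), C.map φ ≫ ε m = ε n)
    (h : ∀ N : ℕ, ∃ (I : Type) (_ : SmallCategory I) (X : I ⥤ TopCat.{u}) (a : DMap X (pt S))
      (M : DMap C X) (c : Cell (a.comp M) (augMap ε w)) (_ : IsIso c.t), Desc a ∧
      ∀ F : Sh X, Injective F → ∃ (F' : Sh C) (η : MMap M F F'), η.IsU ∧ PDeg ε w N F' ∧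
        ∀ U : Opens S, Function.Injective (zeroMap ε w c η U) ∧
          ∀ z, cod (over ε w U) F'.obj 0 z = 0 → ∃ x, zeroMap ε w c η U x = z) :
    Desc (augMap ε w) := by
  refine Desc.of_uq fun G b _ J' b' _ hJ' s' hs' => ⟨fun n => ?_⟩
  obtain ⟨I, _, X, a, M, c, hc, ha, hF⟩ := h (n + 2 - min b b').toNat
  exact quasiIsoAt_tr_of_universal ε w c ha _ hF G b J' b' hJ' s' hs' n (by lia)

section bijective

theorem bijective_res_of_iso {I : Type} [SmallCategory I] {X : I ⥤ TopCat.{u}} (F : Sh X)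
    {a b : Tot X} (φ : a ⟶ b) [IsIso φ] : Function.Bijective (res F φ) :=
  Function.bijective_iff_has_inverse.2 ⟨res F (inv φ),
    fun x => (res_res F _ _ x).trans (res_self F _ (by rw [IsIso.inv_hom_id]; rfl) x),
    fun x => (res_res F _ _ x).trans (res_self F _ (by rw [IsIso.hom_inv_id]; rfl) x)⟩

theorem isIso_tot {I : Type} [SmallCategory I] {X : I ⥤ TopCat.{u}} {i : I} {U V : Opens (X.obj i)}
    (h : U ≤ (Opens.map (X.map (𝟙 i))).obj V) (h' : V ≤ U) : IsIso (Tot.mkHom X (𝟙 i) h) :=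
  ⟨Tot.mkHom X (𝟙 i) (Tot.le_map_id X h'), Tot.hom_ext (Category.comp_id _),
    Tot.hom_ext (Category.comp_id _)⟩

theorem bijective_app_of_isIso {I J : Type} [SmallCategory I] [SmallCategory J] {X : I ⥤ TopCat.{u}}
    {Y : J ⥤ TopCat.{u}} (M : DMap Y X) {G : Sh X} {F : Sh Y} {η : MMap M G F} (hη : η.IsU) (j : J)
    [IsIso (M.map.app j)] (V : Opens (X.obj (M.idx.obj j))) : Function.Bijective (η.app j V) := by
  let f := M.map.app j
  let θ := η.atLevel M j
  have : IsIso (transpose θ) := isIso_transpose θ (isU_atLevel M hη j)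
  let A := (ptEquiv (X.obj (M.idx.obj j))).functor.obj (levSh G (M.idx.obj j))
  let adj := TopCat.Sheaf.pullbackPushforwardAdjunction AddCommGrpCat.{u} f
  have hunit : IsIso (adj.unit.app A) := by
    have : ∀ x : X.obj (M.idx.obj j), IsIso ((TopCat.Presheaf.stalkFunctor AddCommGrpCat.{u} x).map
        (TopCoh49.unitPre f A)) := by
      intro x
      obtain ⟨y, rfl⟩ := (TopCat.homeoOfIso (asIso f)).surjective x
      have h1 : IsIso (TopCat.Presheaf.stalkPushforward AddCommGrpCat.{u} f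
          ((CohTop.pull f).obj A).obj y) :=
        TopCat.Presheaf.stalkPushforward.stalkPushforward_iso_of_isInducing AddCommGrpCat.{u}
          (TopCat.homeoOfIso (asIso f)).isInducing _ y
      have h2 : IsIso ((TopCat.Presheaf.stalkFunctor AddCommGrpCat.{u} (f y)).map
          (TopCoh49.unitPre f A) ≫ TopCat.Presheaf.stalkPushforward AddCommGrpCat.{u} f
          ((CohTop.pull f).obj A).obj y) := TopCoh49.isIso_stalkUnit f A y
      change IsIso ((TopCat.Presheaf.stalkFunctor AddCommGrpCat.{u} (f y)).map (TopCoh49.unitPre f A))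
      exact IsIso.of_isIso_comp_right _ (TopCat.Presheaf.stalkPushforward AddCommGrpCat.{u} f
        ((CohTop.pull f).obj A).obj y)
    have : ∀ x : ↑((M.idx ⋙ X).obj j), IsIso ((TopCat.Presheaf.stalkFunctor AddCommGrpCat.{u} x).map
        (adj.unit.app A).hom) := this
    exact TopCat.Presheaf.isIso_of_stalkFunctor_map_iso (adj.unit.app A)
  have hu : adj.unit.app A ≫ (CohTop.push f).map (transpose θ) = toPush θ :=
    (adj.homEquiv_unit _ _ _).symm.trans ((adj.homEquiv _ _).apply_symm_apply _)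
  have : IsIso (toPush θ) := by rw [← hu]; infer_instance
  have : IsIso (toPush θ).hom := inferInstanceAs (IsIso ((sheafToPresheaf _ _).map (toPush θ)))
  exact ConcreteCategory.bijective_of_isIso ((toPush θ).hom.app (op V))

end bijective

section ez

variable {S : TopCat.{u}} {Z : SimplexCategoryᵒᵖ × SimplexCategoryᵒᵖ ⥤ TopCat.{u}}
  (a : DMap Z (pt S))

/-- The diagonal. -/
abbrev dgIdx : SimplexCategoryᵒᵖ ⥤ SimplexCategoryᵒᵖ × SimplexCategoryᵒᵖ := Functor.diag _

/-- The diagonal augmentation. -/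
noncomputable def dgε (n : SimplexCategoryᵒᵖ) : (dgIdx ⋙ Z).obj n ⟶ S := a.map.app (n, n)

theorem aug_map {i j : SimplexCategoryᵒᵖ × SimplexCategoryᵒᵖ} (φ : i ⟶ j) (y : Z.obj i) :
    a.map.app j (Z.map φ y) = a.map.app i y := by
  rw [← ConcreteCategory.comp_apply, a.map.naturality φ]
  change ((pt S).map (a.idx.map φ)) (a.map.app i y) = _
  rfl

theorem dgw {n m : SimplexCategoryᵒᵖ} (φ : n ⟶ m) :
    (dgIdx ⋙ Z).map φ ≫ dgε a m = dgε a n :=
  TopCat.ext fun y => aug_map a (dgIdx.map φ) y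

/-- The inclusion of the diagonal. -/
abbrev dgMap : DMap (dgIdx ⋙ Z) Z := bcMap dgIdx Z

/-- The comparison with the diagonal. -/
noncomputable def dgCell : Cell (a.comp (dgMap (Z := Z))) (augMap (dgε a) (fun φ => dgw a φ)) where
  t := { app := fun _ => Discrete.eqToHom (Subsingleton.elim _ _)
         naturality := fun _ _ _ => Subsingleton.elim _ _ }
  w n := TopCat.ext fun y => rfl

instance : IsIso (dgCell a).t := CechModel.isIso_discrete _

/-- The open subsets of the diagonal over an open subset of the base. -/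
noncomputable abbrev dgOver (U : Opens S) : SimplicialObject (Tot Z) :=
  over (dgε a) (fun φ => dgw a φ) U ⋙ (dgMap (Z := Z)).img (isOpenEmbedding_bcMap _ _)

theorem cod_restr (F : Sh Z) (U : Opens S) (n : ℕ)
    (x : ((restr (dgMap (Z := Z)) (isOpenEmbedding_bcMap _ _)).obj F).obj.obj
      (op ((over (dgε a) (fun φ => dgw a φ) U) _⦋n⦌))) :
    cod (over (dgε a) (fun φ => dgw a φ) U)
        ((restr (dgMap (Z := Z)) (isOpenEmbedding_bcMap _ _)).obj F).obj n x =
      cod (dgOver a U) F.obj n x := by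
  rw [cod_eq, cod_eq]
  rfl

theorem mem_dgOver (U : Opens S) (p : SimplexCategoryᵒᵖ) (y : Z.obj (p, p)) :
    y ∈ ((dgOver a U).obj p).opn ↔ a.map.app (p, p) y ∈ U :=
  ⟨fun ⟨z, hz, e⟩ => e ▸ hz, fun h => ⟨y, h, rfl⟩⟩

/-- Prepending a vertex in both directions. -/
noncomputable def dgContraction (U : Opens S) : Contraction (dgOver a U) where
  ext b n σ := ⟨((prepend (q := b.base.1.unop) σ.base.1.unop).op,
      (prepend (q := b.base.2.unop) σ.base.2.unop).op), fun y hy => by
    refine (mem_dgOver a U (op ⦋n + 1⦌) _).2 ?_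
    refine (aug_map a (j := ((op ⦋n + 1⦌ : SimplexCategoryᵒᵖ), (op ⦋n + 1⦌ : SimplexCategoryᵒᵖ))) _ y).symm ▸ ?_
    have h := (mem_dgOver a U (op ⦋n⦌) _).1 (σ.sub hy)
    exact (aug_map a (j := ((op ⦋n⦌ : SimplexCategoryᵒᵖ), (op ⦋n⦌ : SimplexCategoryᵒᵖ))) σ.base y) ▸ h⟩
  δ_zero b n σ := Tot.hom_ext (Prod.ext (Quiver.Hom.unop_inj (δ_zero_prepend _))
    (Quiver.Hom.unop_inj (δ_zero_prepend _)))
  δ_succ b n σ i := Tot.hom_ext (Prod.ext (Quiver.Hom.unop_inj (δ_succ_prepend _ i))
    (Quiver.Hom.unop_inj (δ_succ_prepend _ i)))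

theorem pDeg_restr (F : Sh Z) [Injective F] (k : ℕ) :
    PDeg (dgε a) (fun φ => dgw a φ) k
      ((restr (dgMap (Z := Z)) (isOpenEmbedding_bcMap _ _)).obj F) := by
  have := injective_toPresheaf F
  refine ⟨fun p _ => ⟨fun {U V} i => (AddCommGrpCat.epi_iff_surjective _).2 ?_⟩, fun U n _ x hx => ?_⟩
  · let g := ((dgMap (Z := Z)).img (isOpenEmbedding_bcMap _ _)).map
      ((Tot.ι (dgIdx ⋙ Z) (op ⦋p⦌)).map i.unop)
    have : Mono g := ⟨fun b b' e => Tot.hom_ext (by
      simpa [g, Tot.ι, DMap.img, bcMap] using congrArg Tot.Hom.base e)⟩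
    exact surjective_map_of_injective F.obj g
  · rw [cod_restr] at hx
    obtain ⟨y, hy⟩ := (dgContraction a U).exCod F.obj n x hx
    exact ⟨y, (cod_restr a F U n y).trans hy⟩

theorem desc_diag (ha : Desc a) : Desc (augMap (dgε a) fun φ => dgw a φ) := by
  refine desc_of_transfer (dgε a) (fun φ => dgw a φ) fun N =>
    ⟨_, inferInstance, Z, a, dgMap, dgCell a, inferInstance, ha, fun F hF =>
      ⟨_, restrUnit (dgMap (Z := Z)) (isOpenEmbedding_bcMap _ _) F,
        restrUnit_isU _ _ F, pDeg_restr a F N, fun U => ?_⟩⟩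
  let O : SimplexCategoryᵒᵖ × SimplexCategoryᵒᵖ := (op ⦋0⦌, op ⦋0⦌)
  let f0 : a.idx.obj O ⟶ (⟨PUnit.unit⟩ : Pt) := Discrete.eqToHom (Subsingleton.elim _ _)
  let tU : Tot (pt S) := ⟨⟨PUnit.unit⟩, U⟩
  have hle : ((dgOver a U) _⦋0⦌).opn ≤ (Opens.map (Z.map (𝟙 O))).obj (dom a tU f0) :=
    Tot.le_map_id Z fun y hy => (mem_dgOver a U (op ⦋0⦌) y).1 hy
  let ψ : (dgOver a U) _⦋0⦌ ⟶ ⟨O, dom a tU f0⟩ := Tot.mkHom Z (𝟙 O) hle
  have : IsIso ψ := isIso_tot hle fun y hy => (mem_dgOver a U (op ⦋0⦌) y).2 hy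
  have hzero : ∀ x : famGroup a F tU, zeroMap (dgε a) (fun φ => dgw a φ) (dgCell a)
      (restrUnit (dgMap (Z := Z)) (isOpenEmbedding_bcMap _ _) F) U x = res F ψ (x.1 O f0) := by
    intro x
    refine Eq.trans (res_res F _ _ _) ?_
    exact fam_congr x.1 (Subsingleton.elim _ _) _ _ (by simp [DMap.img, bcMap, ψ]; rfl)
  let hub : ∀ i : SimplexCategoryᵒᵖ × SimplexCategoryᵒᵖ, ∀ (x : Fin (i.1.unop.len + 1))
      (y : Fin (i.2.unop.len + 1)), i ⟶ O := fun i x y =>
    ((SimplexCategory.const ⦋0⦌ i.1.unop x).op, (SimplexCategory.const ⦋0⦌ i.2.unop y).op)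
  refine ⟨fun x x' e => ?_, fun z hz => ?_⟩
  · rw [hzero, hzero] at e
    have e0 : x.1 O f0 = x'.1 O f0 := (bijective_res_of_iso F ψ).1 e
    refine Subtype.ext (funext fun i => funext fun g => ?_)
    have key : ∀ v : famGroup a F tU, v.1 i g =
        res F (Tot.mkHom Z (𝟙 i) (Tot.le_map_id Z fun y hy =>
          (show a.map.app i y ∈ U from hy)))
          (res F (Tot.mkHom Z (hub i 0 0) (dom_le a (a := tU) (hub i 0 0) f0)) (v.1 O f0)) := by
      intro v
      rw [v.2 i O (hub i 0 0) f0]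
      exact (res_self F (Tot.mkHom Z (𝟙 i) (Tot.le_map_id Z fun y hy => hy)) rfl _).symm.trans
        (fam_congr v.1 (Subsingleton.elim _ _) _ _ rfl)
    rw [key x, key x', e0]
  · rw [cod_restr, cod_eq, Fin.sum_univ_two] at hz
    have hz' : res F ((dgOver a U).δ 1) z = res F ((dgOver a U).δ 0) z := by
      rw [eq_comm, ← sub_eq_zero, ← hz]
      simp [sub_eq_add_neg]
    have hsub : ∀ (i : SimplexCategoryᵒᵖ × SimplexCategoryᵒᵖ) (g : a.idx.obj i ⟶ tU.base)
        (p : SimplexCategoryᵒᵖ) (φ : i ⟶ ((p, p) : SimplexCategoryᵒᵖ × SimplexCategoryᵒᵖ)),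
        dom a tU g ≤ (Opens.map (Z.map φ)).obj ((dgOver a U).obj p).opn := fun i g p φ y hy =>
      (mem_dgOver a U p _).2 ((aug_map a φ y).symm ▸ (show a.map.app i y ∈ U from hy))
    let val : ∀ i g x y, F.obj.obj (op (⟨i, dom a tU g⟩ : Tot Z)) := fun i g x y =>
      res F (Tot.mkHom Z (hub i x y) (hsub i g (op ⦋0⦌) (hub i x y))) z
    have key : ∀ i g x x' (hx : x ≤ x') y y' (hy : y ≤ y'), val i g x y = val i g x' y' := by
      intro i g x x' hx y y' hy
      let e : i ⟶ ((op ⦋1⦌, op ⦋1⦌) : SimplexCategoryᵒᵖ × SimplexCategoryᵒᵖ) :=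
        ((SimplexCategory.mkOfLe x x' hx).op, (SimplexCategory.mkOfLe y y' hy).op)
      let t : (⟨i, dom a tU g⟩ : Tot Z) ⟶ (dgOver a U) _⦋1⦌ :=
        Tot.mkHom Z e (hsub i g (op ⦋1⦌) e)
      have h := congrArg (fun r => res F t r) hz'
      simp only [res_res] at h
      refine Eq.trans ?_ (h.trans ?_) <;>
        refine res_eq F (Prod.ext ?_ ?_) z <;>
        · refine Quiver.Hom.unop_inj (SimplexCategory.Hom.ext _ _ (OrderHom.ext _ _ (funext fun k => ?_)))
          fin_cases k
          rfl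
    have all : ∀ i g x y, val i g x y = val i g 0 0 := fun i g x y =>
      (key i g 0 x (Fin.zero_le _) 0 y (Fin.zero_le _)).symm
    let v : famGroup a F tU := ⟨fun i g => val i g 0 0, fun i j φ g => by
      refine (res_res F _ _ _).trans ?_
      refine Eq.trans ?_ (all i (a.idx.map φ ≫ g) (φ.1.unop.toOrderHom 0) (φ.2.unop.toOrderHom 0))
      refine res_eq F (Prod.ext ?_ ?_) z <;>
        exact Quiver.Hom.unop_inj (SimplexCategory.Hom.ext _ _ (OrderHom.ext _ _ (funext fun k => rfl)))⟩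
    refine ⟨v, (hzero v).trans ?_⟩
    refine (res_res F _ _ _).trans (res_self F _ ?_ z)
    refine Prod.ext ?_ ?_ <;>
      · refine Quiver.Hom.unop_inj (SimplexCategory.Hom.ext _ _ (OrderHom.ext _ _ (funext fun k => ?_)))
        fin_cases k
        rfl

end ez

section step

variable {S : TopCat.{u}} (C : SimplexCategoryᵒᵖ ⥤ TopCat.{u}) (ε : ∀ n, C.obj n ⟶ S)
  (w : ∀ {n m : SimplexCategoryᵒᵖ} (φ : n ⟶ m), C.map φ ≫ ε m = ε n) (n : ℕ)

/-- The augmentation of a coskeleton as a morphism of diagrams. -/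
noncomputable abbrev coskAugMap : DMap (coskObj C ε n) (pt S) :=
  augMap (coskAug C ε n) fun φ => coskAug_w C ε n φ

/-- Tuples in a fibre of the restriction between consecutive coskeleta. -/
abbrev StepPow (p q : SimplexCategoryᵒᵖ) : Type u :=
  {x : Fin (q.unop.len + 1) → CoskPt C ε (n + 1) p.unop //
    ∀ i, coskStep C ε n p (x i) = coskStep C ε n p (x 0)}

/-- Functoriality of tuples. -/
def stepPowMap {p q p' q' : SimplexCategoryᵒᵖ} (φ : p ⟶ p') (ψ : q ⟶ q') :
    C(StepPow C ε n p q, StepPow C ε n p' q') where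
  toFun x := ⟨fun i => coskMap C ε (n + 1) φ.unop (x.1 (ψ.unop.toOrderHom i)), fun i =>
    congrArg (coskMap C ε n φ.unop) ((x.2 _).trans (x.2 _).symm)⟩
  continuous_toFun := Continuous.subtype_mk
    (f := fun (x : StepPow C ε n p q) i => coskMap C ε (n + 1) φ.unop (x.1 (ψ.unop.toOrderHom i)))
    (continuous_pi fun i => (coskMap C ε (n + 1) φ.unop).continuous.comp
      ((continuous_apply (ψ.unop.toOrderHom i)).comp continuous_subtype_val)) _

/-- The double simplicial space of the restriction. -/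
def stepDbl : SimplexCategoryᵒᵖ × SimplexCategoryᵒᵖ ⥤ TopCat.{u} where
  obj k := TopCat.of (StepPow C ε n k.1 k.2)
  map φ := TopCat.ofHom (stepPowMap C ε n φ.1 φ.2)
  map_id k := TopCat.ext fun x => Subtype.ext (funext fun i =>
    ConcreteCategory.congr_hom ((coskObj C ε (n + 1)).map_id k.1) ((x : StepPow C ε n k.1 k.2).1 i))
  map_comp {k l m} φ ψ := TopCat.ext fun x => Subtype.ext (funext fun i =>
    ConcreteCategory.congr_hom ((coskObj C ε (n + 1)).map_comp φ.1 ψ.1)
      ((x : StepPow C ε n k.1 k.2).1 ((φ.2 ≫ ψ.2).unop.toOrderHom i)))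

/-- The projection to the lower coskeleton. -/
noncomputable def stepProj : DMap (stepDbl C ε n) (coskObj C ε n) where
  idx := CategoryTheory.Prod.fst _ _
  map :=
    { app := fun k => TopCat.ofHom (X := StepPow C ε n k.1 k.2)
        ⟨fun x => coskStep C ε n k.1 (x.1 0),
          (coskStep C ε n k.1).hom.continuous.comp ((continuous_apply 0).comp continuous_subtype_val)⟩
      naturality := fun k l φ => TopCat.ext fun x =>
        (congrArg (coskMap C ε n φ.1.unop)
          ((x : StepPow C ε n k.1 k.2).2 (φ.2.unop.toOrderHom 0))) }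

/-- A row as a Čech nerve. -/
noncomputable def stepRow (p : SimplexCategoryᵒᵖ) : CechModel (coskStep C ε n p) where
  C := rowIdx p ⋙ stepDbl C ε n
  ε q := (stepProj C ε n).map.app (p, q)
  w {q q'} φ := ((stepProj C ε n).map.naturality ((rowIdx p).map φ)).trans (by
    erw [(coskObj C ε n).map_id p]
    exact Category.comp_id _)
  π q i := TopCat.ofHom (X := StepPow C ε n p q)
    ⟨fun x => x.1 i, (continuous_apply i).comp continuous_subtype_val⟩
  π_ε q i := TopCat.ext fun x => (x : StepPow C ε n p q).2 i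
  π_map {q q'} φ i := TopCat.ext fun x =>
    ConcreteCategory.congr_hom ((coskObj C ε (n + 1)).map_id p)
      ((x : StepPow C ε n p q).1 (φ.unop.toOrderHom i))
  hom_ext q a b h := TopCat.ext fun t => Subtype.ext (funext fun i =>
    ConcreteCategory.congr_hom (h i) t)
  lift_exists {T} q x hx :=
    ⟨TopCat.ofHom (Y := StepPow C ε n p q)
      ⟨fun t => ⟨fun i => x i t, fun i => ConcreteCategory.congr_hom (hx i) t⟩,
        Continuous.subtype_mk (f := fun t i => x i t)
          (continuous_pi fun i => (x i).hom.continuous) _⟩, fun i => rfl⟩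

/-- The square of a row. -/
noncomputable def stepSquare (p : SimplexCategoryᵒᵖ) :
    Square (stepProj C ε n) (levMap (coskObj C ε n) p) (bcMap (rowIdx p) (stepDbl C ε n))
      (stepRow C ε n p).aug where
  embN _ := Topology.IsOpenEmbedding.id
  embN' _ := Topology.IsOpenEmbedding.id
  cartN h x _ := ⟨x, rfl⟩
  cartN' h x _ := ⟨x, rfl⟩
  pcofilN' := by
    refine ⟨fun {i a b c} fb fc hb hc e => ?_, fun {i a b} fb h h' e => ?_⟩
    · refine ⟨i.2, (fb.1, 𝟙 _), fb.2, fc.2, ?_, ?_, ?_⟩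
      · exact Prod.ext (Category.comp_id _) (Category.id_comp _)
      · have e1 := congrArg (fun q => q.1) e
        refine Prod.ext ?_ (Category.id_comp _)
        change fb.1 ≫ 𝟙 p = fc.1
        exact e1.trans (Category.comp_id _)
      · exact congrArg (fun q => q.2) e
    · exact ⟨i.2, (fb.1, 𝟙 _), fb.2, Prod.ext (Category.comp_id _) (Category.id_comp _),
        congrArg (fun q => q.2) e⟩
  c :=
    { t := { app := fun _ => 𝟙 p }
      w := fun q => by
        change (𝟙 _ ≫ (stepProj C ε n).map.app (p, q)) ≫ (coskObj C ε n).map (𝟙 p) = _ ≫ 𝟙 _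
        exact TopCat.ext fun x => ConcreteCategory.congr_hom ((coskObj C ε n).map_id p) _ }
  isIso := by
    refine @NatIso.isIso_of_isIso_app _ _ _ _ _ _ _ fun q => ?_
    exact inferInstanceAs (IsIso (𝟙 p))
  cartSq i₀ y _ := ⟨y, rfl⟩
  cof i k f := by
    refine ⟨i.2, Discrete.eqToHom (Subsingleton.elim _ _), (f, 𝟙 _), ?_, fun i₁ f₁ g₁ e => ?_⟩
    · exact (f ≫= Category.comp_id (𝟙 p)).trans (Category.comp_id f)
    · have e1 : g₁.1 = f :=
        ((g₁.1 ≫= Category.comp_id (𝟙 p)).trans (Category.comp_id _)).symm.trans e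
      exact ⟨g₁.2, Prod.ext ((Category.comp_id _).trans e1.symm) (Category.id_comp _),
        Subsingleton.elim _ _⟩

/-- The diagonal of the double simplicial space retracts to the upper coskeleton. -/
noncomputable def retr : DMap (dgIdx ⋙ stepDbl C ε n) (coskObj C ε (n + 1)) where
  idx := 𝟭 _
  map :=
    { app := fun p => TopCat.ofHom (X := StepPow C ε n p p) (Y := CoskPt C ε (n + 1) p.unop)
        ⟨fun x => ⟨((x.1 0).1.1, fun i σ => (x.1 (σ.toOrderHom 0)).1.2 i σ), fun i σ => by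
            refine ((x.1 (σ.toOrderHom 0)).2.1 i σ).trans ?_
            exact congrArg (fun t : CoskPt C ε n p.unop => t.1.1) (x.2 (σ.toOrderHom 0)),
          fun i j α σ => by
            refine ((x.1 (σ.toOrderHom 0)).2.2 i j α σ).trans ?_
            by_cases h : j.1 ≤ n ∨ ¬ Function.Injective (α ≫ σ).toOrderHom
            · exact coskPt_agree ((x.2 _).trans (x.2 _).symm) j (α ≫ σ) h
            · obtain ⟨h1, h2⟩ := not_or.1 h
              have hα : Function.Injective α.toOrderHom := by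
                by_contra hα
                exact h2 (not_injective_comp α σ hα)
              have hij : i = j := by
                apply Subtype.ext
                have h3 := Fintype.card_le_of_injective _ hα
                rw [Fintype.card_fin, Fintype.card_fin] at h3
                change j.1 + 1 ≤ i.1 + 1 at h3
                have := i.2
                omega
              subst hij
              have : Mono α := SimplexCategory.mono_iff_injective.2 hα
              rw [SimplexCategory.eq_id_of_mono α, Category.id_comp]⟩,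
          Continuous.subtype_mk
            (f := fun x : StepPow C ε n p p =>
              (((x.1 0).1.1, fun i σ => (x.1 (σ.toOrderHom 0)).1.2 i σ) : S × CoskCmp C (n + 1) p.unop))
            (((continuous_fst.comp continuous_subtype_val).comp
              ((continuous_apply 0).comp continuous_subtype_val)).prodMk (continuous_pi fun i =>
              continuous_pi fun σ => (continuous_apply σ).comp ((continuous_apply i).comp
                ((continuous_snd.comp continuous_subtype_val).comp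
                  ((continuous_apply (σ.toOrderHom 0)).comp continuous_subtype_val))))) _⟩
      naturality := fun p p' φ => TopCat.ext fun x => coskPt_ext C ε
        (congrArg (fun t : CoskPt C ε n p.unop => t.1.1)
          ((x : StepPow C ε n p p).2 (φ.unop.toOrderHom 0)))
        fun i σ => rfl }

/-- The diagonal inclusion. -/
noncomputable def sect : DMap (coskObj C ε (n + 1)) (dgIdx ⋙ stepDbl C ε n) where
  idx := 𝟭 _
  map :=
    { app := fun p => TopCat.ofHom (X := CoskPt C ε (n + 1) p.unop) (Y := StepPow C ε n p p)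
        ⟨fun x => ⟨fun _ => x, fun _ => rfl⟩,
          Continuous.subtype_mk (f := fun (x : CoskPt C ε (n + 1) p.unop) (_ : Fin (p.unop.len + 1)) => x)
            (continuous_pi fun _ => continuous_id) _⟩
      naturality := fun p p' φ => TopCat.ext fun x => rfl }

/-- The diagonal splits the retraction. -/
noncomputable def retrCell :
    Cell ((retr C ε n).comp (sect C ε n)) (idMap (coskObj C ε (n + 1))) where
  t := { app := fun p => 𝟙 p }
  w p := TopCat.ext fun x => by
    refine (ConcreteCategory.congr_hom ((coskObj C ε (n + 1)).map_id p) _).trans ?_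
    exact coskPt_ext C ε rfl fun i σ => rfl

/-- Descent passes to the next coskeleton. -/
theorem desc_coskAugMap_succ
    (hk : FibDesc.IsUnivCohDescentMap ((coskK C ε w n).app (op ⦋n + 1⦌)))
    (h : Desc (coskAugMap C ε n)) : Desc (coskAugMap C ε (n + 1)) := by
  have hP : Desc (stepProj C ε n) :=
    Desc.of_restrictions (fun p => stepSquare C ε n p)
      (fun p x => ⟨p, ⟨PUnit.unit⟩, 𝟙 ((levMap (coskObj C ε n) p).idx.obj ⟨PUnit.unit⟩), inferInstance, x,
        ConcreteCategory.congr_hom ((coskObj C ε n).map_id p) x⟩)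
      fun p => (isCohDescentMap_iff _ (stepRow C ε n p)).1
        (isCohDescentMap_of_univ (isUniv_coskStep C ε n hk p))
  have hD := desc_diag ((coskAugMap C ε n).comp (stepProj C ε n)) (Desc.comp h hP)
  let c : Cell ((coskAugMap C ε (n + 1)).comp (retr C ε n))
      (augMap (dgε ((coskAugMap C ε n).comp (stepProj C ε n)))
        fun φ => dgw ((coskAugMap C ε n).comp (stepProj C ε n)) φ) :=
    { t := { app := fun _ => Discrete.eqToHom (Subsingleton.elim _ _)
             naturality := fun _ _ _ => Subsingleton.elim _ _ }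
      w := fun p => TopCat.ext fun x => rfl }
  have : IsIso c.t := CechModel.isIso_discrete _
  have : IsIso (retrCell C ε n).t := by
    have : ∀ p, IsIso ((retrCell C ε n).t.app p) := fun p => inferInstanceAs (IsIso (𝟙 p))
    exact NatIso.isIso_of_isIso_app _
  refine FF.of_retract (P := L (retr C ε n)) (Q := L (sect C ε n))
    (FF.of_iso ((cellIso c) ≪≫ compIso (coskAugMap C ε (n + 1)) (retr C ε n)) hD) ?_
  exact (compIso (retr C ε n) (sect C ε n)).symm ≪≫ (cellIso (retrCell C ε n)).symm ≪≫ idIso _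

/-- The Čech nerve is the coskeleton in degree zero. -/
noncomputable def zeroModel : CechModel (ε (op ⦋0⦌)) where
  C := coskObj C ε 0
  ε p := coskAug C ε 0 p
  w φ := coskAug_w C ε 0 φ
  π p i := TopCat.ofHom (X := CoskPt C ε 0 p.unop)
    ⟨fun x => x.1.2 ⟨0, le_rfl⟩ (SimplexCategory.const ⦋0⦌ p.unop i),
      (continuous_apply (SimplexCategory.const ⦋0⦌ p.unop i)).comp
        ((continuous_apply (⟨0, le_rfl⟩ : {q : ℕ // q ≤ 0})).comp
          (continuous_snd.comp continuous_subtype_val))⟩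
  π_ε p i := TopCat.ext fun x =>
    (x : CoskPt C ε 0 p.unop).2.1 ⟨0, le_rfl⟩ (SimplexCategory.const ⦋0⦌ p.unop i)
  π_map {p p'} φ i := TopCat.ext fun x => congrArg ((x : CoskPt C ε 0 p.unop).1.2 ⟨0, le_rfl⟩)
    (SimplexCategory.Hom.ext _ _ (OrderHom.ext _ _ (funext fun k => rfl)))
  hom_ext {T} p a b h := TopCat.ext fun t => coskPt_ext C ε
    (((a t : CoskPt C ε 0 p.unop).2.1 ⟨0, le_rfl⟩ (SimplexCategory.const ⦋0⦌ p.unop 0)).symm.trans
      ((congrArg (ε (op ⦋0⦌)) (ConcreteCategory.congr_hom (h 0) t)).trans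
        ((b t : CoskPt C ε 0 p.unop).2.1 ⟨0, le_rfl⟩ (SimplexCategory.const ⦋0⦌ p.unop 0))))
    fun i σ => by
      obtain ⟨i, hi⟩ := i
      obtain rfl : i = 0 := Nat.le_zero.1 hi
      have hσ : σ = SimplexCategory.const ⦋0⦌ p.unop (σ.toOrderHom 0) :=
        SimplexCategory.eq_const_of_zero σ
      rw [hσ]
      exact ConcreteCategory.congr_hom (h _) t
  lift_exists {T} p x hx := by
    refine ⟨TopCat.ofHom (Y := CoskPt C ε 0 p.unop)
      ⟨fun t => ⟨(ε (op ⦋0⦌) (x 0 t), fun i σ =>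
          C.map (eqToHom (congrArg (fun q => op (SimplexCategory.mk q))
            (show 0 = i.1 by have := i.2; lia))) (x (σ.toOrderHom 0) t)),
        fun i σ => ?_, fun i j α σ => ?_⟩, ?_⟩, fun i => ?_⟩
    · obtain ⟨i, hi⟩ := i
      obtain rfl : i = 0 := Nat.le_zero.1 hi
      simp only [eqToHom_refl, C.map_id]
      exact ConcreteCategory.congr_hom (hx _) t
    · obtain ⟨i, hi⟩ := i
      obtain rfl : i = 0 := Nat.le_zero.1 hi
      obtain ⟨j, hj⟩ := j
      obtain rfl : j = 0 := Nat.le_zero.1 hj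
      obtain rfl : α = 𝟙 _ := Subsingleton.elim _ _
      simp [eqToHom_refl]
    · exact Continuous.subtype_mk (f := fun t => ((ε (op ⦋0⦌) (x 0 t), fun i σ =>
          C.map (eqToHom (congrArg (fun q => op (SimplexCategory.mk q))
            (show 0 = i.1 by have := i.2; lia))) (x (σ.toOrderHom 0) t)) : S × CoskCmp C 0 p.unop))
        (((ε _).hom.continuous.comp (x 0).hom.continuous).prodMk (continuous_pi fun i =>
          continuous_pi fun σ => by fun_prop)) _
    · refine TopCat.ext fun t => ?_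
      exact ConcreteCategory.congr_hom (C.map_id _) _

/-- All coskeleta of a hypercovering are of cohomological descent. -/
theorem desc_coskAugMap (h0 : FibDesc.IsUnivCohDescentMap (ε (op ⦋0⦌)))
    (hk : ∀ n, FibDesc.IsUnivCohDescentMap ((coskK C ε w n).app (op ⦋n + 1⦌))) :
    ∀ n, Desc (coskAugMap C ε n)
  | 0 => (isCohDescentMap_iff _ (zeroModel C ε)).1 (isCohDescentMap_of_univ h0)
  | n + 1 => desc_coskAugMap_succ C ε w n (hk n) (desc_coskAugMap h0 hk n)

end step

section final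

variable {S : TopCat.{u}} {C : SimplexCategoryᵒᵖ ⥤ TopCat.{u}} (ε : ∀ n, C.obj n ⟶ S)
  (w : ∀ {n m : SimplexCategoryᵒᵖ} (φ : n ⟶ m), C.map φ ≫ ε m = ε n)

/-- The canonical map to a coskeleton as a morphism of diagrams. -/
noncomputable def kMap (n : ℕ) : DMap C (coskObj C ε n) where
  idx := 𝟭 _
  map := coskK C ε w n

/-- The comparison of augmentations. -/
noncomputable def kCell (n : ℕ) :
    Cell ((coskAugMap C ε n).comp (kMap ε w n)) (augMap ε w) where
  t := { app := fun _ => Discrete.eqToHom (Subsingleton.elim _ _)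
         naturality := fun _ _ _ => Subsingleton.elim _ _ }
  w p := TopCat.ext fun y => rfl

/-- The opens of a coskeleton over an open subset of the base. -/
noncomputable abbrev tOver (n : ℕ) (U : Opens S) : SimplicialObject (Tot (coskObj C ε n)) :=
  over (coskAug C ε n) (fun φ => coskAug_w C ε n φ) U

theorem le_pre_tOver (n : ℕ) (U : Opens S) (m : ℕ) :
    ((over ε w U) _⦋m⦌).opn ≤ (Opens.map (C.map (𝟙 (op ⦋m⦌)))).obj
      ((kMap ε w n).pre (op ⦋m⦌) ((tOver ε n U) _⦋m⦌).opn) :=
  Tot.le_map_id C fun y hy => hy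

variable {ε w}

/-- Cochains along the canonical map. -/
noncomputable def toK {n : ℕ} {F : Sh (coskObj C ε n)} {F' : Sh C} (η : MMap (kMap ε w n) F F')
    (U : Opens S) (m : ℕ) :
    F.obj.obj (op ((tOver ε n U) _⦋m⦌)) →+ F'.obj.obj (op ((over ε w U) _⦋m⦌)) :=
  (η.app (op ⦋m⦌) ((tOver ε n U) _⦋m⦌).opn ≫
    res F' (Tot.mkHom C (𝟙 _) (le_pre_tOver ε w n U m))).hom

theorem toK_cod {n : ℕ} {F : Sh (coskObj C ε n)} {F' : Sh C} (η : MMap (kMap ε w n) F F')
    (U : Opens S) (m : ℕ) (x : F.obj.obj (op ((tOver ε n U) _⦋m⦌))) :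
    toK η U (m + 1) (cod (tOver ε n U) F.obj m x) = cod (over ε w U) F'.obj m (toK η U m x) := by
  rw [cod_eq, cod_eq, map_sum]
  refine Finset.sum_congr rfl fun i _ => ?_
  rw [map_zsmul]
  congr 1
  change res F' _ (η.app _ _ (res F ((tOver ε n U).δ i) x)) =
    res F' ((over ε w U).δ i) (res F' _ (η.app _ _ x))
  have e := η.natural (SimplexCategory.δ i).op _ _ ((tOver ε n U).δ i).sub x
  refine Eq.trans (congrArg (fun r => res F' _ r)
    ((congrArg (η.app _ _) (res_eq F rfl x)).trans e)) ?_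
  refine (res_res F' _ _ _).trans (Eq.trans ?_ (res_res F' _ _ _).symm)
  exact res_eq F' ((Category.id_comp _).trans (Category.comp_id _).symm) _

theorem bijective_toK {n : ℕ} {F : Sh (coskObj C ε n)} {F' : Sh C} {η : MMap (kMap ε w n) F F'}
    (hη : η.IsU) (U : Opens S) {m : ℕ} (hm : m ≤ n) : Function.Bijective (toK η U m) := by
  have : IsIso ((kMap ε w n).map.app (op ⦋m⦌)) := isIso_coskK_app C ε w hm
  have : IsIso (Tot.mkHom C (𝟙 (op ⦋m⦌)) (le_pre_tOver ε w n U m)) :=
    isIso_tot _ fun y hy => hy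
  exact (bijective_res_of_iso F' _).comp (bijective_app_of_isIso (kMap ε w n) hη (op ⦋m⦌) _)

theorem pDeg_kMap {N : ℕ} {F : Sh (coskObj C ε (N + 1))} {F' : Sh C}
    {η : MMap (kMap ε w (N + 1)) F F'} (hη : η.IsU) [Injective F] : PDeg ε w N F' := by
  refine ⟨fun p hp => ⟨fun {U V} i => (AddCommGrpCat.epi_iff_surjective _).2 fun y => ?_⟩,
    fun U m hm x hx => ?_⟩
  · obtain ⟨U⟩ := U
    obtain ⟨V⟩ := V
    have hiso : IsIso ((kMap ε w (N + 1)).map.app (op ⦋p⦌)) := isIso_coskK_app C ε w (by lia)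
    let h := TopCat.homeoOfIso (asIso ((kMap ε w (N + 1)).map.app (op ⦋p⦌)))
    have hb := fun W => bijective_app_of_isIso (kMap ε w (N + 1)) hη (op ⦋p⦌) W
    let V' : Opens (CoskPt C ε (N + 1) ⦋p⦌) := ⟨h.symm ⁻¹' V, V.2.preimage h.symm.continuous⟩
    let U' : Opens (CoskPt C ε (N + 1) ⦋p⦌) := ⟨h.symm ⁻¹' U, U.2.preimage h.symm.continuous⟩
    have hV : (kMap ε w (N + 1)).pre (op ⦋p⦌) V' = V := Opens.ext (by
      ext y
      change h.symm (h y) ∈ V ↔ y ∈ V
      rw [h.symm_apply_apply])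
    have hU : (kMap ε w (N + 1)).pre (op ⦋p⦌) U' = U := Opens.ext (by
      ext y
      change h.symm (h y) ∈ U ↔ y ∈ U
      rw [h.symm_apply_apply])
    let φV : (⟨op ⦋p⦌, (kMap ε w (N + 1)).pre (op ⦋p⦌) V'⟩ : Tot C) ⟶ ⟨op ⦋p⦌, V⟩ :=
      Tot.mkHom C (𝟙 _) (Tot.le_map_id C hV.le)
    obtain ⟨x, hx⟩ := (hb V').2 (res F' φV y)
    obtain ⟨x', hx'⟩ := (AddCommGrpCat.epi_iff_surjective _).1
      ((isFlasque_lev (op ⦋p⦌) F).epi (homOfLE (show V' ≤ U' from fun z hz => leOfHom i.unop hz)).op) x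
    let φU : (⟨op ⦋p⦌, U⟩ : Tot C) ⟶ ⟨op ⦋p⦌, (kMap ε w (N + 1)).pre (op ⦋p⦌) U'⟩ :=
      Tot.mkHom C (𝟙 _) (Tot.le_map_id C hU.ge)
    refine ⟨res F' φU (η.app (op ⦋p⦌) U' x'), ?_⟩
    let φV' : (⟨op ⦋p⦌, V⟩ : Tot C) ⟶ ⟨op ⦋p⦌, (kMap ε w (N + 1)).pre (op ⦋p⦌) V'⟩ :=
      Tot.mkHom C (𝟙 _) (Tot.le_map_id C hV.ge)
    have e := η.natural (𝟙 (op ⦋p⦌)) V' U'
      (Tot.le_map_id (coskObj C ε (N + 1)) fun z hz => leOfHom i.unop hz) x'
    have e2 : η.app (op ⦋p⦌) V' x = _ :=
      ((congrArg (η.app (op ⦋p⦌) V') (hx'.symm.trans (res_eq F (by simp [Tot.ι]; rfl) x')))).trans e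
    rw [hx] at e2
    have e3 := congrArg (fun q => res F' φV' q) e2
    refine Eq.trans ?_ (e3.symm.trans ?_)
    · refine (res_res F' ((Tot.ι C (op ⦋p⦌)).map i.unop) φU _).trans
        (Eq.trans ?_ (res_res F' _ _ _).symm)
      exact res_eq F' (by simp [Tot.ι, φU, φV']) _
    · exact (res_res F' _ _ _).trans (res_self F' _ (by simp [φV, φV']) _)
  · obtain ⟨x', rfl⟩ := (bijective_toK hη U (m := m + 1) (by lia)).2 x
    rw [← toK_cod] at hx
    have hx' := (bijective_toK hη U (m := m + 1 + 1) (by lia)).1 (hx.trans (map_zero _).symm)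
    obtain ⟨y, hy⟩ := exC_of_injective (coskAug C ε (N + 1)) (fun φ => coskAug_w C ε (N + 1) φ) U F
      m x' hx'
    exact ⟨toK η U m y, (toK_cod η U m y).symm.trans (congrArg _ hy)⟩

theorem desc_augMap_of_cosk (h : ∀ n, Desc (coskAugMap C ε n)) : Desc (augMap ε w) := by
  refine desc_of_transfer ε w fun N => ⟨_, inferInstance, _, coskAugMap C ε (N + 1), kMap ε w (N + 1),
    kCell ε w (N + 1), CechModel.isIso_discrete _, h (N + 1), fun F hF => ⟨_, unit (kMap ε w (N + 1)) F,
      unit_isU _ F, pDeg_kMap (unit_isU _ F), fun U => ?_⟩⟩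
  have hη := unit_isU (kMap ε w (N + 1)) F
  let tU : Tot (pt S) := ⟨⟨PUnit.unit⟩, U⟩
  have hzero : ∀ x : famGroup (coskAugMap C ε (N + 1)) F tU,
      zeroMap ε w (kCell ε w (N + 1)) (unit (kMap ε w (N + 1)) F) U x =
        toK (unit (kMap ε w (N + 1)) F) U 0 (x.1 (op ⦋0⦌) (𝟙 _)) := fun x => by
    change res ((L (kMap ε w (N + 1))).obj F) _ ((unit (kMap ε w (N + 1)) F).app (op ⦋0⦌) _
      (x.1 (op ⦋0⦌) _)) = res _ _ ((unit (kMap ε w (N + 1)) F).app (op ⦋0⦌) _ (x.1 (op ⦋0⦌) (𝟙 _)))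
    congr 3
  refine ⟨fun x x' e => ?_, fun z hz => ?_⟩
  · rw [hzero, hzero] at e
    refine sub_eq_zero.1 (family_eq_zero (ε := coskAug C ε (N + 1)) (x - x') ?_)
    exact sub_eq_zero.2 ((bijective_toK hη U (Nat.zero_le _)).1 e)
  · obtain ⟨z', rfl⟩ := (bijective_toK hη U (Nat.zero_le _)).2 z
    rw [← toK_cod] at hz
    obtain ⟨x, hx⟩ := exists_family (coskAug C ε (N + 1)) (fun φ => coskAug_w C ε (N + 1) φ) U F z'
      ((bijective_toK hη U (m := 1) (by lia)).1 (hz.trans (map_zero _).symm))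
    exact ⟨x, (hzero x).trans (congrArg _ hx)⟩

end final

theorem augMap_congr {S : TopCat.{u}} {D : Type} [SmallCategory D] {C : D ⥤ TopCat.{u}}
    {ε ε' : ∀ d, C.obj d ⟶ S} (w : ∀ {d d' : D} (f : d ⟶ d'), C.map f ≫ ε d' = ε d)
    (w' : ∀ {d d' : D} (f : d ⟶ d'), C.map f ≫ ε' d' = ε' d) (h : ∀ d, ε d = ε' d) :
    augMap ε w = augMap ε' w' := by
  obtain rfl : ε = ε' := funext h
  rfl

/-- Hypercoverings are of cohomological descent. -/
theorem isCohDescentTop_of_hypercovering {S : TopCat.{u}}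
    [∀ (n : ℕ) (G : (SimplexCategory.Truncated n)ᵒᵖ ⥤ Over S),
      (SimplexCategory.Truncated.inclusion n).op.HasRightKanExtension G]
    (K : SimplicialObject (Over S))
    (h0 : FibDesc.IsUnivCohDescentMap (K.obj (op (SimplexCategory.mk 0))).hom)
    (hn : ∀ n : ℕ, FibDesc.IsUnivCohDescentMap
      (((SimplicialObject.coskAdj n).unit.app K).app (op (SimplexCategory.mk (n + 1)))).left) :
    FibDesc.IsCohDescentTop
      (AugmentedSimplexCategory.equivAugmentedSimplicialObject.inverse.obj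
        (SimplicialObject.augment (K ⋙ Over.forget S) S (K.obj (op (SimplexCategory.mk 0))).hom
          (fun i g₁ g₂ => (Over.w (K.map g₁.op)).trans (Over.w (K.map g₂.op)).symm))) := by
  have hk : ∀ n, FibDesc.IsUnivCohDescentMap
      ((coskK (ovC K) (ovε K) (fun φ => ovw K φ) n).app (op ⦋n + 1⦌)) := by
    intro n
    obtain ⟨e, he⟩ := exists_iso_cosk K n
    have h1 := congrArg CommaMorphism.left (NatTrans.congr_app he (op ⦋n + 1⦌))
    rw [← show _ = (coskK (ovC K) (ovε K) (fun φ => ovw K φ) n).app (op ⦋n + 1⦌) from h1]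
    refine isUnivCohDescentMap_comp _ _ (hn n) ?_
    have := Iso.app e (op ⦋n + 1⦌)
    exact isUnivCohDescentMap_of_section _ (e.inv.app (op ⦋n + 1⦌)).left
      (congrArg CommaMorphism.left (e.inv_hom_id_app (op ⦋n + 1⦌)))
  refine (isCohDescentTop_iff _).2 ?_
  have h := desc_augMap_of_cosk (ε := ovε K) (w := fun φ => ovw K φ)
    (desc_coskAugMap (ovC K) (ovε K) (fun φ => ovw K φ) h0 hk)
  let Y := AugmentedSimplexCategory.equivAugmentedSimplicialObject.inverse.obj
        (SimplicialObject.augment (K ⋙ Over.forget S) S (K.obj (op (SimplexCategory.mk 0))).hom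
          (fun i g₁ g₂ => (Over.w (K.map g₁.op)).trans (Over.w (K.map g₂.op)).symm))
  have hmap : ∀ i : SimplexCategoryᵒᵖ,
      Y.map (toBot ((FibDesc.toAug SimplexCategory).obj i)) = ovε K i := fun i =>
    Over.w (K.map (SimplexCategory.const ⦋0⦌ i.unop 0).op)
  exact Eq.mp (congrArg (fun a : DMap (ovC K) (pt S) => Desc a)
    (augMap_congr (C := ovC K) (ε := ovε K) (ε' := fun i => Y.map (toBot ((FibDesc.toAug SimplexCategory).obj i)))
      (fun φ => ovw K φ) (fun φ => by rw [hmap, hmap]; exact ovw K φ) fun i => (hmap i).symm)) h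

end Groth.Agent.Desc45
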