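import Groth.Agent.Desc45.Levels
import Groth.Agent.TopCoh49.StalkPull

/-!
Levels of inverse images along morphisms of diagrams are inverse images of levels.
-/

set_option autoImplicit false
set_option linter.unusedVariables false
set_option backward.isDefEq.respectTransparency false
set_option backward.isDefEq.respectTransparency.types false
universe u

open CategoryTheory CategoryTheory.Limits Opposite TopologicalSpace

namespace Groth.Agent.Desc45

variable {Z X : TopCat.{u}}

/-- Opens of a space as the total category of the one-space diagram. -/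
def ptTo (X : TopCat.{u}) : Tot (pt X) ⥤ Opens X where
  obj a := a.opn
  map {a b} φ := homOfLE fun x hx => φ.sub hx
  map_id _ := Subsingleton.elim _ _
  map_comp _ _ := Subsingleton.elim _ _

instance (X : TopCat.{u}) : (ptTo X).IsContinuous (Tot.top (pt X)) (Opens.grothendieckTopology X) :=
  Tot.isContinuous_of_fibres _ _ fun i => by
    obtain ⟨⟨⟩⟩ := i
    have h : (𝟭 (Opens X)).IsContinuous (Opens.grothendieckTopology X)
        (Opens.grothendieckTopology X) := inferInstance
    exact @Functor.isContinuous_of_iso _ _ _ _ (𝟭 (Opens X)) _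
      (NatIso.ofComponents (fun _ => Iso.refl _) fun f => Subsingleton.elim _ _) _ _ h


/-- Sheaves on a one-space diagram are sheaves on the space. -/
noncomputable def ptEquiv (X : TopCat.{u}) : Sh (pt X) ≌ CohTop.Ab X :=
  haveI : (Tot.ι (pt X) ⟨PUnit.unit⟩).IsContinuous (Opens.grothendieckTopology X) (Tot.top (pt X)) :=
    Tot.isContinuous_ι (pt X) ⟨PUnit.unit⟩
  sheafEquiv (Tot.ι (pt X) ⟨PUnit.unit⟩) (ptTo X)
    (NatIso.ofComponents (fun _ => Iso.refl _)
      fun f => Subsingleton.elim (α := ((_ : Opens X) ⟶ _)) _ _)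
    (NatIso.ofComponents (fun a => eqToIso (by obtain ⟨⟨⟨⟩⟩, U⟩ := a; rfl))
      fun f => Tot.hom_ext (Subsingleton.elim _ _))

/-- A map of spaces as a morphism of one-space diagrams. -/
abbrev ptMap (f : Z ⟶ X) : DMap (pt Z) (pt X) where
  idx := 𝟭 Pt
  map :=
    { app := fun _ => f
      naturality := fun a b φ => by
        obtain ⟨⟨⟩⟩ := a
        obtain ⟨⟨⟩⟩ := b
        simp }

section push

variable {f : Z ⟶ X} {G : Sh (pt X)} {F : Sh (pt Z)}

/-- Maps over a map of spaces as maps into the direct image. -/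
noncomputable def toPush (θ : MMap (ptMap f) G F) :
    (ptEquiv X).functor.obj G ⟶ (CohTop.push f).obj ((ptEquiv Z).functor.obj F) :=
  ⟨{ app := fun U => θ.app ⟨PUnit.unit⟩ U.unop
     naturality := fun U V i => ConcreteCategory.hom_ext _ _ fun x =>
       θ.natural (𝟙 (⟨PUnit.unit⟩ : Pt)) V.unop U.unop (fun y hy => leOfHom i.unop hy) x }⟩

/-- Maps into the direct image as maps over a map of spaces. -/
noncomputable def ofPush
    (τ : (ptEquiv X).functor.obj G ⟶ (CohTop.push f).obj ((ptEquiv Z).functor.obj F)) :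
    MMap (ptMap f) G F where
  app i V := match i with
    | ⟨PUnit.unit⟩ => τ.hom.app (op V)
  natural {i j} φ U V h x := by
    obtain ⟨⟨⟩⟩ := i
    obtain ⟨⟨⟩⟩ := j
    obtain rfl : φ = 𝟙 _ := Subsingleton.elim _ _
    exact ConcreteCategory.congr_hom
      (τ.hom.naturality (homOfLE (show U ≤ V from fun y hy => h hy)).op) x

theorem toPush_ofPush
    (τ : (ptEquiv X).functor.obj G ⟶ (CohTop.push f).obj ((ptEquiv Z).functor.obj F)) :
    toPush (ofPush τ) = τ := rfl

theorem toPush_injective : Function.Injective (toPush (f := f) (G := G) (F := F)) := by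
  intro θ θ' e
  ext i V x
  obtain ⟨⟨⟩⟩ := i
  exact ConcreteCategory.congr_hom (NatTrans.congr_app (congrArg (fun q => q.hom) e) (op V)) x

theorem toPush_push {F' : Sh (pt Z)} (θ : MMap (ptMap f) G F) (h : F ⟶ F') :
    toPush (θ.push h) = toPush θ ≫ (CohTop.push f).map ((ptEquiv Z).functor.map h) := rfl

/-- The transpose of a map over a map of spaces. -/
noncomputable abbrev transpose (θ : MMap (ptMap f) G F) :
    (CohTop.pull f).obj ((ptEquiv X).functor.obj G) ⟶ (ptEquiv Z).functor.obj F :=
  ((TopCat.Sheaf.pullbackPushforwardAdjunction AddCommGrpCat.{u} f).homEquiv _ _).symm (toPush θ)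

theorem isIso_transpose (θ : MMap (ptMap f) G F) (hθ : θ.IsU) : IsIso (transpose θ) := by
  let adj := TopCat.Sheaf.pullbackPushforwardAdjunction AddCommGrpCat.{u} f
  let A := (CohTop.pull f).obj ((ptEquiv X).functor.obj G)
  let F' := (ptEquiv Z).inverse.obj A
  let e : (ptEquiv Z).functor.obj F' ≅ A := (ptEquiv Z).counitIso.app A
  let τ0 : (ptEquiv X).functor.obj G ⟶ (CohTop.push f).obj ((ptEquiv Z).functor.obj F') :=
    adj.unit.app _ ≫ (CohTop.push f).map e.inv
  obtain ⟨h, hh⟩ := (hθ F').2 (ofPush τ0)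
  have h0 : toPush θ ≫ (CohTop.push f).map ((ptEquiv Z).functor.map h) = τ0 := by
    rw [← toPush_push]
    exact (congrArg toPush hh).trans (toPush_ofPush τ0)
  have hu : adj.unit.app _ ≫ (CohTop.push f).map (transpose θ) = toPush θ :=
    (adj.homEquiv_unit _ _ _).symm.trans ((adj.homEquiv _ _).apply_symm_apply _)
  let k : (ptEquiv Z).functor.obj F ⟶ A := (ptEquiv Z).functor.map h ≫ e.hom
  have h1 : transpose θ ≫ k = 𝟙 _ := by
    apply (adj.homEquiv _ _).injective
    rw [adj.homEquiv_unit, adj.homEquiv_unit, Functor.map_comp]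
    refine ((Category.assoc _ _ _).symm.trans (hu =≫ _)).trans ?_
    rw [Functor.map_comp]
    refine ((Category.assoc _ _ _).symm.trans (h0 =≫ _)).trans ?_
    rw [Category.assoc, ← Functor.map_comp, e.inv_hom_id]
    rfl
  have h2 : k ≫ transpose θ = 𝟙 _ := by
    let g : F' ⟶ F := (ptEquiv Z).functor.preimage (e.hom ≫ transpose θ)
    have hg : h ≫ g = 𝟙 F := by
      refine (hθ F).1 (toPush_injective ?_)
      rw [toPush_push, toPush_push, CategoryTheory.Functor.map_id, CategoryTheory.Functor.map_id, Category.comp_id,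
        Functor.map_comp, Functor.map_comp]
      refine ((Category.assoc _ _ _).symm.trans (h0 =≫ _)).trans ?_
      rw [Category.assoc, ← Functor.map_comp, Functor.map_preimage, e.inv_hom_id_assoc]
      exact hu
    change ((ptEquiv Z).functor.map h ≫ e.hom) ≫ transpose θ = 𝟙 _
    rw [Category.assoc, ← (ptEquiv Z).functor.map_preimage (e.hom ≫ transpose θ),
      ← Functor.map_comp, hg, CategoryTheory.Functor.map_id]
  exact ⟨k, h1, h2⟩

end push

section unit

variable {I J : Type} [SmallCategory I] [SmallCategory J] {X : I ⥤ TopCat.{u}}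
  {Y : J ⥤ TopCat.{u}}

/-- Selecting a level. -/
abbrev levMap (X : I ⥤ TopCat.{u}) (i : I) : DMap (pt (X.obj i)) X where
  idx := Functor.fromPUnit i
  map :=
    { app := fun _ => 𝟙 _
      naturality := fun _ _ φ => by simp }

/-- A level as a sheaf on a one-space diagram. -/
noncomputable abbrev levSh (G : Sh X) (i : I) : Sh (pt (X.obj i)) :=
  (ptEquiv (X.obj i)).inverse.obj ((lev X i).obj G)

/-- The universal map to a level. -/
noncomputable def sel (G : Sh X) (i : I) : MMap (levMap X i) G (levSh G i) where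
  app k V := match k with
    | ⟨PUnit.unit⟩ => res G (Tot.mkHom X (𝟙 i)
        (Tot.le_map_id X (show (levMap X i).pre ⟨PUnit.unit⟩ V ≤ V from fun y hy => hy)))
  natural {k l} φ U V h x := by
    obtain ⟨⟨⟩⟩ := k
    obtain ⟨⟨⟩⟩ := l
    obtain rfl : φ = 𝟙 _ := Subsingleton.elim _ _
    change res G _ (res G _ x) = res G _ (res G _ x)
    rw [res_res, res_res]
    refine res_eq G ?_ x
    simp [Tot.ι, ptTo]

theorem sel_isU (G : Sh X) (i : I) : (sel G i).IsU := by
  have hN : ∀ k, Topology.IsOpenEmbedding ((levMap X i).map.app k) := fun _ =>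
    Topology.IsOpenEmbedding.id
  have h : IsIso (restrDesc (levMap X i) hN (sel G i)) := by
    have : ∀ a, IsIso ((restrDesc (levMap X i) hN (sel G i)).hom.app a) := fun a => by
      obtain ⟨⟨⟨⟨⟩⟩, U⟩⟩ := a
      have hU : (hN ⟨PUnit.unit⟩).functor.obj U ≤ U := fun y ⟨z, hz, e⟩ => e ▸ hz
      have hU' : U ≤ (hN ⟨PUnit.unit⟩).functor.obj U := fun y hy => ⟨y, hy, rfl⟩
      refine (ConcreteCategory.isIso_iff_bijective _).2 (Function.bijective_iff_has_inverse.2
        ⟨res G (Tot.mkHom X (𝟙 i) (Tot.le_map_id X hU)), fun x => ?_, fun x => ?_⟩)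
      · change res G _ (res G _ (res G _ x)) = x
        rw [res_res, res_res]
        exact res_self G _ (by simp [Tot.ι, ptTo]; rfl) _
      · change res G _ (res G _ (res G _ x)) = x
        rw [res_res, res_res]
        exact res_self G _ (by simp [Tot.ι, ptTo]) _
    have : IsIso (restrDesc (levMap X i) hN (sel G i)).hom := NatIso.isIso_of_isIso_app _
    have : IsIso ((sheafToPresheaf _ _).map (restrDesc (levMap X i) hN (sel G i))) := this
    exact isIso_of_reflects_iso _ (sheafToPresheaf _ _)
  rw [← push_restrDesc (levMap X i) hN (sel G i)]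
  exact (restrUnit_isU (levMap X i) hN G).push_iso _

variable (M : DMap Y X) {G : Sh X} {F : Sh Y}

/-- The component of a map at a level. -/
noncomputable def MMap.atLevel (η : MMap M G F) (j : J) :
    MMap (ptMap (M.map.app j)) (levSh G (M.idx.obj j)) (levSh F j) where
  app k V := match k with
    | ⟨PUnit.unit⟩ => η.app j V
  natural {k l} φ U V h x := by
    obtain ⟨⟨⟩⟩ := k
    obtain ⟨⟨⟩⟩ := l
    obtain rfl : φ = 𝟙 _ := Subsingleton.elim _ _
    have e := η.natural (𝟙 j) U V (by rw [M.idx.map_id]; exact Tot.le_map_id X fun y hy => h hy) x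
    refine Eq.trans ?_ (e.trans (res_eq F ?_ _))
    · exact congrArg (η.app j U) (res_eq G (by simp [Tot.ι, ptTo]) x)
    · simp [Tot.ι, ptTo]

/-- The two-cell comparing levels. -/
noncomputable def levCell (j : J) :
    Cell (M.comp (levMap Y j)) ((levMap X (M.idx.obj j)).comp (ptMap (M.map.app j))) where
  t := Discrete.natTrans fun _ => 𝟙 _
  w k := by
    change ((𝟙 _) ≫ M.map.app j) ≫ X.map (𝟙 _) = M.map.app j ≫ 𝟙 _
    simp

instance (j : J) : IsIso (levCell M j).t := by
  have : ∀ k, IsIso ((levCell M j).t.app k) := fun k => inferInstanceAs (IsIso (𝟙 _))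
  exact NatIso.isIso_of_isIso_app _

theorem isU_atLevel {η : MMap M G F} (hη : η.IsU) (j : J) : (η.atLevel M j).IsU := by
  refine (sel_isU G (M.idx.obj j)).of_comp ?_
  have e : (sel G (M.idx.obj j)).comp (η.atLevel M j) =
      (levCell M j).map (η.comp (sel F j)) := by
    ext k V x
    obtain ⟨⟨⟩⟩ := k
    have n := η.natural (𝟙 j) ((levMap X (M.idx.obj j)).pre ⟨PUnit.unit⟩ V) V
      (by rw [M.idx.map_id]; exact Tot.le_map_id X fun y hy => hy) x
    let φ := Tot.mkHom (pt (Y.obj j)) (𝟙 (⟨PUnit.unit⟩ : Pt))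
      ((levCell M j).pre_le ⟨PUnit.unit⟩ V)
    let ψ := (Tot.ι Y j).map ((ptTo _).map φ)
    change η.app j _ (res G _ x) = res F ψ (res F _ (η.app j _ (res G _ x)))
    have n' : η.app j _ (res G (Tot.mkHom X (𝟙 (M.idx.obj j)) (Tot.le_map_id X
        (show (levMap X (M.idx.obj j)).pre ⟨PUnit.unit⟩ V ≤ V from fun y hy => hy))) x) = _ :=
      (congrArg (η.app j _) (res_eq G (M.idx.map_id j).symm x)).trans n
    refine n'.trans ?_
    have n'' := η.natural (𝟙 j) ((Opens.map (X.map (𝟙 (M.idx.obj j)))).obj V) V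
      (by rw [M.idx.map_id]) x
    refine Eq.trans ?_ (congrArg (fun q => res F ψ (res F _ q))
      ((congrArg (η.app j _) (res_eq G (M.idx.map_id j).symm x)).trans n'').symm)
    refine Eq.trans ?_ (res_res F _ _ _).symm
    refine Eq.trans ?_ (res_res F _ _ _).symm
    exact res_eq F (by simp [ψ, φ, Tot.ι, ptTo]) _
  rw [e]
  exact (levCell M j).map_isU (hη.comp (sel_isU F j))

theorem germ_atLevel {η : MMap M G F} (hη : η.IsU) (j : J) (y : Y.obj j) :
    ∃ Φ : CohTop.stalk ((lev X (M.idx.obj j)).obj G) (M.map.app j y) →+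
        CohTop.stalk ((lev Y j).obj F) y, Function.Bijective Φ ∧
      ∀ (V : Opens (X.obj (M.idx.obj j))) (hV : M.map.app j y ∈ V) (x : sec G (M.idx.obj j) V),
        Φ (TopCoh49.germ ((lev X (M.idx.obj j)).obj G) (M.map.app j y) hV x) =
          TopCoh49.germ ((lev Y j).obj F) (U := M.pre j V) y hV (η.app j V x) := by
  let θ := η.atLevel M j
  have : IsIso (transpose θ) := isIso_transpose θ (isU_atLevel M hη j)
  let T := (TopCat.Presheaf.stalkFunctor AddCommGrpCat.{u} y).map (transpose θ).hom
  have : IsIso (transpose θ).hom := inferInstanceAs (IsIso ((sheafToPresheaf _ _).map (transpose θ)))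
  refine ⟨T.hom.comp (TopCoh49.stalkUnit (M.map.app j) _ y).hom,
    (ConcreteCategory.bijective_of_isIso T).comp (TopCoh49.stalkUnit_bijective _ _ y), ?_⟩
  intro V hV x
  change T (TopCoh49.stalkUnit _ _ y _) = _
  refine (congrArg T (TopCoh49.germ_stalkUnit_apply (M.map.app j)
    ((ptEquiv _).functor.obj (levSh G (M.idx.obj j))) y V hV x)).trans ?_
  refine (TopCat.Presheaf.stalkFunctor_map_germ_apply _ y _ (transpose θ).hom _).trans ?_
  refine congrArg (TopCoh49.germ ((lev Y j).obj F) (U := M.pre j V) y hV) ?_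
  let adj := TopCat.Sheaf.pullbackPushforwardAdjunction AddCommGrpCat.{u} (M.map.app j)
  have hu : adj.unit.app _ ≫ (CohTop.push (M.map.app j)).map (transpose θ) = toPush θ :=
    (adj.homEquiv_unit _ _ _).symm.trans ((adj.homEquiv _ _).apply_symm_apply _)
  exact ConcreteCategory.congr_hom (NatTrans.congr_app (congrArg (fun q => q.hom) hu) (op V)) x

end unit

end Groth.Agent.Desc45
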