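import Groth.Agent.Desc45.Compare
import Groth.Agent.Desc45.FreeCx
import Groth.Agent.TopCoh49.Soft

/-!
Levels of sheaves on diagrams of spaces; cochains of augmented simplicial spaces.
-/

set_option autoImplicit false
set_option linter.unusedVariables false
set_option backward.isDefEq.respectTransparency false
set_option backward.isDefEq.respectTransparency.types false
universe u

open CategoryTheory CategoryTheory.Limits Opposite TopologicalSpace Simplicial

namespace Groth.Agent.Desc45

section levels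

variable {I : Type} [SmallCategory I] (X : I ⥤ TopCat.{u})

/-- The sheaf at a level. -/
noncomputable abbrev lev (i : I) : Sh X ⥤ CohTop.Ab (X.obj i) :=
  (Tot.ι X i).sheafPushforwardContinuous AddCommGrpCat.{u}
    (Opens.grothendieckTopology (X.obj i)) (Tot.top X)

variable {X}

theorem injective_toPresheaf (F : Sh X) [Injective F] : Injective F.obj :=
  Injective.injective_of_adjoint (sheafificationAdjunction (Tot.top X) AddCommGrpCat.{u}) F

theorem epi_lev (i : I) {F G : Sh X} (g : F ⟶ G) [Epi g] : Epi ((lev X i).map g) := by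
  have h : Sheaf.IsLocallySurjective g := (Sheaf.isLocallySurjective_iff_epi' _ _).2 inferInstance
  rw [← Sheaf.isLocallySurjective_iff_epi']
  refine ⟨fun {U} s => ?_⟩
  have h1 := Presheaf.imageSieve_mem (Tot.top X) g.hom (U := op ⟨i, U⟩) s
  intro x hx
  obtain ⟨V, f, hf, hxV⟩ := (Tot.mem_top_iff X _).1 h1 x hx
  exact ⟨V, f, hf, hxV⟩

instance (i : I) : PreservesFiniteLimits (lev X i) := inferInstance

theorem shortExact_lev (i : I) {S : ShortComplex (Sh X)} (hS : S.ShortExact)
    [(lev X i).Additive] : (S.map (lev X i)).ShortExact := by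
  have := hS.mono_f
  have := hS.epi_g
  exact
    { exact := ((lev X i).preservesFiniteLimits_iff_forall_exact_map_and_mono.1 inferInstance S hS).1
      mono_f := (lev X i).map_mono S.f
      epi_g := epi_lev i S.g }

theorem isFlasque_lev (i : I) (F : Sh X) [Injective F] :
    TopCat.Sheaf.IsFlasque ((lev X i).obj F) := by
  have := injective_toPresheaf F
  refine ⟨fun {U V} f => (AddCommGrpCat.epi_iff_surjective _).2 ?_⟩
  have : Mono ((freeY (Tot X)).map ((Tot.ι X i).map f.unop)) := by
    have : Mono ((Tot.ι X i).map f.unop) := ⟨fun a b e => Tot.hom_ext (by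
      simpa [Tot.ι] using congrArg Tot.Hom.base e)⟩
    infer_instance
  exact surjective_map_of_injective F.obj ((Tot.ι X i).map f.unop)

end levels

section cech

variable {S : TopCat.{u}} {C : SimplexCategoryᵒᵖ ⥤ TopCat.{u}} (ε : ∀ n, C.obj n ⟶ S)
  (w : ∀ {n m : SimplexCategoryᵒᵖ} (φ : n ⟶ m), C.map φ ≫ ε m = ε n) (U : Opens S)

/-- The preimages of an open subset of the base. -/
def over : SimplicialObject (Tot C) where
  obj n := ⟨n, (Opens.map (ε n)).obj U⟩
  map {n m} φ := ⟨φ, fun x hx => by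
    change ε m (C.map φ x) ∈ U
    rw [← ConcreteCategory.comp_apply, w φ]
    exact hx⟩
  map_id n := Tot.hom_ext rfl
  map_comp φ ψ := Tot.hom_ext rfl

/-- Adding a new first vertex. -/
def prepend {q : SimplexCategory} {n : ℕ} (g : ⦋n⦌ ⟶ q) : ⦋n + 1⦌ ⟶ q :=
  SimplexCategory.Hom.mk ⟨Fin.cases 0 g.toOrderHom, fun a b hab => by
    induction a using Fin.cases with
    | zero => exact Fin.zero_le _
    | succ a =>
      induction b using Fin.cases with
      | zero => simp at hab
      | succ b => exact g.toOrderHom.monotone (Fin.succ_le_succ_iff.1 hab)⟩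

theorem δ_zero_prepend {q : SimplexCategory} {n : ℕ} (g : ⦋n⦌ ⟶ q) :
    SimplexCategory.δ 0 ≫ prepend g = g :=
  SimplexCategory.Hom.ext _ _ (OrderHom.ext _ _ (funext fun i => by
    simp [prepend, SimplexCategory.δ]))

theorem δ_succ_prepend {q : SimplexCategory} {n : ℕ} (g : ⦋n + 1⦌ ⟶ q) (j : Fin (n + 2)) :
    SimplexCategory.δ j.succ ≫ prepend g = prepend (SimplexCategory.δ j ≫ g) :=
  SimplexCategory.Hom.ext _ _ (OrderHom.ext _ _ (funext fun i => by
    induction i using Fin.cases <;>
      simp [prepend, SimplexCategory.δ]))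

/-- The contraction by a new first vertex. -/
def overContraction : Contraction (over ε w U) where
  ext a n σ := ⟨(prepend (q := a.base.unop) σ.base.unop).op, fun x hx => by
    have h : ε (op ⦋n⦌) (C.map σ.base x) ∈ U := σ.sub hx
    change ε (op ⦋n + 1⦌) (C.map _ x) ∈ U
    have e1 := ConcreteCategory.congr_hom (w (n := a.base) (m := op ⦋n⦌) σ.base) x
    have e2 := ConcreteCategory.congr_hom
      (w (n := a.base) (m := op ⦋n + 1⦌) (prepend (q := a.base.unop) σ.base.unop).op) x
    exact e2.symm ▸ (e1 ▸ h : ε a.base x ∈ U)⟩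
  δ_zero a n σ := Tot.hom_ext (Quiver.Hom.unop_inj (δ_zero_prepend _))
  δ_succ a n σ i := Tot.hom_ext (Quiver.Hom.unop_inj (δ_succ_prepend _ i))

/-- The Čech cochains of a sheaf are exact in positive degrees. -/
abbrev ExC (F : Sh C) : Prop := ExCod (over ε w U) F.obj

theorem exC_of_injective (F : Sh C) [Injective F] : ExC ε w U F := by
  have := injective_toPresheaf F
  exact (overContraction ε w U).exCod F.obj

theorem exC_X₃ {T : ShortComplex (Sh C)} (hT : T.ShortExact) (h₁ : ExC ε w U T.X₁)
    (h₂ : ExC ε w U T.X₂)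
    (hsurj : ∀ n, Function.Surjective (T.g.hom.app (op ((over ε w U) _⦋n⦌))))
    (hexact : ∀ (n : ℕ) x, T.g.hom.app (op ((over ε w U) _⦋n⦌)) x = 0 →
      ∃ a, T.f.hom.app (op ((over ε w U) _⦋n⦌)) a = x)
    (hinj : ∀ n, Function.Injective (T.f.hom.app (op ((over ε w U) _⦋n⦌)))) :
    ExC ε w U T.X₃ := by
  intro n c hc
  obtain ⟨b, rfl⟩ := hsurj (n + 1) c
  rw [cod_nat] at hc
  obtain ⟨a, ha⟩ := hexact _ _ hc
  have ha0 : cod (over ε w U) T.X₁.obj (n + 1 + 1) a = 0 := by
    apply hinj
    rw [← cod_nat, ha, cod_cod, map_zero]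
  obtain ⟨a', rfl⟩ := h₁ (n + 1) a ha0
  obtain ⟨y, hy⟩ := h₂ n (b - T.f.hom.app _ a') (by rw [map_sub, cod_nat, ha, sub_self])
  refine ⟨T.g.hom.app _ y, ?_⟩
  rw [cod_nat, hy, map_sub]
  have : T.g.hom.app (op ((over ε w U) _⦋n + 1⦌)) (T.f.hom.app _ a') = 0 :=
    ConcreteCategory.congr_hom (NatTrans.congr_app (congrArg (fun q => q.hom) T.zero) _) a'
  rw [this, sub_zero]

end cech

end Groth.Agent.Desc45
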