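import Groth.Agent.Desc45.Tot
import Mathlib.Topology.Sheaves.SheafCondition.UniqueGluing
import Mathlib.CategoryTheory.Adjunction.Basic
import Mathlib.CategoryTheory.Adjunction.Additive

/-!
Morphisms of diagrams of spaces, maps of sheaves over them, universality, and the direct image.
-/

set_option autoImplicit false
set_option linter.unusedVariables false
universe u w

open CategoryTheory CategoryTheory.Limits Opposite TopologicalSpace

namespace Groth.Agent.Desc45

variable {I J K' : Type} [SmallCategory I] [SmallCategory J] [SmallCategory K']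

/-- A morphism of diagrams of spaces over varying index categories. -/
structure DMap (Y : J ⥤ TopCat.{u}) (X : I ⥤ TopCat.{u}) where
  idx : J ⥤ I
  map : Y ⟶ idx ⋙ X

variable {X : I ⥤ TopCat.{u}} {Y : J ⥤ TopCat.{u}} {Z : K' ⥤ TopCat.{u}}

namespace DMap

/-- Preimage of an open. -/
abbrev pre (M : DMap Y X) (i : J) (V : Opens (X.obj (M.idx.obj i))) : Opens (Y.obj i) :=
  (Opens.map (M.map.app i)).obj V

theorem pre_sq (M : DMap Y X) {i j : J} (f : i ⟶ j) (V : Opens (X.obj (M.idx.obj j))) :
    (Opens.map (Y.map f)).obj (M.pre j V) =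
      M.pre i ((Opens.map (X.map (M.idx.map f))).obj V) := by
  apply Opens.ext
  ext x
  change M.map.app j (Y.map f x) ∈ V ↔ X.map (M.idx.map f) (M.map.app i x) ∈ V
  rw [← ConcreteCategory.comp_apply, ← ConcreteCategory.comp_apply, M.map.naturality f]
  rfl

theorem pre_le (M : DMap Y X) {i j : J} (f : i ⟶ j) {U : Opens (X.obj (M.idx.obj i))}
    {V : Opens (X.obj (M.idx.obj j))} (h : U ≤ (Opens.map (X.map (M.idx.map f))).obj V) :
    M.pre i U ≤ (Opens.map (Y.map f)).obj (M.pre j V) :=
  (M.pre_sq f V).symm ▸ fun x hx => h hx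

/-- Composition of morphisms of diagrams. -/
def comp (M : DMap Y X) (N : DMap Z Y) : DMap Z X where
  idx := N.idx ⋙ M.idx
  map :=
    { app := fun i => N.map.app i ≫ M.map.app (N.idx.obj i)
      naturality := fun i j f => by
        change Z.map f ≫ N.map.app j ≫ M.map.app _ = (N.map.app i ≫ M.map.app _) ≫ _
        rw [← Category.assoc, N.map.naturality]
        exact (Category.assoc _ _ _).trans
          ((_ ≫= M.map.naturality (N.idx.map f)).trans (Category.assoc _ _ _).symm) }

end DMap

/-- The value of a sheaf on an open of one of the spaces. -/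
abbrev sec (F : Sh X) (i : I) (V : Opens (X.obj i)) : AddCommGrpCat.{u} := F.obj.obj (op ⟨i, V⟩)

/-- Restriction. -/
abbrev res (F : Sh X) {a b : Tot X} (φ : a ⟶ b) : F.obj.obj (op b) ⟶ F.obj.obj (op a) :=
  F.obj.map φ.op

theorem res_res (F : Sh X) {a b c : Tot X} (φ : a ⟶ b) (ψ : b ⟶ c) (x : F.obj.obj (op c)) :
    res F φ (res F ψ x) = res F (φ ≫ ψ) x :=
  (ConcreteCategory.congr_hom (F.obj.map_comp ψ.op φ.op) x).symm

theorem res_eq (F : Sh X) {a b : Tot X} {φ ψ : a ⟶ b} (h : φ.base = ψ.base) (x : F.obj.obj (op b)) :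
    res F φ x = res F ψ x := by rw [Tot.hom_ext h]

theorem res_self (F : Sh X) {a : Tot X} (φ : a ⟶ a) (h : φ.base = 𝟙 _) (x : F.obj.obj (op a)) :
    res F φ x = x := by
  rw [show φ = 𝟙 a from Tot.hom_ext h]
  exact ConcreteCategory.congr_hom (F.obj.map_id _) x

theorem hom_res {F F' : Sh X} (h : F ⟶ F') {a b : Tot X} (φ : a ⟶ b) (x : F.obj.obj (op b)) :
    h.hom.app (op a) (res F φ x) = res F' φ (h.hom.app (op b) x) :=
  ConcreteCategory.congr_hom (h.hom.naturality φ.op) x

theorem sh_hom_ext {F F' : Sh X} {h h' : F ⟶ F'}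
    (e : ∀ (i : I) (V : Opens (X.obj i)) (x : sec F i V),
      h.hom.app (op ⟨i, V⟩) x = h'.hom.app (op ⟨i, V⟩) x) : h = h' :=
  ObjectProperty.hom_ext _ (NatTrans.ext (funext fun a => ConcreteCategory.hom_ext _ _
    (e a.unop.base a.unop.opn)))

/-- A map of sheaves over a morphism of diagrams. -/
structure MMap (M : DMap Y X) (G : Sh X) (F : Sh Y) where
  app : ∀ (i : J) (V : Opens (X.obj (M.idx.obj i))), sec G (M.idx.obj i) V ⟶ sec F i (M.pre i V)
  natural : ∀ {i j : J} (f : i ⟶ j) (U : Opens (X.obj (M.idx.obj i)))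
    (V : Opens (X.obj (M.idx.obj j))) (h : U ≤ (Opens.map (X.map (M.idx.map f))).obj V)
    (x : sec G (M.idx.obj j) V),
    app i U (res G (Tot.mkHom X (M.idx.map f) h) x) =
      res F (Tot.mkHom Y f (M.pre_le f h)) (app j V x)

namespace MMap

variable {M : DMap Y X} {N : DMap Z Y} {G G' : Sh X} {F F' : Sh Y} {E E' : Sh Z}

@[ext]
theorem ext {η η' : MMap M G F} (h : ∀ i V x, η.app i V x = η'.app i V x) : η = η' := by
  obtain ⟨a, _⟩ := η
  obtain ⟨b, _⟩ := η'
  obtain rfl : a = b := funext fun i => funext fun V => ConcreteCategory.hom_ext _ _ (h i V)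
  rfl

/-- Postcomposition. -/
def push (η : MMap M G F) (h : F ⟶ F') : MMap M G F' where
  app i V := η.app i V ≫ h.hom.app (op ⟨i, M.pre i V⟩)
  natural f U V hle x := by
    simp only [ConcreteCategory.comp_apply]
    rw [η.natural f U V hle x]
    exact hom_res h _ _

/-- Precomposition. -/
def pull (η : MMap M G F) (g : G' ⟶ G) : MMap M G' F where
  app i V := g.hom.app (op ⟨M.idx.obj i, V⟩) ≫ η.app i V
  natural f U V hle x := by
    simp only [ConcreteCategory.comp_apply]
    rw [hom_res g]
    exact η.natural f U V hle _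

@[simp] theorem push_app (η : MMap M G F) (h : F ⟶ F') (i V x) :
    (η.push h).app i V x = h.hom.app (op ⟨i, M.pre i V⟩) (η.app i V x) := rfl
@[simp] theorem pull_app (η : MMap M G F) (g : G' ⟶ G) (i V x) :
    (η.pull g).app i V x = η.app i V (g.hom.app (op ⟨M.idx.obj i, V⟩) x) := rfl

theorem push_id (η : MMap M G F) : η.push (𝟙 F) = η := ext fun _ _ _ => rfl

theorem push_push (η : MMap M G F) {F'' : Sh Y} (h : F ⟶ F') (h' : F' ⟶ F'') :
    (η.push h).push h' = η.push (h ≫ h') := ext fun _ _ _ => rfl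

/-- Composition. -/
def comp (η : MMap M G F) (θ : MMap N F E) : MMap (M.comp N) G E where
  app i V := η.app (N.idx.obj i) V ≫ θ.app i (M.pre _ V)
  natural f U V hle x := by
    simp only [ConcreteCategory.comp_apply]
    refine (congrArg (θ.app _ _) (η.natural (N.idx.map f) U V hle x)).trans ?_
    exact θ.natural f _ _ _ _

@[simp] theorem comp_app (η : MMap M G F) (θ : MMap N F E) (i V x) :
    (η.comp θ).app i V x = θ.app i (M.pre _ V) (η.app (N.idx.obj i) V x) := rfl

/-- Universality: `F` is the inverse image of `G`. -/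
def IsU (η : MMap M G F) : Prop :=
  ∀ K : Sh Y, Function.Bijective (fun h : F ⟶ K => η.push h)

theorem IsU.isIso {η : MMap M G F} (hη : η.IsU) {η' : MMap M G F'} (hη' : η'.IsU) (f : F ⟶ F')
    (hf : η.push f = η') : IsIso f := by
  obtain ⟨g, hg⟩ := (hη' F).2 η
  refine ⟨g, (hη F).1 ?_, (hη' F').1 ?_⟩
  · change η.push (f ≫ g) = η.push (𝟙 F)
    rw [push_id, ← push_push, hf]
    exact hg
  · change η'.push (g ≫ f) = η'.push (𝟙 F')
    rw [push_id, ← push_push, show η'.push g = η from hg, hf]

theorem IsU.push_iso {η : MMap M G F} (hη : η.IsU) (f : F ⟶ F') [IsIso f] : (η.push f).IsU := by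
  intro K
  have e : (fun h : F' ⟶ K => (η.push f).push h) =
      (fun h => η.push h) ∘ ((asIso f).homCongr (Iso.refl K)).symm := by
    funext h
    simp [push_push, Iso.homCongr]
  rw [e]
  exact (hη K).comp (Equiv.bijective _)

end MMap

section direct

variable (M : DMap Y X)

/-- The open on which a member of a family lives. -/
abbrev dom (a : Tot X) {i : J} (f : M.idx.obj i ⟶ a.base) : Opens (Y.obj i) :=
  M.pre i ((Opens.map (X.map f)).obj a.opn)

theorem dom_le {a : Tot X} {i i' : J} (g : i ⟶ i') (f' : M.idx.obj i' ⟶ a.base) :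
    dom M a (M.idx.map g ≫ f') ≤ (Opens.map (Y.map g)).obj (dom M a f') := by
  refine M.pre_le g ?_
  rw [X.map_comp]
  exact fun x hx => hx

theorem dom_mono {a b : Tot X} (φ : a ⟶ b) {i : J} (f : M.idx.obj i ⟶ a.base) :
    dom M a f ≤ (Opens.map (Y.map (𝟙 i))).obj (dom M b (f ≫ φ.base)) :=
  Tot.le_map_id Y fun x hx => by
    change X.map (f ≫ φ.base) (M.map.app i x) ∈ b.opn
    rw [X.map_comp]
    exact φ.sub hx

variable (F : Sh Y)

/-- Compatible families of sections. -/
def famGroup (a : Tot X) :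
    AddSubgroup (∀ (i : J) (f : M.idx.obj i ⟶ a.base), sec F i (dom M a f)) where
  carrier := {x | ∀ (i i' : J) (g : i ⟶ i') (f' : M.idx.obj i' ⟶ a.base),
    res F (Tot.mkHom Y g (dom_le M g f')) (x i' f') = x i (M.idx.map g ≫ f')}
  add_mem' {x y} hx hy i i' g f' := by
    simp only [Pi.add_apply, map_add, hx i i' g f', hy i i' g f']
  zero_mem' i i' g f' := by simp only [Pi.zero_apply, map_zero]
  neg_mem' {x} hx i i' g f' := by simp only [Pi.neg_apply, map_neg, hx i i' g f']

variable {M F} in
theorem fam_congr {a : Tot X} (x : ∀ (i : J) (f : M.idx.obj i ⟶ a.base), sec F i (dom M a f))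
    {i : J} {f f' : M.idx.obj i ⟶ a.base} (h : f = f') {c : Tot Y}
    (φ : c ⟶ ⟨i, dom M a f⟩) (φ' : c ⟶ ⟨i, dom M a f'⟩) (hb : φ.base = φ'.base) :
    res F φ (x i f) = res F φ' (x i f') := by
  subst h
  exact res_eq F hb _

/-- Restriction of families. -/
def famMap {a b : Tot X} (φ : a ⟶ b) : famGroup M F b →+ famGroup M F a where
  toFun x := ⟨fun i f => res F (Tot.mkHom Y (𝟙 i) (dom_mono M φ f)) (x.1 i (f ≫ φ.base)),
    fun i i' g f' => by
      rw [res_res]
      have e := x.2 i i' g (f' ≫ φ.base)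
      have h1 : res F (Tot.mkHom Y (𝟙 i) (dom_mono M φ (M.idx.map g ≫ f')))
          (x.1 i ((M.idx.map g ≫ f') ≫ φ.base)) =
        res F (Tot.mkHom Y (𝟙 i) (dom_mono M φ (M.idx.map g ≫ f') |>.trans (by
          rw [Category.assoc])) : (⟨i, dom M a (M.idx.map g ≫ f')⟩ : Tot Y) ⟶
            ⟨i, dom M b (M.idx.map g ≫ f' ≫ φ.base)⟩)
          (x.1 i (M.idx.map g ≫ f' ≫ φ.base)) :=
        fam_congr x.1 (Category.assoc _ _ _) _ _ rfl
      refine Eq.trans ?_ h1.symm
      rw [← e, res_res]
      exact res_eq F (by simp) _⟩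
  map_zero' := Subtype.ext (funext fun i => funext fun f => map_zero _)
  map_add' x y := Subtype.ext (funext fun i => funext fun f => map_add _ _ _)

/-- The presheaf of compatible families. -/
def famPre : (Tot X)ᵒᵖ ⥤ AddCommGrpCat.{u} where
  obj a := AddCommGrpCat.of (famGroup M F a.unop)
  map φ := AddCommGrpCat.ofHom (famMap M F φ.unop)
  map_id a := ConcreteCategory.hom_ext _ _ fun x => Subtype.ext (funext fun i => funext fun f => by
    change res F (Tot.mkHom Y (𝟙 i) _) (x.1 i (f ≫ 𝟙 a.unop.base)) = x.1 i f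
    exact (fam_congr x.1 (Category.comp_id f) _ (𝟙 _) rfl).trans (res_self F _ rfl _))
  map_comp {a b c} φ ψ := ConcreteCategory.hom_ext _ _ fun x => Subtype.ext (funext fun i =>
    funext fun f => by
    change res F (Tot.mkHom Y (𝟙 i) _) (x.1 i (f ≫ ψ.unop.base ≫ φ.unop.base)) =
      res F (Tot.mkHom Y (𝟙 i) _) (res F (Tot.mkHom Y (𝟙 i) _)
        (x.1 i ((f ≫ ψ.unop.base) ≫ φ.unop.base)))
    rw [res_res]
    exact fam_congr x.1 (Category.assoc _ _ _).symm _ _ (Category.comp_id _).symm)

theorem isSheaf_famPre : Presheaf.IsSheaf (Tot.top X) (famPre M F) := by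
  rw [Tot.isSheaf_iff]
  intro j
  change TopCat.Presheaf.IsSheaf (X := X.obj j) ((Tot.ι X j).op ⋙ famPre M F)
  rw [TopCat.Presheaf.isSheaf_iff_isSheafUniqueGluing]
  intro ι U s hs
  let Fi : ∀ i : J, TopCat.Sheaf AddCommGrpCat.{u} (Y.obj i) := fun i =>
    ⟨(Tot.ι Y i).op ⋙ F.obj, (Tot.isSheaf_iff _).1 F.property i⟩
  let W : ∀ (i : J) (f : M.idx.obj i ⟶ j) (k : ι), Opens (Y.obj i) := fun i f k =>
    dom M ⟨j, U k⟩ f
  have hcov : ∀ (i : J) (f : M.idx.obj i ⟶ j), dom M ⟨j, iSup U⟩ f ≤ iSup (W i f) := by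
    intro i f x hx
    obtain ⟨k, hk⟩ := Opens.mem_iSup.1 (show X.map f (M.map.app i x) ∈ iSup U from hx)
    exact Opens.mem_iSup.2 ⟨k, hk⟩
  let inc : ∀ (i : J) (f : M.idx.obj i ⟶ j) (k : ι), W i f k ⟶ dom M ⟨j, iSup U⟩ f :=
    fun i f k => homOfLE fun x hx => Opens.mem_iSup.2 ⟨k, hx⟩
  have hex : ∀ (i : J) (f : M.idx.obj i ⟶ j), ∃! t : sec F i (dom M ⟨j, iSup U⟩ f),
      ∀ k, (Fi i).obj.map (inc i f k).op t = (s k).1 i f := by
    intro i f
    refine (Fi i).existsUnique_gluing' (W i f) _ (inc i f) (hcov i f) (fun k => (s k).1 i f) ?_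
    intro k l
    have h := congrArg (fun q : famGroup M F ⟨j, U k ⊓ U l⟩ => q.1 i f) (hs k l)
    change res F (Tot.mkHom Y (𝟙 i) _) ((s k).1 i (f ≫ 𝟙 j)) =
      res F (Tot.mkHom Y (𝟙 i) _) ((s l).1 i (f ≫ 𝟙 j)) at h
    refine Eq.trans ?_ (h.trans ?_)
    · exact fam_congr (s k).1 (Category.comp_id f).symm _ _ rfl
    · exact fam_congr (s l).1 (Category.comp_id f) _ _ rfl
  choose t ht hu using hex
  refine ⟨⟨t, fun i i' g f' => ?_⟩, fun k => Subtype.ext (funext fun i => funext fun f => ?_),
    fun y hy => Subtype.ext (funext fun i => funext fun f => hu i f _ fun k => ?_)⟩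
  · refine hu i _ _ fun k => ?_
    change res F (Tot.mkHom Y (𝟙 i) _) (res F (Tot.mkHom Y g _) (t i' f')) = _
    refine Eq.trans ?_ ((s k).2 i i' g f')
    refine Eq.trans ?_ (congrArg (fun q => res F _ q) (ht i' f' k))
    change _ = res F (Tot.mkHom Y g _) (res F (Tot.mkHom Y (𝟙 i') _) (t i' f'))
    rw [res_res, res_res]
    exact res_eq F (by simp) _
  · change res F (Tot.mkHom Y (𝟙 i) _) (t i (f ≫ 𝟙 j)) = _
    have h2 : res F ((Tot.ι Y i).map (inc i f k)) (t i f) = (s k).1 i f := ht i f k
    refine Eq.trans ?_ h2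
    exact fam_congr (a := (⟨j, iSup U⟩ : Tot X)) t (Category.comp_id f) _ _ rfl
  · have h := congrArg (fun q : famGroup M F ⟨j, U k⟩ => q.1 i f) (hy k)
    change res F (Tot.mkHom Y (𝟙 i) _) (y.1 i (f ≫ 𝟙 j)) = _ at h
    refine Eq.trans ?_ h
    exact fam_congr y.1 (Category.comp_id f).symm _ _ rfl

/-- The direct image. -/
def R : Sh Y ⥤ Sh X where
  obj F := ⟨famPre M F, isSheaf_famPre M F⟩
  map {F F'} h := ⟨{
    app := fun a => AddCommGrpCat.ofHom
      { toFun := fun x => ⟨fun i f => h.hom.app (op ⟨i, dom M a.unop f⟩) (x.1 i f),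
          fun i i' g f' => by rw [← hom_res h, x.2 i i' g f']⟩
        map_zero' := Subtype.ext (funext fun i => funext fun f => map_zero _)
        map_add' := fun x y => Subtype.ext (funext fun i => funext fun f => map_add _ _ _) }
    naturality := fun a b φ => ConcreteCategory.hom_ext _ _ fun x =>
      Subtype.ext (funext fun i => funext fun f => hom_res h _ _) }⟩
  map_id F := ObjectProperty.hom_ext _ (NatTrans.ext (funext fun a => rfl))
  map_comp h h' := ObjectProperty.hom_ext _ (NatTrans.ext (funext fun a => rfl))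

variable {M F}

theorem dom_id (i : J) (V : Opens (X.obj (M.idx.obj i))) :
    M.pre i V ≤ (Opens.map (Y.map (𝟙 i))).obj (dom M ⟨M.idx.obj i, V⟩ (𝟙 (M.idx.obj i))) :=
  Tot.le_map_id Y fun x hx => by
    change X.map (𝟙 _) (M.map.app i x) ∈ V
    rw [X.map_id]
    exact hx

theorem dom_le_pre (a : Tot X) {i : J} (f : M.idx.obj i ⟶ a.base) :
    (Opens.map (X.map f)).obj a.opn ≤ (Opens.map (X.map f)).obj a.opn := le_rfl

/-- The tautological map. -/
def ev (M : DMap Y X) (F : Sh Y) : MMap M ((R M).obj F) F where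
  app i V := AddCommGrpCat.ofHom
    { toFun := fun x : famGroup M F ⟨M.idx.obj i, V⟩ =>
        res F (Tot.mkHom Y (𝟙 i) (dom_id i V)) (x.1 i (𝟙 _))
      map_zero' := map_zero _
      map_add' := fun x y => map_add _ _ _ }
  natural {i j} f U V h x := by
    change res F (Tot.mkHom Y (𝟙 i) _) (res F (Tot.mkHom Y (𝟙 i) _)
        (x.1 i (𝟙 _ ≫ M.idx.map f))) =
      res F (Tot.mkHom Y f _) (res F (Tot.mkHom Y (𝟙 j) _) (x.1 j (𝟙 _)))
    rw [res_res, res_res]
    have e := x.2 i j f (𝟙 _)
    have h1 := congrArg (fun q => res F (Tot.mkHom Y (𝟙 i) (show M.pre i U ≤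
      (Opens.map (Y.map (𝟙 i))).obj (dom M ⟨M.idx.obj j, V⟩ (M.idx.map f ≫ 𝟙 _)) from
        Tot.le_map_id Y fun y hy => by
          change X.map (M.idx.map f ≫ 𝟙 _) (M.map.app i y) ∈ V
          rw [Category.comp_id]
          exact h hy)) q) e
    simp only [res_res] at h1
    refine Eq.trans ?_ (h1.symm.trans (res_eq F (by simp) _))
    exact fam_congr x.1 ((Category.id_comp _).trans (Category.comp_id _).symm) _ _ (by simp)

/-- The family attached to a map. -/
def toR {G : Sh X} (η : MMap M G F) : G ⟶ (R M).obj F :=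
  ⟨{ app := fun a => AddCommGrpCat.ofHom
      { toFun := fun s => ⟨fun i f => η.app i ((Opens.map (X.map f)).obj a.unop.opn)
            (res G (Tot.mkHom X f (le_refl ((Opens.map (X.map f)).obj a.unop.opn))) s),
          fun i i' g f' => by
            refine (η.natural g ((Opens.map (X.map (M.idx.map g ≫ f'))).obj a.unop.opn) _
              (by rw [X.map_comp]; exact fun x hx => hx) _).symm.trans ?_
            rw [res_res]
            exact congrArg (η.app i _) (res_eq G rfl _)⟩
        map_zero' := Subtype.ext (funext fun i => funext fun f => by simp)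
        map_add' := fun x y => Subtype.ext (funext fun i => funext fun f => by simp) }
     naturality := fun a b φ => ConcreteCategory.hom_ext _ _ fun s =>
      Subtype.ext (funext fun i => funext fun f => by
        change η.app i _ (res G _ (res G φ.unop s)) =
          res F (Tot.mkHom Y (𝟙 i) _) (η.app i _ (res G _ s))
        rw [res_res]
        refine Eq.trans ?_ (η.natural (𝟙 i) ((Opens.map (X.map f)).obj b.unop.opn) _ (by
          rw [M.idx.map_id]
          exact Tot.le_map_id X fun x hx => by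
            change X.map (f ≫ φ.unop.base) x ∈ a.unop.opn
            rw [X.map_comp]
            exact φ.unop.sub hx) _)
        rw [res_res]
        exact congrArg (η.app i _) (res_eq G (by simp) _)) }⟩

theorem ev_pull_toR {G : Sh X} (η : MMap M G F) : (ev M F).pull (toR η) = η := by
  ext i V x
  change res F (Tot.mkHom Y (𝟙 i) _) (η.app i _ (res G _ x)) = _
  rw [← η.natural (𝟙 i) V _ (by
    rw [M.idx.map_id]
    exact Tot.le_map_id X fun y hy => by
      change X.map (𝟙 _) y ∈ V
      rw [X.map_id]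
      exact hy) _, res_res]
  exact congrArg (η.app i V) (res_self G _ (by simp) x)

theorem toR_ev_pull {G : Sh X} (g : G ⟶ (R M).obj F) : toR ((ev M F).pull g) = g :=
  sh_hom_ext fun j V x => Subtype.ext (funext fun i => funext fun f => by
    change res F (Tot.mkHom Y (𝟙 i) _) ((g.hom.app (op ⟨M.idx.obj i, _⟩) (res G _ x)).1 i (𝟙 _)) = _
    rw [hom_res g]
    change res F (Tot.mkHom Y (𝟙 i) _) (res F (Tot.mkHom Y (𝟙 i) _)
      ((g.hom.app (op ⟨j, V⟩) x).1 i (𝟙 _ ≫ f))) = _
    rw [res_res]
    exact (fam_congr (g.hom.app (op ⟨j, V⟩) x).1 (Category.id_comp f) _ (𝟙 _) (by simp)).trans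
      (res_self F _ rfl _))

/-- Maps over `M` are morphisms to the direct image. -/
def mmapEquiv (M : DMap Y X) (G : Sh X) (F : Sh Y) : MMap M G F ≃ (G ⟶ (R M).obj F) where
  toFun := toR
  invFun g := (ev M F).pull g
  left_inv := ev_pull_toR
  right_inv := toR_ev_pull

theorem ev_push {F' : Sh Y} (h : F ⟶ F') :
    (ev M F).push h = (ev M F').pull ((R M).map h) := by
  ext i V x
  exact hom_res h _ _

theorem mmapEquiv_push {G : Sh X} (η : MMap M G F) {F' : Sh Y} (h : F ⟶ F') :
    mmapEquiv M G F' (η.push h) = mmapEquiv M G F η ≫ (R M).map h := by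
  apply (mmapEquiv M G F').symm.injective
  rw [Equiv.symm_apply_apply]
  have e : η = (ev M F).pull (toR η) := (ev_pull_toR η).symm
  ext i V x
  change _ = ((ev M F').pull ((R M).map h)).app i V ((toR η).hom.app _ x)
  rw [← ev_push]
  exact congrArg (fun q : MMap M G F => (q.push h).app i V x) e

end direct

namespace MMap

variable {M : DMap Y X} {N : DMap Z Y} {G : Sh X} {F : Sh Y} {E : Sh Z}

/-- Maps over a composite as maps into the direct image. -/
def curry (χ : MMap (M.comp N) G E) : MMap M G ((R N).obj E) where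
  app k V := AddCommGrpCat.ofHom
    { toFun := fun s => ⟨fun i f =>
        res E (Tot.mkHom Z (𝟙 i) (Tot.le_map_id Z fun y hy => by
            change X.map (M.idx.map f) (M.map.app _ (N.map.app i y)) ∈ V
            have hy' : M.map.app k (Y.map f (N.map.app i y)) ∈ V := hy
            rw [← ConcreteCategory.comp_apply, M.map.naturality f] at hy'
            exact hy'))
          (χ.app i ((Opens.map (X.map (M.idx.map f))).obj V)
            (res G (Tot.mkHom X (M.idx.map f) le_rfl) s)),
        fun i i' g f' => by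
          rw [res_res]
          have e := χ.natural g ((Opens.map (X.map (M.idx.map (N.idx.map g ≫ f')))).obj V)
            ((Opens.map (X.map (M.idx.map f'))).obj V) (by
              rw [M.idx.map_comp, X.map_comp]
              exact fun x hx => hx) (res G (Tot.mkHom X (M.idx.map f') le_rfl) s)
          erw [res_res] at e
          refine Eq.trans ?_ (congrArg (res E _) ((congrArg (χ.app i _) (res_eq G (by
            simp [DMap.comp]) _)).trans e)).symm
          rw [res_res]
          exact res_eq E (by simp) _⟩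
      map_zero' := Subtype.ext (funext fun i => funext fun f => (congrArg (fun q => res E _ (χ.app i _ q)) (map_zero _)).trans ((congrArg (fun q => res E _ q) (map_zero _)).trans (map_zero _)))
      map_add' := fun x y => Subtype.ext (funext fun i => funext fun f => (congrArg (fun q => res E _ (χ.app i _ q)) (map_add _ x y)).trans ((congrArg (fun q => res E _ q) (map_add _ _ _)).trans (map_add _ _ _))) }
  natural {k l} h U V hle s := Subtype.ext (funext fun i => funext fun f => by
    change res E (Tot.mkHom Z (𝟙 i) _) (χ.app i _ (res G _ (res G _ s))) =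
      res E (Tot.mkHom Z (𝟙 i) _) (res E (Tot.mkHom Z (𝟙 i) _) (χ.app i _ (res G _ s)))
    rw [res_res]
    have e := χ.natural (𝟙 i) ((Opens.map (X.map (M.idx.map f))).obj U)
      ((Opens.map (X.map (M.idx.map (f ≫ h)))).obj V) (by
        rw [CategoryTheory.Functor.map_id]
        exact Tot.le_map_id X fun x hx => by
          change X.map (M.idx.map (f ≫ h)) x ∈ V
          rw [M.idx.map_comp, X.map_comp]
          exact hle hx) (res G (Tot.mkHom X (M.idx.map (f ≫ h)) le_rfl) s)
    erw [res_res] at e ⊢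
    refine (congrArg (res E _) ((congrArg (χ.app i _) (res_eq G (by
      simp [DMap.comp]) _)).trans e)).trans ?_
    rw [res_res]
    exact res_eq E (by simp) _)

theorem curry_comp_ev (χ : MMap (M.comp N) G E) : (curry χ).comp (ev N E) = χ := by
  ext i V s
  change res E (Tot.mkHom Z (𝟙 i) _) (res E (Tot.mkHom Z (𝟙 i) _)
    (χ.app i _ (res G _ s))) = _
  rw [res_res]
  have e := χ.natural (𝟙 i) V ((Opens.map (X.map (M.idx.map (𝟙 (N.idx.obj i))))).obj V) (by
    rw [CategoryTheory.Functor.map_id]
    exact Tot.le_map_id X fun x hx => by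
      change X.map (M.idx.map (𝟙 _)) x ∈ V
      rw [M.idx.map_id, X.map_id]
      exact hx) (res G (Tot.mkHom X (M.idx.map (𝟙 (N.idx.obj i))) le_rfl) s)
  erw [res_res] at e
  refine Eq.trans ?_ ((congrArg (χ.app i V) (res_self G _ (by simp [DMap.comp]) s)).symm.trans e).symm
  exact res_eq E (by simp) _

theorem comp_ev_injective {η η' : MMap M G ((R N).obj E)}
    (h : η.comp (ev N E) = η'.comp (ev N E)) : η = η' := by
  suffices key : ∀ ξ : MMap M G ((R N).obj E), curry (ξ.comp (ev N E)) = ξ by
    rw [← key η, ← key η', h]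
  intro ξ
  ext k V s
  refine Subtype.ext (funext fun i => funext fun f => ?_)
  change res E (Tot.mkHom Z (𝟙 i) _) (res E (Tot.mkHom Z (𝟙 i) _)
    ((ξ.app (N.idx.obj i) _ (res G _ s)).1 i (𝟙 _))) = _
  rw [ξ.natural f _ V le_rfl s, res_res]
  change res E _ (res E (Tot.mkHom Z (𝟙 i) _) ((ξ.app k V s).1 i (𝟙 _ ≫ f))) = _
  rw [res_res]
  exact (fam_congr (ξ.app k V s).1 (Category.id_comp f) _ (𝟙 _) (by simp)).trans
    (res_self E _ rfl _)

/-- Composites of universal maps are universal. -/
theorem IsU.comp {η : MMap M G F} {θ : MMap N F E} (hη : η.IsU) (hθ : θ.IsU) :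
    (η.comp θ).IsU := by
  intro K
  have e : (fun h : E ⟶ K => (η.comp θ).push h) =
      (fun ξ : MMap M G ((R N).obj K) => ξ.comp (ev N K)) ∘
        (fun g : F ⟶ (R N).obj K => η.push g) ∘ (mmapEquiv N F K) ∘ fun h => θ.push h := by
    funext h
    change _ = (η.push (toR (θ.push h))).comp (ev N K)
    ext i V x
    exact (congrArg (fun q : MMap N F K => q.app i (M.pre _ V) (η.app (N.idx.obj i) V x))
      (ev_pull_toR (θ.push h))).symm
  rw [e]
  have hc : Function.Bijective fun ξ : MMap M G ((R N).obj K) => ξ.comp (ev N K) :=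
    ⟨fun _ _ => comp_ev_injective, fun χ => ⟨curry χ, curry_comp_ev χ⟩⟩
  exact hc.comp ((hη _).comp ((mmapEquiv N F K).bijective.comp (hθ K)))

/-- Two-out-of-three. -/
theorem IsU.of_comp {η : MMap M G F} {θ : MMap N F E} (hη : η.IsU) (hc : (η.comp θ).IsU) :
    θ.IsU := by
  intro K
  have e : (fun h : E ⟶ K => (η.comp θ).push h) =
      (fun θ' : MMap N F K => η.comp θ') ∘ fun h => θ.push h := rfl
  have hb : Function.Bijective fun θ' : MMap N F K => η.comp θ' := by
    have : (fun θ' : MMap N F K => η.comp θ') =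
        (fun ξ : MMap M G ((R N).obj K) => ξ.comp (ev N K)) ∘
          (fun g : F ⟶ (R N).obj K => η.push g) ∘ (mmapEquiv N F K) := by
      funext θ'
      ext i V x
      exact (congrArg (fun q : MMap N F K => q.app i (M.pre _ V) (η.app (N.idx.obj i) V x))
        (ev_pull_toR θ')).symm
    rw [this]
    have hc' : Function.Bijective fun ξ : MMap M G ((R N).obj K) => ξ.comp (ev N K) :=
      ⟨fun _ _ => comp_ev_injective, fun χ => ⟨curry χ, curry_comp_ev χ⟩⟩
    exact hc'.comp ((hη _).comp (mmapEquiv N F K).bijective)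
  have h := hc K
  rw [e] at h
  exact (Function.Bijective.of_comp_iff' hb _).1 h

end MMap

section left

variable (M : DMap Y X) (L : Sh X ⥤ Sh Y) (η : ∀ G, MMap M G (L.obj G))
  (nat : ∀ {G G' : Sh X} (g : G ⟶ G'), (η G').pull g = (η G).push (L.map g))
  (hU : ∀ G, (η G).IsU)

/-- A functor with natural universal maps is left adjoint to the direct image. -/
noncomputable def adjOfU : L ⊣ R M :=
  Adjunction.mkOfHomEquiv
    { homEquiv := fun G F => (Equiv.ofBijective _ (hU G F)).trans (mmapEquiv M G F)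
      homEquiv_naturality_left_symm := fun {G' G F} g k => by
        apply ((Equiv.ofBijective _ (hU G' F)).trans (mmapEquiv M G' F)).injective
        rw [Equiv.apply_symm_apply]
        apply (mmapEquiv M G' F).symm.injective
        refine Eq.trans ?_ (Equiv.symm_apply_apply _ _).symm
        change (ev M F).pull (g ≫ k) = (η G').push (L.map g ≫ _)
        rw [← MMap.push_push, ← nat]
        have h := congrArg (fun q : MMap M G F => q.pull g)
          ((Equiv.ofBijective _ (hU G F)).apply_symm_apply ((mmapEquiv M G F).symm k))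
        exact h.symm
      homEquiv_naturality_right := fun {G F F'} h k => by
        change mmapEquiv M G F' ((η G).push (h ≫ k)) = _
        rw [← MMap.push_push, mmapEquiv_push]
        rfl }

theorem adjOfU_homEquiv {G : Sh X} {F : Sh Y} (h : L.obj G ⟶ F) :
    (adjOfU M L η nat hU).homEquiv G F h = mmapEquiv M G F ((η G).push h) := by
  simp [adjOfU]

/-- A transpose is invertible when the map it comes from is universal. -/
theorem isIso_homEquiv_symm {G : Sh X} {F : Sh Y} (θ : MMap M G F) (hθ : θ.IsU) :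
    IsIso (((adjOfU M L η nat hU).homEquiv G F).symm (mmapEquiv M G F θ)) := by
  refine (hU G).isIso hθ _ ?_
  have h := ((adjOfU M L η nat hU).homEquiv G F).apply_symm_apply (mmapEquiv M G F θ)
  rw [adjOfU_homEquiv] at h
  exact (mmapEquiv M G F).injective h

theorem additive_of_U (η : ∀ G, MMap M G (L.obj G))
    (nat : ∀ {G G' : Sh X} (g : G ⟶ G'), (η G').pull g = (η G).push (L.map g))
    (hU : ∀ G, (η G).IsU) : L.Additive ∧ (R M).Additive := by
  have hR : (R M).Additive := ⟨fun {F F' h h'} => sh_hom_ext fun j V x =>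
    Subtype.ext (funext fun i => funext fun f => rfl)⟩
  exact ⟨(adjOfU M L η nat hU).left_adjoint_additive, hR⟩

end left

end Groth.Agent.Desc45
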