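import Groth.Agent.Desc45.ProperModel
import Groth.Agent.TopCoh49.Basic2

/-!
Proper surjective maps with relatively separated fibres are of cohomological descent.
-/

set_option autoImplicit false
set_option linter.unusedVariables false
set_option backward.isDefEq.respectTransparency false
set_option backward.isDefEq.respectTransparency.types false
universe u

open CategoryTheory CategoryTheory.Limits Opposite TopologicalSpace Simplicial

namespace Groth.Agent.Desc45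

attribute [local instance] HasDerivedCategory.standard
attribute [local instance] comp_preservesFiniteLimits comp_preservesFiniteColimits

section ext

variable {Z X : TopCat.{u}} (i : Z ⟶ X) {F : CohTop.Ab X} {G : CohTop.Ab Z}
  (α : ∀ V : Opens X, F.obj.obj (op V) →+ G.obj.obj (op ((Opens.map i).obj V)))
  (hα : ∀ y : Z, ∃ Φ : CohTop.stalk F (i y) →+ CohTop.stalk G y, Function.Bijective Φ ∧
    ∀ (V : Opens X) (hV : i y ∈ V) (x : F.obj.obj (op V)),
      Φ (TopCoh49.germ F (i y) hV x) = TopCoh49.germ G (U := (Opens.map i).obj V) y hV (α V x))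

include hα in
/-- Sections near compact sets come from the ambient space. -/
theorem exists_ext_of_stalk (hi : Topology.IsEmbedding i) {K : Set Z} (hK : IsCompact K)
    (hsep : TopCoh49.SepPts (i '' K)) {W : Opens Z} (hW : K ⊆ W) (s : G.obj.obj (op W)) :
    ∃ (Ω : Opens X) (t : F.obj.obj (op Ω)) (W' : Opens Z) (h : W' ≤ (Opens.map i).obj Ω) (h' : W' ≤ W),
      i '' K ⊆ Ω ∧ K ⊆ W' ∧ TopCoh49.rs G.obj h (α Ω t) = TopCoh49.rs G.obj h' s := by
  classical
  choose Φ hΦ hΦe using hα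
  let e : ∀ z, CohTop.stalk F (i z) ≃ CohTop.stalk G z := fun z => Equiv.ofBijective _ (hΦ z)
  let g : ∀ z, CohTop.stalk F (i z) := fun z =>
    if hz : z ∈ W then (e z).symm (TopCoh49.germ G z hz s) else 0
  have hg : ∀ z (hz : z ∈ W), Φ z (g z) = TopCoh49.germ G z hz s := fun z hz => by
    simp only [g, dif_pos hz]
    exact (e z).apply_symm_apply _
  obtain ⟨Ω, t, hKΩ, ht⟩ := TopCoh49.exists_section_near i hi.injective hK hsep F g fun z hz => by
    obtain ⟨V, hzV, t₀, ht₀⟩ := TopCat.Presheaf.exists_germ_eq F.obj (g z)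
    obtain ⟨N, hN₁, hN₂, hN, hNt⟩ := TopCoh49.exists_agree G (α V t₀) s
    obtain ⟨O, hO, hON⟩ := hi.isInducing.isOpen_iff.1 N.2
    have hzN : z ∈ N := hN z hzV (hW hz) ((hΦe z V hzV t₀).symm.trans
      ((congrArg _ ht₀).trans (hg z _)))
    refine ⟨V ⊓ ⟨O, hO⟩, TopCoh49.rs F.obj inf_le_left t₀, ⟨hzV, hON.ge hzN⟩, fun w hw hwΩ => ?_⟩
    have hwN : w ∈ N := hON.le hwΩ.2
    rw [TopCoh49.germ_rs]
    refine (hΦ w).1 ((hΦe w V hwΩ.1 t₀).trans (Eq.trans ?_ (hg w (hN₂ hwN)).symm))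
    exact ((TopCoh49.germ_rs G hN₁ w hwN _).symm.trans (congrArg _ hNt)).trans
      (TopCoh49.germ_rs G hN₂ w hwN s)
  obtain ⟨N, hN₁, hN₂, hN, hNt⟩ := TopCoh49.exists_agree G (α Ω t) s
  refine ⟨Ω, t, N, hN₁, hN₂, hKΩ, fun z hz => hN z (hKΩ ⟨z, hz, rfl⟩) (hW hz) ?_, hNt⟩
  exact (hΦe z Ω _ t).symm.trans ((congrArg _ (ht z hz _)).trans (hg z _))

include hα in
/-- A section vanishing on the subspace vanishes near it. -/
theorem exists_zero_near {V : Opens X} (t : F.obj.obj (op V)) {W : Opens Z}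
    (hW : W ≤ (Opens.map i).obj V) (h : TopCoh49.rs G.obj hW (α V t) = 0) :
    ∃ (N : Opens X) (hN : N ≤ V), i '' W ⊆ N ∧ TopCoh49.rs F.obj hN t = 0 := by
  obtain ⟨N, h₁, h₂, hN, hNt⟩ := TopCoh49.exists_agree F t (0 : F.obj.obj (op V))
  refine ⟨N, h₁, ?_, hNt.trans (map_zero _)⟩
  rintro _ ⟨z, hz, rfl⟩
  obtain ⟨Φ, hΦ, hΦe⟩ := hα z
  refine hN _ (hW hz) (hW hz) (hΦ.1 ?_)
  rw [map_zero, map_zero]
  refine (hΦe V (hW hz) t).trans ?_
  exact ((TopCoh49.germ_rs G hW z hz _).symm.trans (congrArg _ h)).trans (map_zero _)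

end ext

section proper

variable {X S : TopCat.{u}} (f : X ⟶ S) (s : S)

/-- The fibre. -/
abbrev fibre : TopCat.{u} := TopCat.of (f ⁻¹' {s})

/-- The fibre over its point. -/
abbrev fibreMap : fibre f s ⟶ TopCat.of PUnit.{u + 1} :=
  TopCat.ofHom ⟨fun _ => PUnit.unit, continuous_const⟩

/-- The point. -/
abbrev baseN : DMap (pt (TopCat.of PUnit.{u + 1})) (pt S) :=
  ptMap (TopCat.ofHom ⟨fun _ => s, continuous_const⟩)

/-- The fibre of the Čech nerve. -/
noncomputable abbrev nerveN : DMap (tupleModel (fibreMap f s)).C (tupleModel f).C where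
  idx := 𝟭 _
  map :=
    { app := fun n => TopCat.ofHom (X := Tuples (fibreMap f s) n) (Y := Tuples f n)
        ⟨fun x => ⟨fun i => (x.1 i).1, fun i => ((x.1 i).2).trans ((x.1 0).2).symm⟩,
          Continuous.subtype_mk (continuous_pi fun i =>
            continuous_subtype_val.comp ((continuous_apply i).comp continuous_subtype_val)) _⟩
      naturality := fun n m φ => rfl }

/-- The fibre square. -/
noncomputable def properCell :
    Cell ((tupleModel f).aug.comp (nerveN f s)) ((baseN s).comp (tupleModel (fibreMap f s)).aug) where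
  t := { app := fun _ => Discrete.eqToHom rfl, naturality := fun _ _ _ => Subsingleton.elim _ _ }
  w n := by
    ext x
    exact ((x : Tuples (fibreMap f s) n).1 0).2

instance : IsIso (properCell f s).t := CechModel.isIso_discrete _

theorem isEmbedding_nerveN (n : SimplexCategoryᵒᵖ) :
    Topology.IsEmbedding ((nerveN f s).map.app n) := by
  have h : Topology.IsEmbedding (fun x : Tuples (fibreMap f s) n => fun i => (x.1 i).1) :=
    (Topology.IsEmbedding.piMap fun _ => Topology.IsEmbedding.subtypeVal).comp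
      Topology.IsEmbedding.subtypeVal
  exact Topology.IsEmbedding.of_comp ((nerveN f s).map.app n).hom.continuous continuous_subtype_val h

theorem range_nerveN (n : SimplexCategoryᵒᵖ) :
    Set.range ((nerveN f s).map.app n) = (tupleModel f).ε n ⁻¹' {s} := by
  refine Set.eq_of_subset_of_subset ?_ fun x hx => ?_
  · rintro _ ⟨x, rfl⟩
    exact ((x : Tuples (fibreMap f s) n).1 0).2
  · exact ⟨(⟨fun i => ⟨(x : Tuples f n).1 i, ((x : Tuples f n).2 i).trans hx⟩, fun _ => rfl⟩ :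
      Tuples (fibreMap f s) n), rfl⟩

variable (hf : IsProperMap f)
  (hs : ∀ x x' : X, f x = f x' → x ≠ x' →
    ∃ U V : Set X, IsOpen U ∧ IsOpen V ∧ x ∈ U ∧ x' ∈ V ∧ Disjoint U V)

include hf in
theorem compactSpace_nerveN (n : SimplexCategoryᵒᵖ) :
    CompactSpace ((tupleModel (fibreMap f s)).C.obj n) := by
  refine ⟨(isEmbedding_nerveN f s n).isCompact_iff.2 ?_⟩
  rw [Set.image_univ, range_nerveN]
  exact ((isProperMap_iff_isClosedMap_and_compact_fibers).1 (isProperMap_tupleModel_ε f hf n)).2.2 s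

include hs in
theorem sepPts_nerveN (n : SimplexCategoryᵒᵖ) (K : Set ((tupleModel (fibreMap f s)).C.obj n)) :
    TopCoh49.SepPts (X := (tupleModel f).C.obj n) ((nerveN f s).map.app n '' K) := by
  intro a ha b hb hab
  have ha' := (range_nerveN f s n).le (Set.image_subset_range _ _ ha)
  have hb' := (range_nerveN f s n).le (Set.image_subset_range _ _ hb)
  exact disjoint_nhds_tupleModel f hs n (a := a) (b := b) (ha'.trans hb'.symm) hab

include hs in
theorem t2Space_nerveN (n : SimplexCategoryᵒᵖ) :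
    T2Space ((tupleModel (fibreMap f s)).C.obj n) :=
  t2Space_iff_disjoint_nhds.2 fun a b hab => by
    have h := sepPts_nerveN f s hs n Set.univ _ ⟨a, trivial, rfl⟩ _ ⟨b, trivial, rfl⟩
      fun e => hab ((isEmbedding_nerveN f s n).injective e)
    change Disjoint (nhds a) (nhds b)
    rw [(isEmbedding_nerveN f s n).nhds_eq_comap, (isEmbedding_nerveN f s n).nhds_eq_comap]
    exact Filter.disjoint_comap h

include hf in
theorem exists_nhd (n : SimplexCategoryᵒᵖ) (Ω : Opens ((tupleModel f).C.obj n))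
    (h : ∀ x, (nerveN f s).map.app n x ∈ Ω) :
    ∃ U : Opens S, s ∈ U ∧ (Opens.map ((tupleModel f).ε n)).obj U ≤ Ω := by
  have hc := (isProperMap_tupleModel_ε f hf n).isClosedMap _ Ω.2.isClosed_compl
  refine ⟨⟨_, hc.isOpen_compl⟩, fun ⟨x, hx, hxs⟩ => by
    obtain ⟨y, rfl⟩ := (range_nerveN f s n).ge hxs
    exact hx (h y),
    fun x hx => ?_⟩
  by_contra hx'
  exact hx ⟨x, hx', rfl⟩

/-- The cochain object of the nerve over an open set. -/
noncomputable abbrev nOver (U : Opens S) : SimplicialObject (Tot (tupleModel f).C) :=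
  over (tupleModel f).ε (fun φ => (tupleModel f).w φ) U

/-- The cochain object of the fibre. -/
noncomputable abbrev fOver : SimplicialObject (Tot (tupleModel (fibreMap f s)).C) :=
  over (tupleModel (fibreMap f s)).ε (fun φ => (tupleModel (fibreMap f s)).w φ) ⊤

theorem le_pre_over (U : Opens S) (hU : s ∈ U) (n : ℕ) :
    ((fOver f s) _⦋n⦌).opn ≤ (Opens.map ((tupleModel (fibreMap f s)).C.map (𝟙 (op ⦋n⦌)))).obj
      ((nerveN f s).pre (op ⦋n⦌) ((nOver f U) _⦋n⦌).opn) :=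
  Tot.le_map_id _ fun x _ => by
    have : (tupleModel f).ε (op ⦋n⦌) ((nerveN f s).map.app (op ⦋n⦌) x) = s :=
      (range_nerveN f s (op ⦋n⦌)).le ⟨x, rfl⟩
    change (tupleModel f).ε (op ⦋n⦌) ((nerveN f s).map.app (op ⦋n⦌) x) ∈ U
    rw [this]
    exact hU

variable {f s} in
/-- Restriction of cochains to the fibre. -/
noncomputable def toFibre {F : Sh (tupleModel f).C} {G : Sh (tupleModel (fibreMap f s)).C}
    (η : MMap (nerveN f s) F G) (U : Opens S) (hU : s ∈ U) (n : ℕ) :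
    F.obj.obj (op ((nOver f U) _⦋n⦌)) →+ G.obj.obj (op ((fOver f s) _⦋n⦌)) :=
  (η.app (op ⦋n⦌) ((nOver f U) _⦋n⦌).opn ≫
    res G (Tot.mkHom _ (𝟙 _) (le_pre_over f s U hU n))).hom

theorem toFibre_cod {F : Sh (tupleModel f).C} {G : Sh (tupleModel (fibreMap f s)).C}
    (η : MMap (nerveN f s) F G) (U : Opens S) (hU : s ∈ U) (n : ℕ)
    (x : F.obj.obj (op ((nOver f U) _⦋n⦌))) :
    toFibre η U hU (n + 1) (cod (nOver f U) F.obj n x) = cod (fOver f s) G.obj n (toFibre η U hU n x) := by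
  rw [cod_eq, cod_eq, map_sum]
  refine Finset.sum_congr rfl fun i _ => ?_
  rw [map_zsmul]
  congr 1
  change res G _ (η.app _ _ (res F ((nOver f U).δ i) x)) = res G ((fOver f s).δ i) (res G _ (η.app _ _ x))
  have e := η.natural (SimplexCategory.δ i).op _ _ ((nOver f U).δ i).sub x
  refine Eq.trans (congrArg (fun r => res G _ r)
    ((congrArg (η.app _ _) (res_eq F rfl x)).trans e)) ?_
  refine (res_res G _ _ _).trans (Eq.trans ?_ (res_res G _ _ _).symm)
  exact res_eq G ((Category.id_comp _).trans (Category.comp_id _).symm) _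

/-- Restriction between nested opens of the base. -/
noncomputable def nRes {U U' : Opens S} (h : U' ≤ U) (n : ℕ) : (nOver f U') _⦋n⦌ ⟶ (nOver f U) _⦋n⦌ :=
  Tot.mkHom _ (𝟙 _) (Tot.le_map_id _ fun x hx => h hx)

theorem cod_nRes (F : Sh (tupleModel f).C) {U U' : Opens S} (h : U' ≤ U) (n : ℕ)
    (x : F.obj.obj (op ((nOver f U) _⦋n⦌))) :
    res F (nRes f h (n + 1)) (cod (nOver f U) F.obj n x) =
      cod (nOver f U') F.obj n (res F (nRes f h n) x) := by
  rw [cod_eq, cod_eq, map_sum]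
  refine Finset.sum_congr rfl fun i _ => ?_
  rw [map_zsmul]
  congr 1
  change res F _ (res F _ x) = res F _ (res F _ x)
  refine (res_res F _ _ _).trans (Eq.trans ?_ (res_res F _ _ _).symm)
  exact res_eq F ((Category.id_comp _).trans (Category.comp_id _).symm) _

theorem toFibre_nRes {F : Sh (tupleModel f).C} {G : Sh (tupleModel (fibreMap f s)).C}
    (η : MMap (nerveN f s) F G) {U U' : Opens S} (hU' : s ∈ U') (h : U' ≤ U) (n : ℕ)
    (x : F.obj.obj (op ((nOver f U) _⦋n⦌))) :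
    toFibre η U' hU' n (res F (nRes f h n) x) = toFibre η U (h hU') n x := by
  change res G _ (η.app _ _ (res F _ x)) = res G _ (η.app _ _ x)
  have e := η.natural (𝟙 (op ⦋n⦌)) _ _ (nRes f h n).sub x
  refine Eq.trans (congrArg (fun r => res G _ r)
    ((congrArg (η.app _ _) (res_eq F rfl x)).trans e)) ?_
  refine (res_res G _ _ _).trans ?_
  exact res_eq G (Category.comp_id _) _

variable {F : Sh (tupleModel f).C} {G : Sh (tupleModel (fibreMap f s)).C}
  {η : MMap (nerveN f s) F G} (hη : η.IsU)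

include hf hs hη in
theorem exists_toFibre_eq (n : ℕ) (x : G.obj.obj (op ((fOver f s) _⦋n⦌))) :
    ∃ (U : Opens S) (hU : s ∈ U) (t : F.obj.obj (op ((nOver f U) _⦋n⦌))),
      toFibre η U hU n t = x := by
  have := compactSpace_nerveN f s hf (op ⦋n⦌)
  obtain ⟨Ω, t, W', hW'Ω, hW'W, hKΩ, hKW', e⟩ := exists_ext_of_stalk
    ((nerveN f s).map.app (op ⦋n⦌)) (F := (lev _ (op ⦋n⦌)).obj F) (G := (lev _ (op ⦋n⦌)).obj G)
    (fun V => (η.app (op ⦋n⦌) V).hom) (fun y => germ_atLevel _ hη (op ⦋n⦌) y)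
    (isEmbedding_nerveN f s _) isCompact_univ (sepPts_nerveN f s hs _ _)
    (W := ((fOver f s) _⦋n⦌).opn) (fun _ _ => trivial) x
  have hK : ∀ y, (nerveN f s).map.app (op ⦋n⦌) y ∈ Ω := fun y => hKΩ ⟨y, trivial, rfl⟩
  obtain ⟨U, hU, hUΩ⟩ := exists_nhd f s hf _ Ω hK
  let φ : (nOver f U) _⦋n⦌ ⟶ ⟨op ⦋n⦌, Ω⟩ := Tot.mkHom _ (𝟙 _) (Tot.le_map_id _ hUΩ)
  refine ⟨U, hU, res F φ t, ?_⟩
  change res G _ (η.app _ _ (res F φ t)) = x
  have e' := η.natural (𝟙 (op ⦋n⦌)) _ _ φ.sub t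
  refine Eq.trans (congrArg (fun r => res G _ r)
    ((congrArg (η.app _ _) (res_eq F rfl t)).trans e')) ?_
  refine (res_res G _ _ _).trans ?_
  let ψ : (fOver f s) _⦋n⦌ ⟶ ⟨op ⦋n⦌, W'⟩ :=
    Tot.mkHom _ (𝟙 _) (Tot.le_map_id _ fun y _ => hKW' (Set.mem_univ y))
  have h1 := congrArg (fun r => res G ψ r) e
  refine Eq.trans ?_ (h1.trans ?_)
  · refine Eq.trans ?_ (res_res G _ _ _).symm
    exact res_eq G (by simp [Tot.ι, ψ]) _
  · refine (res_res G ψ ((Tot.ι _ (op ⦋n⦌)).map (homOfLE hW'W)) x).trans ?_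
    exact res_self G _ (by simp [Tot.ι, ψ]; rfl) _

include hf hη in
theorem exists_nhd_of_toFibre_eq_zero {U : Opens S} (hU : s ∈ U) (n : ℕ)
    (t : F.obj.obj (op ((nOver f U) _⦋n⦌))) (ht : toFibre η U hU n t = 0) :
    ∃ (U' : Opens S) (h : U' ≤ U), s ∈ U' ∧ res F (nRes f h n) t = 0 := by
  obtain ⟨N, hN, hKN, hNt⟩ := exists_zero_near
    ((nerveN f s).map.app (op ⦋n⦌)) (F := (lev _ (op ⦋n⦌)).obj F) (G := (lev _ (op ⦋n⦌)).obj G)
    (fun V => (η.app (op ⦋n⦌) V).hom) (fun y => germ_atLevel _ hη (op ⦋n⦌) y)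
    (V := ((nOver f U) _⦋n⦌).opn) t (W := ((fOver f s) _⦋n⦌).opn)
    (fun y hy => by simpa using le_pre_over f s U hU n hy) (Eq.trans (res_eq G rfl _) ht)
  have hK : ∀ y, (nerveN f s).map.app (op ⦋n⦌) y ∈ N := fun y => hKN ⟨y, trivial, rfl⟩
  obtain ⟨U', hU', hU'N⟩ := exists_nhd f s hf _ N hK
  refine ⟨U ⊓ U', inf_le_left, ⟨hU, hU'⟩, ?_⟩
  let φ : (nOver f (U ⊓ U')) _⦋n⦌ ⟶ ⟨op ⦋n⦌, N⟩ :=
    Tot.mkHom _ (𝟙 _) (Tot.le_map_id _ fun y hy => hU'N (hy.2))
  have h1 := congrArg (fun r => res F φ r) hNt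
  refine Eq.trans ?_ (h1.trans (map_zero _))
  refine Eq.trans ?_ (res_res F φ ((Tot.ι _ (op ⦋n⦌)).map (homOfLE hN)) t).symm
  exact res_eq F (by simp [Tot.ι, φ, nRes]) _

include hf hs hη in
theorem exC_fibre [Injective F] : ExCod (fOver f s) G.obj := by
  intro n x hx
  obtain ⟨U, hU, t, rfl⟩ := exists_toFibre_eq f s hf hs hη (n + 1) x
  rw [← toFibre_cod] at hx
  obtain ⟨U', h, hU', h0⟩ := exists_nhd_of_toFibre_eq_zero f s hf hη hU _ _ hx
  rw [cod_nRes] at h0
  obtain ⟨y, hy⟩ := exC_of_injective (tupleModel f).ε (fun φ => (tupleModel f).w φ) U' F n _ h0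
  refine ⟨toFibre η U' hU' n y, ?_⟩
  rw [← toFibre_cod, hy, toFibre_nRes]

include hs hη in
theorem isSoft_fibre [Injective F] (n : SimplexCategoryᵒᵖ) :
    TopCoh49.IsSoft ((lev _ n).obj G) := by
  intro K hK W hW x
  have := isFlasque_lev n F
  obtain ⟨Ω, t, W', hW'Ω, hW'W, hKΩ, hKW', e⟩ := exists_ext_of_stalk
    ((nerveN f s).map.app n) (F := (lev _ n).obj F) (G := (lev _ n).obj G)
    (fun V => (η.app n V).hom) (fun y => germ_atLevel _ hη n y)
    (isEmbedding_nerveN f s _) hK (sepPts_nerveN f s hs _ _) hW x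
  obtain ⟨t', ht'⟩ := (AddCommGrpCat.epi_iff_surjective _).1
    (this.epi (homOfLE (le_top : Ω ≤ ⊤)).op) t
  refine ⟨η.app n ⊤ t', W', hW'W, hKW', Eq.trans ?_ e⟩
  rw [← ht']
  let a : (⟨n, Ω⟩ : Tot (tupleModel f).C) ⟶ ⟨n, ⊤⟩ :=
    (Tot.ι _ n).map (homOfLE (le_top : Ω ≤ ⊤))
  have e' := η.natural (𝟙 n) Ω ⊤ a.sub t'
  refine Eq.trans ?_ (congrArg (fun r => TopCoh49.rs ((lev _ n).obj G).obj hW'Ω r)
    ((congrArg (η.app n Ω) (res_eq F rfl t')).trans e')).symm
  refine Eq.trans ?_ (res_res G _ _ _).symm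
  exact res_eq G (by simp [Tot.ι]) _

theorem subsingleton_bot {I : Type} [SmallCategory I] {Y : I ⥤ TopCat.{u}} (H : Sh Y) (i : I) :
    Subsingleton (H.obj.obj (op (⟨i, ⊥⟩ : Tot Y))) :=
  TopCoh49.subsingleton_sections_bot ((lev Y i).obj H)

theorem eq_bot_or_top (U : Opens (TopCat.of PUnit.{u + 1})) : U = ⊥ ∨ U = ⊤ := by
  by_cases h : PUnit.unit ∈ U
  · exact Or.inr (top_le_iff.1 fun x _ => h)
  · exact Or.inl (le_bot_iff.1 fun x hx => (h hx).elim)

theorem bijective_of_top {A B : Sh (pt (TopCat.of PUnit.{u + 1}))} (g : A ⟶ B)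
    (h : Function.Bijective (g.hom.app (op (⟨⟨PUnit.unit⟩, ⊤⟩ : Tot (pt (TopCat.of PUnit.{u + 1}))))))
    (a : (Tot (pt (TopCat.of PUnit.{u + 1})))ᵒᵖ) : Function.Bijective (g.hom.app a) := by
  obtain ⟨⟨⟨⟨⟩⟩, U⟩⟩ := a
  rcases eq_bot_or_top U with rfl | rfl
  · have := subsingleton_bot A (⟨PUnit.unit⟩ : Pt)
    have := subsingleton_bot B (⟨PUnit.unit⟩ : Pt)
    exact ⟨fun _ _ _ => Subsingleton.elim _ _, fun y => ⟨0, Subsingleton.elim _ _⟩⟩
  · exact h

theorem surjective_of_top {A B : Sh (pt (TopCat.of PUnit.{u + 1}))} (g : A ⟶ B)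
    (h : Function.Surjective (g.hom.app (op (⟨⟨PUnit.unit⟩, ⊤⟩ : Tot (pt (TopCat.of PUnit.{u + 1}))))))
    (a : (Tot (pt (TopCat.of PUnit.{u + 1})))ᵒᵖ) : Function.Surjective (g.hom.app a) := by
  obtain ⟨⟨⟨⟨⟩⟩, U⟩⟩ := a
  rcases eq_bot_or_top U with rfl | rfl
  · have := subsingleton_bot B (⟨PUnit.unit⟩ : Pt)
    exact fun y => ⟨0, Subsingleton.elim _ _⟩
  · exact h

omit hf hs in
theorem sections_exact {I : Type} [SmallCategory I] {Y : I ⥤ TopCat.{u}} {T : ShortComplex (Sh Y)}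
    (hT : T.ShortExact) [∀ i, (lev Y i).Additive] (a : Tot Y) :
    Function.Injective (T.f.hom.app (op a)) ∧
      ∀ x, T.g.hom.app (op a) x = 0 → ∃ y, T.f.hom.app (op a) y = x := by
  obtain ⟨i, U⟩ := a
  have h := shortExact_lev i hT
  refine ⟨?_, fun x hx => TopCat.Sheaf.sections_exact_of_left_exact h.exact h.mono_f x hx⟩
  have := h.mono_f
  have hm : Mono ((lev Y i).map T.f) := h.mono_f
  have h' : Mono ((lev Y i).map T.f).hom := @Functor.map_mono _ _ _ _
    (sheafToPresheaf (Opens.grothendieckTopology (Y.obj i)) AddCommGrpCat.{u}) _ _ _ _ hm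
  exact (AddCommGrpCat.mono_iff_injective (((lev Y i).map T.f).hom.app (op U))).1
    ((NatTrans.mono_iff_mono_app _).1 h' (op U))

include hf hs in
/-- Levelwise soft sheaves with exact cochains on the fibre. -/
noncomputable def fibreClass : AcyclicClass (R (tupleModel (fibreMap f s)).aug) := by
  let C := (tupleModel (fibreMap f s)).C
  have hadd : ∀ i, (lev C i).Additive := fun i => inferInstance
  have hC : ∀ i, CompactSpace (C.obj i) := compactSpace_nerveN f s hf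
  have hT : ∀ i, T2Space (C.obj i) := t2Space_nerveN f s hs
  have hsurj : ∀ {T : ShortComplex (Sh C)}, T.ShortExact →
      (∀ i, TopCoh49.IsSoft ((lev C i).obj T.X₁)) → ∀ n : ℕ,
        Function.Surjective (T.g.hom.app (op ((fOver f s) _⦋n⦌))) := fun {T} hT' h n =>
    TopCoh49.surjective_top_of_isSoft (shortExact_lev (op ⦋n⦌) hT') (h _)
  exact
  { P := fun H => (∀ i, TopCoh49.IsSoft ((lev C i).obj H)) ∧ ExCod (fOver f s) H.obj
    of_isZero := fun H hH => by
      have h0 : ∀ a (x : H.obj.obj a), x = 0 := fun a x =>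
        ConcreteCategory.congr_hom (NatTrans.congr_app
          (congrArg (fun q => q.hom) ((IsZero.iff_id_eq_zero _).1 hH)) a) x
      refine ⟨fun i K hK W hW x => ⟨0, W, le_rfl, hW, ?_⟩, fun n x _ => ⟨0, ?_⟩⟩
      · exact (h0 _ _).trans (h0 _ _).symm
      · exact (h0 _ _).trans (h0 _ x).symm
    of_injective := fun H hH => ⟨fun i => by
        have := isFlasque_lev i H
        exact TopCoh49.isSoft_of_isFlasque _, exC_of_injective _ (fun φ => (tupleModel _).w φ) ⊤ H⟩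
    biprod := fun A B hA hB => by
      have tot : ∀ (a : (Tot C)ᵒᵖ) (x : (A ⊞ B).obj.obj a),
          (biprod.inl : A ⟶ A ⊞ B).hom.app a ((biprod.fst : A ⊞ B ⟶ A).hom.app a x) +
            (biprod.inr : B ⟶ A ⊞ B).hom.app a ((biprod.snd : A ⊞ B ⟶ B).hom.app a x) = x :=
        fun a x => ConcreteCategory.congr_hom
          (NatTrans.congr_app (congrArg (fun q => q.hom) (biprod.total (X := A) (Y := B))) a) x
      refine ⟨fun i K hK W hW x => ?_, fun n x hx => ?_⟩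
      · obtain ⟨t₁, W₁, h₁, hK₁, e₁⟩ := hA.1 i K hK W hW ((biprod.fst : A ⊞ B ⟶ A).hom.app _ x)
        obtain ⟨t₂, W₂, h₂, hK₂, e₂⟩ := hB.1 i K hK W hW ((biprod.snd : A ⊞ B ⟶ B).hom.app _ x)
        refine ⟨(biprod.inl : A ⟶ A ⊞ B).hom.app _ t₁ + (biprod.inr : B ⟶ A ⊞ B).hom.app _ t₂,
          W₁ ⊓ W₂, inf_le_left.trans h₁, Set.subset_inter hK₁ hK₂, ?_⟩
        let p := (Tot.ι C i).map (homOfLE (le_top : W₁ ⊓ W₂ ≤ ⊤))
        let q := (Tot.ι C i).map (homOfLE (inf_le_left.trans h₁ : W₁ ⊓ W₂ ≤ W))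
        let x₁ := (biprod.fst : A ⊞ B ⟶ A).hom.app (op ((Tot.ι C i).obj W)) x
        let x₂ := (biprod.snd : A ⊞ B ⟶ B).hom.app (op ((Tot.ι C i).obj W)) x
        change res (A ⊞ B) p ((biprod.inl : A ⟶ A ⊞ B).hom.app _ t₁ +
          (biprod.inr : B ⟶ A ⊞ B).hom.app _ t₂) = res (A ⊞ B) q x
        refine Eq.trans ?_ (congrArg (res (A ⊞ B) q) (tot (op ((Tot.ι C i).obj W)) x))
        refine (map_add (res (A ⊞ B) p).hom _ _).trans
          (Eq.trans ?_ (map_add (res (A ⊞ B) q).hom _ _).symm)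
        refine (congrArg₂ (· + ·) (hom_res (biprod.inl : A ⟶ A ⊞ B) p t₁).symm
          (hom_res (biprod.inr : B ⟶ A ⊞ B) p t₂).symm).trans (Eq.trans ?_
          (congrArg₂ (· + ·) (hom_res (biprod.inl : A ⟶ A ⊞ B) q x₁)
            (hom_res (biprod.inr : B ⟶ A ⊞ B) q x₂)))
        refine congrArg₂ (· + ·) (congrArg _ ?_) (congrArg _ ?_)
        · have e := congrArg (fun r => res A ((Tot.ι C i).map (homOfLE
            (inf_le_left : W₁ ⊓ W₂ ≤ W₁))) r) e₁
          refine Eq.trans ?_ (e.trans ?_)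
          · refine Eq.trans ?_ (res_res A _ ((Tot.ι C i).map (homOfLE (le_top : W₁ ≤ ⊤))) t₁).symm
            exact res_eq A (by simp [Tot.ι, p]) _
          · refine (res_res A _ ((Tot.ι C i).map (homOfLE h₁)) x₁).trans ?_
            exact res_eq A (by simp [Tot.ι, q]) _
        · have e := congrArg (fun r => res B ((Tot.ι C i).map (homOfLE
            (inf_le_right : W₁ ⊓ W₂ ≤ W₂))) r) e₂
          refine Eq.trans ?_ (e.trans ?_)
          · refine Eq.trans ?_ (res_res B _ ((Tot.ι C i).map (homOfLE (le_top : W₂ ≤ ⊤))) t₂).symm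
            exact res_eq B (by simp [Tot.ι, p]) _
          · refine (res_res B _ ((Tot.ι C i).map (homOfLE h₂)) x₂).trans ?_
            exact res_eq B (by simp [Tot.ι, q]) _
      · obtain ⟨y₁, hy₁⟩ := hA.2 n ((biprod.fst : A ⊞ B ⟶ A).hom.app _ x)
          (by rw [cod_nat, hx, map_zero])
        obtain ⟨y₂, hy₂⟩ := hB.2 n ((biprod.snd : A ⊞ B ⟶ B).hom.app _ x)
          (by rw [cod_nat, hx, map_zero])
        refine ⟨(biprod.inl : A ⟶ A ⊞ B).hom.app _ y₁ + (biprod.inr : B ⟶ A ⊞ B).hom.app _ y₂, ?_⟩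
        rw [map_add, cod_nat, cod_nat, hy₁, hy₂, tot]
    X₃ := fun {T} hT' h₁ h₂ => ⟨fun i =>
        TopCoh49.isSoft_X₃ (shortExact_lev i hT') (h₁.1 i) (h₂.1 i),
      exC_X₃ _ (fun φ => (tupleModel _).w φ) ⊤ hT' h₁.2 h₂.2 (hsurj hT' h₁.1)
        (fun n x hx => (sections_exact hT' _).2 x hx) (fun n => (sections_exact hT' _).1)⟩
    epi := fun {T} hT' h₁ => by
      suffices h : ∀ a, Epi (((R (tupleModel (fibreMap f s)).aug).map T.g).hom.app a) by
        have : Epi ((R (tupleModel (fibreMap f s)).aug).map T.g).hom := NatTrans.epi_of_epi_app _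
        exact (sheafToPresheaf _ _).epi_of_epi_map
          (show Epi ((sheafToPresheaf _ _).map _) from this)
      refine fun a => (AddCommGrpCat.epi_iff_surjective _).2 (surjective_of_top _ ?_ a)
      intro (y : famGroup (tupleModel (fibreMap f s)).aug T.X₃ _)
      obtain ⟨z₀, hz₀⟩ := hsurj hT' h₁.1 0 (y.1 (op ⦋0⦌) (𝟙 _))
      have hd : T.g.hom.app _ (cod (fOver f s) T.X₂.obj 0 z₀) = 0 := by
        rw [← cod_nat, hz₀]
        exact cod_family _ y
      obtain ⟨a, ha⟩ := (sections_exact hT' _).2 _ hd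
      have ha0 : cod (fOver f s) T.X₁.obj 1 a = 0 := by
        refine (sections_exact hT' _).1 ?_
        rw [← cod_nat, ha, cod_cod, map_zero]
      obtain ⟨a', rfl⟩ := h₁.2 0 a ha0
      obtain ⟨x, hx⟩ := exists_family (tupleModel (fibreMap f s)).ε (fun φ => (tupleModel _).w φ) ⊤
        T.X₂ (z₀ - T.f.hom.app _ a') (by rw [map_sub, cod_nat, ha, sub_self])
      let gx : famGroup (tupleModel (fibreMap f s)).aug T.X₃
          (⟨⟨PUnit.unit⟩, ⊤⟩ : Tot (pt (TopCat.of PUnit.{u + 1}))) :=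
        ((R (tupleModel (fibreMap f s)).aug).map T.g).hom.app _ x
      refine ⟨x, (sub_eq_zero.1 (family_eq_zero (ε := (tupleModel (fibreMap f s)).ε)
        (gx - y) ?_) : gx = y)⟩
      change T.g.hom.app _ (x.1 (op ⦋0⦌) (𝟙 _)) - y.1 (op ⦋0⦌) (𝟙 _) = 0
      refine sub_eq_zero.2 ((congrArg (T.g.hom.app _) hx).trans ((map_sub _ _ _).trans ?_))
      have h0 : T.g.hom.app _ (T.f.hom.app (op ((fOver f s) _⦋0⦌)) a') = 0 :=
        ConcreteCategory.congr_hom (NatTrans.congr_app (congrArg (fun q => q.hom) T.zero) _) a'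
      exact (congrArg (T.g.hom.app (op ((fOver f s) _⦋0⦌)) z₀ - ·) h0).trans
        ((sub_zero _).trans hz₀) }

/-- The comparison map at the fibre on sections over a neighbourhood. -/
theorem bcApp_unit (F : Sh (tupleModel f).C) (U : Opens S) (hU : s ∈ U)
    (x : famGroup (tupleModel f).aug F (⟨⟨PUnit.unit⟩, U⟩ : Tot (pt S))) :
    ((bcApp (properCell f s) F).hom.app (op ⟨⟨PUnit.unit⟩, ⊤⟩)
      (res ((L (baseN s)).obj ((R (tupleModel f).aug).obj F))
        (Tot.mkHom (pt (TopCat.of PUnit.{u + 1})) (𝟙 (⟨PUnit.unit⟩ : Pt))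
          (show (⊤ : Opens (TopCat.of PUnit.{u + 1})) ≤ (baseN s).pre ⟨PUnit.unit⟩ U
            from fun y _ => hU))
        ((unit (baseN s) _).app ⟨PUnit.unit⟩ U x))).1 (op ⦋0⦌) (𝟙 _) =
      toFibre (unit (nerveN f s) F) U hU 0 (x.1 (op ⦋0⦌) (𝟙 _)) := by
  let φ : (⟨⟨PUnit.unit⟩, ⊤⟩ : Tot (pt (TopCat.of PUnit.{u + 1}))) ⟶
      ⟨⟨PUnit.unit⟩, (baseN s).pre ⟨PUnit.unit⟩ U⟩ := Tot.mkHom _ (𝟙 _) (fun y _ => hU)
  have e1 := (hom_res (bcApp (properCell f s) F) φ ((unit (baseN s) _).app ⟨PUnit.unit⟩ U x))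
  have e2 := ConcreteCategory.congr_hom (congrArg (fun m : MMap (baseN s) _ _ =>
    m.app ⟨PUnit.unit⟩ U) (push_bcApp (properCell f s) F)) x
  refine (congrArg (fun q : famGroup (tupleModel (fibreMap f s)).aug _ _ => q.1 (op ⦋0⦌) (𝟙 _))
    (Eq.trans e1 (congrArg _ e2))).trans ?_
  let E := (L (nerveN f s)).obj F
  let η := unit (nerveN f s) F
  let c := properCell f s
  let χ := c.map ((ev (tupleModel f).aug F).comp η)
  change res E _ (res E _ (χ.app (op ⦋0⦌) _ (res ((R (tupleModel f).aug).obj F) _ x))) = _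
  change res E _ (res E _ (res E _ (η.app (op ⦋0⦌) _ ((ev (tupleModel f).aug F).app (op ⦋0⦌) _
    (res ((R (tupleModel f).aug).obj F) _ (res ((R (tupleModel f).aug).obj F) _ x)))))) = _
  simp only [res_res]
  have hev : ∀ (V : Opens S) (ψ : (⟨⟨PUnit.unit⟩, V⟩ : Tot (pt S)) ⟶ ⟨⟨PUnit.unit⟩, U⟩),
      (ev (tupleModel f).aug F).app (op ⦋0⦌) V (res ((R (tupleModel f).aug).obj F) ψ x) =
        res F (Tot.mkHom (tupleModel f).C ((nerveN f s).idx.map (𝟙 (op ⦋0⦌)))
          (show (tupleModel f).aug.pre (op ⦋0⦌) V ≤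
            (Opens.map ((tupleModel f).C.map (𝟙 (op ⦋0⦌)))).obj ((nOver f U) _⦋0⦌).opn from
            Tot.le_map_id _ fun y hy => ψ.sub hy)) (x.1 (op ⦋0⦌) (𝟙 _)) := fun V ψ => by
    refine (res_res F _ _ _).trans ?_
    exact fam_congr x.1 (Subsingleton.elim _ _) _ _ (Category.id_comp _)
  refine (congrArg (fun q => res E _ (η.app (op ⦋0⦌) _ q)) (hev _ _)).trans ?_
  refine (congrArg (fun q => res E _ q) (η.natural (𝟙 (op ⦋0⦌)) _ _ _ _)).trans ?_
  refine (res_res E _ _ _).trans ?_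
  exact res_eq E (by simp) _

include hf hs in
theorem isIso_bc (F : Sh (tupleModel f).C) : IsIso (bcApp (properCell f s) F) := by
  have hbij : ∀ a, Function.Bijective ((bcApp (properCell f s) F).hom.app a) := by
    refine bijective_of_top _ ?_
    have hβ : ∀ w : ((L (baseN s)).obj ((R (tupleModel f).aug).obj F)).obj.obj
        (op (⟨⟨PUnit.unit⟩, ⊤⟩ : Tot (pt (TopCat.of PUnit.{u + 1})))),
        ∃ (U : Opens S) (hU : s ∈ U) (x : famGroup (tupleModel f).aug F (⟨⟨PUnit.unit⟩, U⟩ : Tot (pt S))),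
          res _ (Tot.mkHom (pt (TopCat.of PUnit.{u + 1})) (𝟙 (⟨PUnit.unit⟩ : Pt))
            (show (⊤ : Opens (TopCat.of PUnit.{u + 1})) ≤ (baseN s).pre ⟨PUnit.unit⟩ U
              from fun y _ => hU)) ((unit (baseN s) _).app ⟨PUnit.unit⟩ U x) = w := by
      intro w
      obtain ⟨Φ, hΦ, hΦe⟩ := germ_atLevel (baseN s) (unit_isU (baseN s)
        ((R (tupleModel f).aug).obj F)) ⟨PUnit.unit⟩ PUnit.unit
      obtain ⟨m, hm⟩ := hΦ.2 (TopCoh49.germ ((lev _ ⟨PUnit.unit⟩).obj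
        ((L (baseN s)).obj ((R (tupleModel f).aug).obj F))) (U := ⊤) PUnit.unit trivial w)
      obtain ⟨U, hU, x, rfl⟩ := TopCat.Presheaf.exists_germ_eq _ m
      refine ⟨U, hU, x, TopCoh49.eq_of_germ_eq ((lev _ (⟨PUnit.unit⟩ : Pt)).obj
        ((L (baseN s)).obj ((R (tupleModel f).aug).obj F))) (U := ⊤) fun p hp => ?_⟩
      refine Eq.trans ?_ hm
      refine Eq.trans ?_ (hΦe U hU x).symm
      exact TopCoh49.germ_rs ((lev _ (⟨PUnit.unit⟩ : Pt)).obj
        ((L (baseN s)).obj ((R (tupleModel f).aug).obj F)))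
        (show (⊤ : Opens (TopCat.of PUnit.{u + 1})) ≤ (baseN s).pre ⟨PUnit.unit⟩ U from fun y _ => hU)
        PUnit.unit trivial _
    have hη := unit_isU (nerveN f s) F
    refine ⟨(injective_iff_map_eq_zero _).2 fun w hw => ?_, fun y => ?_⟩
    · obtain ⟨U, hU, x, rfl⟩ := hβ w
      have h0 : toFibre (unit (nerveN f s) F) U hU 0 (x.1 (op ⦋0⦌) (𝟙 _)) = 0 :=
        (bcApp_unit f s F U hU x).symm.trans (congrArg
          (fun q : famGroup (tupleModel (fibreMap f s)).aug _ _ => q.1 (op ⦋0⦌) (𝟙 _)) hw)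
      obtain ⟨U', h, hU', h0'⟩ := exists_nhd_of_toFibre_eq_zero f s hf hη hU 0 _ h0
      let G := (R (tupleModel f).aug).obj F
      let ρ : (⟨⟨PUnit.unit⟩, U'⟩ : Tot (pt S)) ⟶ ⟨⟨PUnit.unit⟩, U⟩ :=
        Tot.mkHom _ (𝟙 _) (fun y hy => h hy)
      have hx0 : res G ρ x = 0 := by
        refine family_eq_zero (ε := (tupleModel f).ε) _ ?_
        refine Eq.trans ?_ h0'
        change res F _ (x.1 _ _) = res F _ (x.1 _ _)
        exact fam_congr x.1 (Subsingleton.elim _ _) _ _ rfl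
      have e := (unit (baseN s) G).natural (𝟙 (⟨PUnit.unit⟩ : Pt)) U' U (fun y hy => h hy) x
      have e' : (unit (baseN s) G).app ⟨PUnit.unit⟩ U' (res G ρ x) = _ :=
        (congrArg ((unit (baseN s) G).app ⟨PUnit.unit⟩ U') (res_eq G rfl x)).trans e
      rw [hx0, map_zero] at e'
      let ψ : (⟨⟨PUnit.unit⟩, ⊤⟩ : Tot (pt (TopCat.of PUnit.{u + 1}))) ⟶
          ⟨⟨PUnit.unit⟩, (baseN s).pre ⟨PUnit.unit⟩ U'⟩ := Tot.mkHom _ (𝟙 _) (fun y _ => hU')
      have e'' := congrArg (fun r => res ((L (baseN s)).obj G) ψ r) e'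
      refine Eq.trans ?_ (e''.symm.trans (map_zero _))
      refine Eq.trans (res_eq _ ?_ _) (res_res _ _ _ _).symm
      exact Subsingleton.elim _ _
    · obtain ⟨U, hU, t, ht⟩ := exists_toFibre_eq f s hf hs hη 0
        ((y : famGroup (tupleModel (fibreMap f s)).aug ((L (nerveN f s)).obj F) _).1 (op ⦋0⦌) (𝟙 _))
      have hz : toFibre (unit (nerveN f s) F) U hU 1 (cod (nOver f U) F.obj 0 t) = 0 := by
        rw [toFibre_cod, ht]
        exact cod_family _ (y : famGroup (tupleModel (fibreMap f s)).aug ((L (nerveN f s)).obj F) _)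
      obtain ⟨U', h, hU', h0'⟩ := exists_nhd_of_toFibre_eq_zero f s hf hη hU 1 _ hz
      rw [cod_nRes] at h0'
      obtain ⟨x, hx⟩ := exists_family (tupleModel f).ε (fun φ => (tupleModel f).w φ) U' F _ h0'
      let w := res ((L (baseN s)).obj ((R (tupleModel f).aug).obj F))
        (Tot.mkHom (pt (TopCat.of PUnit.{u + 1})) (𝟙 (⟨PUnit.unit⟩ : Pt))
            (show (⊤ : Opens (TopCat.of PUnit.{u + 1})) ≤ (baseN s).pre ⟨PUnit.unit⟩ U'
              from fun y _ => hU')) ((unit (baseN s) _).app ⟨PUnit.unit⟩ U' x)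
      let bw : famGroup (tupleModel (fibreMap f s)).aug ((L (nerveN f s)).obj F)
          (⟨⟨PUnit.unit⟩, ⊤⟩ : Tot (pt (TopCat.of PUnit.{u + 1}))) :=
        (bcApp (properCell f s) F).hom.app _ w
      let y' : famGroup (tupleModel (fibreMap f s)).aug ((L (nerveN f s)).obj F)
          (⟨⟨PUnit.unit⟩, ⊤⟩ : Tot (pt (TopCat.of PUnit.{u + 1}))) := y
      refine ⟨w, (sub_eq_zero.1 (family_eq_zero (ε := (tupleModel (fibreMap f s)).ε) (bw - y') ?_) :
        bw = y')⟩
      change bw.1 (op ⦋0⦌) (𝟙 _) - y'.1 (op ⦋0⦌) (𝟙 _) = 0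
      refine sub_eq_zero.2 ((bcApp_unit f s F U' hU' x).trans ?_)
      exact (congrArg (toFibre _ U' hU' 0) hx).trans ((toFibre_nRes f s _ hU' h 0 t).trans ht)
  have : ∀ a, IsIso ((bcApp (properCell f s) F).hom.app a) := fun a =>
    (ConcreteCategory.isIso_iff_bijective _).2 (hbij a)
  have : IsIso (bcApp (properCell f s) F).hom := NatIso.isIso_of_isIso_app _
  have : IsIso ((sheafToPresheaf _ _).map (bcApp (properCell f s) F)) := this
  exact isIso_of_reflects_iso _ (sheafToPresheaf _ _)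

include hf hs in
/-- Proper surjective maps with separated fibres are of cohomological descent. -/
theorem isCohDescentMap_of_proper (hsurj : Function.Surjective f) : FibDesc.IsCohDescentMap f := by
  refine (isCohDescentMap_iff f (tupleModel f)).2 (Desc.of_uq fun G a _ J b _ hJ σ hσ => ?_)
  refine quasiIso_of_conservative (fun s : S => L (baseN s)) (fun H hH => ?_) _ fun s => ?_
  · rw [IsZero.iff_id_eq_zero]
    refine sh_hom_ext fun i U x => ?_
    obtain ⟨⟨⟩⟩ := i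
    refine TopCoh49.eq_of_germ_eq ((lev _ (⟨PUnit.unit⟩ : Pt)).obj H) (U := U) fun p hp => ?_
    obtain ⟨Φ, hΦ, hΦe⟩ := germ_atLevel (baseN p) (unit_isU (baseN p) H) ⟨PUnit.unit⟩ PUnit.unit
    refine hΦ.1 ?_
    refine (hΦe U hp _).trans (Eq.trans ?_ (hΦe U hp _).symm)
    refine congrArg _ ?_
    have h0 := (IsZero.iff_id_eq_zero _).1 (hH p)
    have z : ∀ (a) (q : ((L (baseN p)).obj H).obj.obj a), q = 0 := fun a q =>
      ConcreteCategory.congr_hom (NatTrans.congr_app (congrArg (fun q => q.hom) h0) a) q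
    exact (z _ _).trans (z _ _).symm
  · obtain ⟨x₀, hx₀⟩ := hsurj s
    have hd : Desc (tupleModel (fibreMap f s)).aug :=
      (tupleModel (fibreMap f s)).desc_of_section
        (TopCat.ofHom ⟨fun _ => ⟨x₀, hx₀⟩, continuous_const⟩) rfl
    have : PreservesFiniteLimits (R (tupleModel (fibreMap f s)).aug) :=
      ⟨fun K _ _ => (adj (tupleModel (fibreMap f s)).aug).rightAdjoint_preservesLimits.preservesLimitsOfShape⟩
    exact quasiIso_restrict_of_acyclic (fibreClass f s hf hs) (κ := bcNat (properCell f s))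
      (fun K hK => ⟨isIso_bc f s hf hs K,
        fun n => isSoft_fibre f s hs (unit_isU (nerveN f s) K) n,
        exC_fibre f s hf hs (unit_isU (nerveN f s) K)⟩)
      (fun H => isIso_bc_transpose (properCell f s) H) hd.uq G a J b hJ σ hσ

end proper

end Groth.Agent.Desc45
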