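import Groth.Agent.Desc45.Cech
import Groth.Agent.Desc45.Square
import Groth.Agent.Desc45.LevelPull
import Groth.Agent.Desc45.AcyclicClass
import Mathlib.Topology.Maps.Proper.Basic
import Mathlib.Topology.LocalAtTarget

/-!
A point-wise model of the Čech nerve, base change cells for inverse images, families as cocycles.
-/

set_option autoImplicit false
set_option linter.unusedVariables false
set_option backward.isDefEq.respectTransparency false
set_option backward.isDefEq.respectTransparency.types false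
universe u

open CategoryTheory CategoryTheory.Limits Opposite TopologicalSpace Simplicial

namespace Groth.Agent.Desc45

section model

variable {X S : TopCat.{u}} (f : X ⟶ S)

/-- Tuples in a common fibre. -/
abbrev Tuples (n : SimplexCategoryᵒᵖ) : Type u :=
  {x : Fin (n.unop.len + 1) → X // ∀ i, f (x i) = f (x 0)}

/-- Functoriality of tuples. -/
def tupleMap {n m : SimplexCategoryᵒᵖ} (φ : n ⟶ m) : C(Tuples f n, Tuples f m) where
  toFun x := ⟨fun i => x.1 (φ.unop.toOrderHom i), fun i => (x.2 _).trans (x.2 _).symm⟩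
  continuous_toFun :=
    Continuous.subtype_mk (f := fun (x : Tuples f n) i => x.1 (φ.unop.toOrderHom i))
      (continuous_pi fun i => (continuous_apply (φ.unop.toOrderHom i)).comp continuous_subtype_val) _

/-- The point-wise model of the Čech nerve. -/
noncomputable def tupleModel : CechModel f where
  C :=
    { obj := fun n => TopCat.of (Tuples f n)
      map := fun {n m} φ => TopCat.ofHom (tupleMap f φ)
      map_id := fun n => rfl
      map_comp := fun φ ψ => rfl }
  ε n := TopCat.ofHom ⟨fun x : Tuples f n => f (x.1 0),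
    f.hom.continuous.comp ((continuous_apply _).comp continuous_subtype_val)⟩
  w {n m} φ := by
    ext x
    exact Eq.trans (b := f ((x : Tuples f n).1 0)) ((x : Tuples f n).2 (φ.unop.toOrderHom 0)) rfl
  π n i := TopCat.ofHom ⟨fun x : Tuples f n => x.1 i,
    (continuous_apply _).comp continuous_subtype_val⟩
  π_ε n i := by
    ext x
    exact (x : Tuples f n).2 i
  π_map φ i := rfl
  hom_ext n a b h := TopCat.hom_ext (ContinuousMap.ext fun t => Subtype.ext (funext fun i =>
    ConcreteCategory.congr_hom (h i) t))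
  lift_exists {T} n x hx :=
    ⟨TopCat.ofHom (Y := Tuples f n)
      ⟨fun t => ⟨fun i => x i t, fun i => ConcreteCategory.congr_hom (hx i) t⟩,
        (continuous_pi fun i => (x i).hom.continuous).subtype_mk _⟩, fun i => rfl⟩

theorem isProperMap_tupleModel_ε (hf : IsProperMap f) (n : SimplexCategoryᵒᵖ) :
    IsProperMap ((tupleModel f).ε n) := by
  let P : (Fin (n.unop.len + 1) → X) → (Fin (n.unop.len + 1) → S) := Pi.map fun _ => f
  let D : Set (Fin (n.unop.len + 1) → S) := Set.range fun s _ => s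
  have h1 : IsProperMap (D.restrictPreimage P) :=
    (IsProperMap.pi_map fun _ => hf).restrictPreimage D
  let e : D ≃ₜ S :=
    { toFun := fun d => d.1 0
      invFun := fun s => ⟨fun _ => s, s, rfl⟩
      left_inv := fun ⟨_, s, hs⟩ => Subtype.ext (by subst hs; rfl)
      right_inv := fun s => rfl
      continuous_toFun := (continuous_apply _).comp continuous_subtype_val
      continuous_invFun := (continuous_pi fun _ => continuous_id).subtype_mk _ }
  let e' : Tuples f n ≃ₜ P ⁻¹' D :=
    { toFun := fun x => ⟨x.1, f (x.1 0), funext fun i => (x.2 i).symm⟩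
      invFun := fun x => ⟨x.1, fun i => by
        obtain ⟨s, hs⟩ := x.2
        exact (congrFun hs i).symm.trans (congrFun hs 0)⟩
      left_inv := fun x => rfl
      right_inv := fun x => rfl
      continuous_toFun := continuous_subtype_val.subtype_mk _
      continuous_invFun := continuous_subtype_val.subtype_mk _ }
  have h := (e.isProperMap.comp h1).comp e'.isProperMap
  have he : (fun x : Tuples f n => f (x.1 0)) = (e ∘ D.restrictPreimage P) ∘ e' := rfl
  rw [← he] at h
  exact h

theorem disjoint_nhds_tupleModel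
    (hs : ∀ x x' : X, f x = f x' → x ≠ x' →
      ∃ U V : Set X, IsOpen U ∧ IsOpen V ∧ x ∈ U ∧ x' ∈ V ∧ Disjoint U V)
    (n : SimplexCategoryᵒᵖ) {a b : Tuples f n} (h : f (a.1 0) = f (b.1 0)) (hab : a ≠ b) :
    Disjoint (nhds a) (nhds b) := by
  obtain ⟨i, hi⟩ : ∃ i, a.1 i ≠ b.1 i := by
    by_contra h'
    exact hab (Subtype.ext (funext fun i => not_not.1 fun hne => h' ⟨i, hne⟩))
  obtain ⟨U, V, hU, hV, ha, hb, hUV⟩ := hs _ _ ((a.2 i).trans (h.trans (b.2 i).symm)) hi
  have hc : Continuous fun x : Tuples f n => x.1 i :=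
    (continuous_apply i).comp continuous_subtype_val
  exact Filter.disjoint_of_disjoint_of_mem (hUV.preimage _) ((hU.preimage hc).mem_nhds ha)
    ((hV.preimage hc).mem_nhds hb)

end model

section bc

variable {I J I₀ J₀ : Type} [SmallCategory I] [SmallCategory J] [SmallCategory I₀]
  [SmallCategory J₀] {X : I ⥤ TopCat.{u}} {Y : J ⥤ TopCat.{u}}
  {X₀ : I₀ ⥤ TopCat.{u}} {Y₀ : J₀ ⥤ TopCat.{u}} {M : DMap Y X} {N : DMap X₀ X}
  {N' : DMap Y₀ Y} {M₀ : DMap Y₀ X₀}

/-- The morphism out of an inverse image given by a map. -/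
noncomputable def lDesc (N : DMap X₀ X) {G : Sh X} {K : Sh X₀} (χ : MMap N G K) :
    (L N).obj G ⟶ K :=
  ((unit_isU N G K).2 χ).choose

theorem push_lDesc (N : DMap X₀ X) {G : Sh X} {K : Sh X₀} (χ : MMap N G K) :
    (unit N G).push (lDesc N χ) = χ :=
  ((unit_isU N G K).2 χ).choose_spec

variable (c : Cell (M.comp N') (N.comp M₀))

/-- The base change map. -/
noncomputable def bcApp (F : Sh Y) : (L N).obj ((R M).obj F) ⟶ (R M₀).obj ((L N').obj F) :=
  lDesc N (MMap.curry (c.map ((ev M F).comp (unit N' F))))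

theorem push_bcApp (F : Sh Y) :
    (unit N _).push (bcApp c F) = MMap.curry (c.map ((ev M F).comp (unit N' F))) :=
  push_lDesc N _

/-- Base change as a natural transformation. -/
noncomputable def bcNat : R M ⋙ L N ⟶ L N' ⋙ R M₀ where
  app F := bcApp c F
  naturality {F F'} h := by
    refine (unit_isU N _ _).1 (?_ : (unit N _).push _ = (unit N _).push _)
    change (unit N _).push ((L N).map ((R M).map h) ≫ bcApp c F') =
      (unit N _).push (bcApp c F ≫ (R M₀).map ((L N').map h))
    rw [← MMap.push_push, ← unit_nat, ← MMap.push_push, push_bcApp]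
    change ((unit N _).push (bcApp c F')).pull ((R M).map h) = _
    rw [push_bcApp]
    refine MMap.comp_ev_injective ?_
    change ((MMap.curry (c.map ((ev M F').comp (unit N' F')))).comp (ev M₀ _)).pull ((R M).map h) = _
    rw [MMap.curry_comp_ev, MMap.push_comp, ← ev_push, ← MMap.comp_push, MMap.curry_comp_ev,
      ← c.map_pull, ← c.map_push]
    congr 1
    rw [MMap.comp_push, ← unit_nat]
    change ((ev M F').pull ((R M).map h)).comp (unit N' F') = _
    rw [← ev_push]
    rfl

theorem isIso_bc_transpose [IsIso c.t] (G : Sh X) :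
    IsIso (((adj M₀).homEquiv _ _).symm
      ((L N).map ((adj M).unit.app G) ≫ (bcNat c).app ((L M).obj G))) := by
  let h := (L N).map ((adj M).unit.app G) ≫ bcApp c ((L M).obj G)
  let θ : MMap M₀ ((L N).obj G) ((L N').obj ((L M).obj G)) := (ev M₀ _).pull h
  have hθ : (unit N G).comp θ = c.map ((unit M G).comp (unit N' ((L M).obj G))) := by
    let χ := c.map ((ev M ((L M).obj G)).comp (unit N' ((L M).obj G)))
    calc (unit N G).comp θ
        = (((unit N G).push ((L N).map ((adj M).unit.app G))).push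
            (bcApp c ((L M).obj G))).comp (ev M₀ _) := rfl
      _ = (((unit N _).pull ((adj M).unit.app G)).push
            (bcApp c ((L M).obj G))).comp (ev M₀ _) := by rw [unit_nat]; rfl
      _ = (((unit N _).push (bcApp c ((L M).obj G))).comp (ev M₀ _)).pull
            ((adj M).unit.app G) := rfl
      _ = χ.pull ((adj M).unit.app G) := by rw [push_bcApp, MMap.curry_comp_ev]
      _ = c.map (((ev M _).pull ((adj M).unit.app G)).comp (unit N' _)) := by
        rw [← c.map_pull]; rfl
      _ = _ := by rw [Square.unit_eq]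
  have hU : θ.IsU := (unit_isU N G).of_comp
    (hθ ▸ c.map_isU ((unit_isU M G).comp (unit_isU N' _)))
  have := isIso_homEquiv_symm M₀ (L M₀) (unit M₀) (fun g => unit_nat M₀ g) (unit_isU M₀) θ hU
  have e : mmapEquiv M₀ _ _ θ = h := (mmapEquiv M₀ _ _).apply_symm_apply h
  rw [e] at this
  exact this

end bc

section families

variable {S : TopCat.{u}} {C : SimplexCategoryᵒᵖ ⥤ TopCat.{u}} (ε : ∀ n, C.obj n ⟶ S)
  (w : ∀ {n m : SimplexCategoryᵒᵖ} (φ : n ⟶ m), C.map φ ≫ ε m = ε n) (U : Opens S) (F : Sh C)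

theorem cod_zero_apply (x : F.obj.obj (op ((over ε w U) _⦋0⦌))) :
    cod (over ε w U) F.obj 0 x =
      res F ((over ε w U).δ 0) x - res F ((over ε w U).δ 1) x := by
  rw [cod_eq, Fin.sum_univ_two]
  simp [sub_eq_add_neg]

/-- Zero cocycles give families. -/
theorem exists_family (z : F.obj.obj (op ((over ε w U) _⦋0⦌)))
    (hz : cod (over ε w U) F.obj 0 z = 0) :
    ∃ x : famGroup (augMap ε w) F (⟨⟨PUnit.unit⟩, U⟩ : Tot (pt S)),
      x.1 (op ⦋0⦌) (𝟙 _) = z := by
  have key : ∀ {q : SimplexCategory} (a b : Fin (q.len + 1)), a ≤ b →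
      res F ((over ε w U).map (SimplexCategory.const ⦋0⦌ q a).op) z =
        res F ((over ε w U).map (SimplexCategory.const ⦋0⦌ q b).op) z := by
    intro q a b hab
    let e : ⦋1⦌ ⟶ q := SimplexCategory.mkOfLe a b hab
    rw [cod_zero_apply, sub_eq_zero] at hz
    have h := congrArg (fun r => res F ((over ε w U).map e.op) r) hz.symm
    simp only [res_res] at h
    refine Eq.trans ?_ (h.trans ?_) <;> refine res_eq F (Quiver.Hom.unop_inj ?_) z
    · refine SimplexCategory.Hom.ext _ _ (OrderHom.ext _ _ (funext fun i => ?_))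
      fin_cases i
      rfl
    · refine SimplexCategory.Hom.ext _ _ (OrderHom.ext _ _ (funext fun i => ?_))
      fin_cases i
      rfl
  have indep : ∀ {q : SimplexCategory} (a b : Fin (q.len + 1)),
      res F ((over ε w U).map (SimplexCategory.const ⦋0⦌ q a).op) z =
        res F ((over ε w U).map (SimplexCategory.const ⦋0⦌ q b).op) z := fun a b =>
    (le_total a b).elim (key a b) fun h => (key b a h).symm
  have hdom : ∀ (i : SimplexCategoryᵒᵖ) (g : (augMap ε w).idx.obj i ⟶ (⟨PUnit.unit⟩ : Pt)),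
      dom (augMap ε w) (⟨⟨PUnit.unit⟩, U⟩ : Tot (pt S)) g ≤
        (Opens.map (C.map (SimplexCategory.const ⦋0⦌ i.unop 0).op)).obj
          ((Opens.map (ε (op ⦋0⦌))).obj U) := fun i g y hy => by
    change ε (op ⦋0⦌) (C.map _ y) ∈ U
    exact (ConcreteCategory.congr_hom (w _) y).symm ▸ (hy : ε i y ∈ U)
  refine ⟨⟨fun i g => res F (Tot.mkHom C (SimplexCategory.const ⦋0⦌ i.unop 0).op (hdom i g)) z,
    fun i j g f' => ?_⟩, ?_⟩
  · refine (res_res F _ _ _).trans ?_
    let a := g.unop.toOrderHom 0
    let ψ : (⟨i, dom (augMap ε w) (⟨⟨PUnit.unit⟩, U⟩ : Tot (pt S)) ((augMap ε w).idx.map g ≫ f')⟩ :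
        Tot C) ⟶ (over ε w U).obj (op i.unop) := Tot.mkHom C (𝟙 i) (Tot.le_map_id C fun y hy => hy)
    have h := congrArg (fun r => res F ψ r) (indep (q := i.unop) a 0)
    simp only [res_res] at h
    refine Eq.trans ?_ (h.trans ?_) <;> refine res_eq F ?_ z
    · refine Eq.trans ?_ (Category.id_comp _).symm
      exact Quiver.Hom.unop_inj (SimplexCategory.Hom.ext _ _ (OrderHom.ext _ _ (funext fun i => rfl)))
    · exact Category.id_comp _
  · refine res_self F _ (Quiver.Hom.unop_inj (SimplexCategory.Hom.ext _ _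
      (OrderHom.ext _ _ (funext fun i => ?_)))) z
    fin_cases i
    rfl

variable {w U F}

theorem cod_family (x : famGroup (augMap ε w) F (⟨⟨PUnit.unit⟩, U⟩ : Tot (pt S))) :
    cod (over ε w U) F.obj 0 (x.1 (op ⦋0⦌) (𝟙 _)) = 0 := by
  refine (cod_zero_apply ε w U F (x.1 (op ⦋0⦌) (𝟙 _))).trans (sub_eq_zero.2 ?_)
  have h : ∀ i : Fin 2, res F ((over ε w U).δ i) (x.1 (op ⦋0⦌) (𝟙 _)) = x.1 (op ⦋1⦌) (𝟙 _) :=
    fun i => by
      refine Eq.trans (res_eq F rfl _) ((x.2 (op ⦋1⦌) (op ⦋0⦌) (SimplexCategory.δ i).op (𝟙 _)).trans ?_)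
      exact (res_self F (Tot.mkHom C (𝟙 (op ⦋1⦌)) (Tot.le_map_id C fun y hy => hy)) rfl _).symm.trans
        ((fam_congr x.1 (Subsingleton.elim _ _) _ _ rfl).trans
          (res_self F (Tot.mkHom C (𝟙 (op ⦋1⦌)) (Tot.le_map_id C fun y hy => hy)) rfl _))
  exact (h 0).trans (h 1).symm

theorem family_eq_zero (x : famGroup (augMap ε w) F (⟨⟨PUnit.unit⟩, U⟩ : Tot (pt S)))
    (h : x.1 (op ⦋0⦌) (𝟙 _) = 0) : x = 0 := by
  refine Subtype.ext (funext fun i => funext fun g => ?_)
  have e := x.2 i (op ⦋0⦌) (SimplexCategory.const ⦋0⦌ i.unop 0).op (𝟙 _)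
  rw [h, map_zero] at e
  change x.1 i g = 0
  refine Eq.trans ?_ e.symm
  exact (res_self F (Tot.mkHom C (𝟙 i) (Tot.le_map_id C fun y hy => hy)) rfl _).symm.trans
    ((fam_congr x.1 (Subsingleton.elim _ _) _ (Tot.mkHom C (𝟙 i) (Tot.le_map_id C fun y hy => hy)) rfl).trans
      (res_self F _ rfl _))

end families

end Groth.Agent.Desc45
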