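import Groth.Agent.Desc45.Hyper
import Groth.Agent.Desc45.Proper
import Mathlib.Topology.Category.TopCat.Limits.Pullbacks

/-!
Proper surjective maps with separated fibres are universally of cohomological descent.
-/

set_option autoImplicit false
set_option backward.isDefEq.respectTransparency false
set_option backward.isDefEq.respectTransparency.types false
set_option synthInstance.maxHeartbeats 200000
universe u

open CategoryTheory CategoryTheory.Limits Filter Topology Opposite Simplicial

namespace Groth.Agent.Desc45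

variable {X S S' : TopCat.{u}} (f : X ⟶ S) (g : S' ⟶ S)

theorem isProperMap_snd_subtype (hf : IsProperMap f) :
    IsProperMap (fun p : {p : X × S' // f p.1 = g p.2} => p.1.2) := by
  rw [isProperMap_iff_ultrafilter] at hf ⊢
  refine ⟨continuous_snd.comp continuous_subtype_val, fun 𝒰 y hy => ?_⟩
  have h : Tendsto f (𝒰.map fun p => p.1.1 : Ultrafilter X) (𝓝 (g y)) := by
    rw [Ultrafilter.coe_map, tendsto_map'_iff]
    have e : (f ∘ fun p : {p : X × S' // f p.1 = g p.2} => p.1.1) = g ∘ fun p => p.1.2 :=
      funext fun p => p.2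
    rw [e]
    exact (g.hom.continuous.tendsto y).comp hy
  obtain ⟨x, hx, hlim⟩ := hf.2 h
  refine ⟨⟨(x, y), hx⟩, rfl, ?_⟩
  rw [nhds_subtype, ← tendsto_id', tendsto_comap_iff, nhds_prod_eq]
  rw [Ultrafilter.coe_map] at hlim
  exact Tendsto.prodMk hlim hy

theorem isProperMap_pullback_snd (hf : IsProperMap f) : IsProperMap (pullback.snd f g) := by
  let e := TopCat.homeoOfIso (TopCat.pullbackIsoProdSubtype f g)
  have h : (pullback.snd f g : _ → S') =
      (fun p : {p : X × S' // f p.1 = g p.2} => p.1.2) ∘ e := by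
    funext t
    exact (ConcreteCategory.congr_hom (TopCat.pullbackIsoProdSubtype_hom_snd f g) t).symm
  rw [h]
  exact (isProperMap_snd_subtype f g hf).comp e.isProperMap

theorem separated_pullback_snd
    (hs : ∀ x x' : X, f x = f x' → x ≠ x' →
      ∃ U V : Set X, IsOpen U ∧ IsOpen V ∧ x ∈ U ∧ x' ∈ V ∧ Disjoint U V)
    (t t' : ↑(pullback f g)) (ht : pullback.snd f g t = pullback.snd f g t') (hne : t ≠ t') :
    ∃ U V : Set ↑(pullback f g), IsOpen U ∧ IsOpen V ∧ t ∈ U ∧ t' ∈ V ∧ Disjoint U V := by
  have hfe : ∀ s, f (pullback.fst f g s) = g (pullback.snd f g s) := fun s =>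
    ConcreteCategory.congr_hom (pullback.condition : pullback.fst f g ≫ f = _) s
  have hne' : pullback.fst f g t ≠ pullback.fst f g t' := fun e => hne (by
    apply (TopCat.homeoOfIso (TopCat.pullbackIsoProdSubtype f g)).injective
    refine Subtype.ext (Prod.ext ?_ ?_)
    · exact (ConcreteCategory.congr_hom (TopCat.pullbackIsoProdSubtype_hom_fst f g) t).trans
        (e.trans (ConcreteCategory.congr_hom (TopCat.pullbackIsoProdSubtype_hom_fst f g) t').symm)
    · exact (ConcreteCategory.congr_hom (TopCat.pullbackIsoProdSubtype_hom_snd f g) t).trans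
        (ht.trans (ConcreteCategory.congr_hom (TopCat.pullbackIsoProdSubtype_hom_snd f g) t').symm))
  obtain ⟨U, V, hU, hV, hxU, hxV, hd⟩ := hs _ _ ((hfe t).trans ((congrArg g ht).trans (hfe t').symm)) hne'
  exact ⟨_, _, hU.preimage (pullback.fst f g).hom.continuous, hV.preimage (pullback.fst f g).hom.continuous,
    hxU, hxV, hd.preimage _⟩

theorem surjective_pullback_snd (hsurj : Function.Surjective f) :
    Function.Surjective (pullback.snd f g) := fun y => by
  obtain ⟨x, hx⟩ := hsurj (g y)
  refine ⟨(TopCat.pullbackIsoProdSubtype f g).inv ⟨(x, y), hx⟩, ?_⟩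
  exact ConcreteCategory.congr_hom (TopCat.pullbackIsoProdSubtype_inv_snd f g)
    (⟨(x, y), hx⟩ : {p : X × S' // f p.1 = g p.2})

/-- Proper surjective maps with separated fibres are universally of cohomological descent. -/
theorem isUnivCohDescentMap_of_proper (hf : IsProperMap f)
    (hs : ∀ x x' : X, f x = f x' → x ≠ x' →
      ∃ U V : Set X, IsOpen U ∧ IsOpen V ∧ x ∈ U ∧ x' ∈ V ∧ Disjoint U V)
    (hsurj : Function.Surjective f) : FibDesc.IsUnivCohDescentMap f := fun _ g =>
  isCohDescentMap_of_proper (pullback.snd f g) (isProperMap_pullback_snd f g hf)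
    (separated_pullback_snd f g hs) (surjective_pullback_snd f g hsurj)

section over

variable {T : TopCat.{u}}
  [∀ (n : ℕ) (G : (SimplexCategory.Truncated n)ᵒᵖ ⥤ Over T),
    (SimplexCategory.Truncated.inclusion n).op.HasRightKanExtension G]
  (K : SimplicialObject (Over T))

/-- Descent of the augmentation of a hypercovering, on diagrams. -/
theorem desc_ov (h0 : FibDesc.IsUnivCohDescentMap (K.obj (op (SimplexCategory.mk 0))).hom)
    (hn : ∀ n : ℕ, FibDesc.IsUnivCohDescentMap
      (((SimplicialObject.coskAdj n).unit.app K).app (op (SimplexCategory.mk (n + 1)))).left) :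
    Desc (augMap (ovε K) (fun φ => ovw K φ)) := by
  refine desc_augMap_of_cosk (ε := ovε K) (w := fun φ => ovw K φ)
    (desc_coskAugMap (ovC K) (ovε K) (fun φ => ovw K φ) h0 fun n => ?_)
  obtain ⟨e, he⟩ := exists_iso_cosk K n
  have h1 := congrArg CommaMorphism.left (NatTrans.congr_app he (op ⦋n + 1⦌))
  rw [← show _ = (coskK (ovC K) (ovε K) (fun φ => ovw K φ) n).app (op ⦋n + 1⦌) from h1]
  refine isUnivCohDescentMap_comp _ _ (hn n) ?_
  have := Iso.app e (op ⦋n + 1⦌)
  exact isUnivCohDescentMap_of_section _ (e.inv.app (op ⦋n + 1⦌)).left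
    (congrArg CommaMorphism.left (e.inv_hom_id_app (op ⦋n + 1⦌)))

end over

end Groth.Agent.Desc45
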