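import Groth.Agent.SpSeq49.Double

/-!
Double complexes with exact rows: the total complex computes the complex of row cocycles in column zero.
-/

set_option autoImplicit false
universe u

open CategoryTheory Limits

namespace Groth.Agent.Desc45

open Groth.Agent.SpSeq49

variable (M : DC.{u})

/-- Rows are exact in positive degrees. -/
def RowExact : Prop := ∀ (p q : ℕ) (x : M.Φ (p + 1) q), M.h (p + 1) q x = 0 → ∃ y, M.h p q y = x

theorem tr_univ (y : M.Fam) : M.tr Set.univ y = y :=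
  funext fun p => funext fun q => M.tr_pos y (Set.mem_univ p) q

theorem Dt_mem {m : ℤ} {y : M.Fam} (hy : y ∈ M.Supp Set.univ m) : M.Dt y ∈ M.Supp Set.univ (m + 1) :=
  tr_univ M (M.Dt y) ▸ M.D_mem hy

theorem single_mem_univ {p q : ℕ} {m : ℤ} (h : (p : ℤ) + q = m) (x : M.Φ p q) :
    M.single p q x ∈ M.Supp Set.univ m := fun a b hab =>
  M.single_mem p q x a b fun h' => hab ⟨Set.mem_univ a, h'.2.trans h⟩

theorem single_ne_col {p q a : ℕ} (h : a ≠ p) (b : ℕ) (x : M.Φ p q) : M.single p q x a b = 0 := by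
  simp [DC.single, h]

theorem single_ne_row {p q b : ℕ} (h : b ≠ q) (x : M.Φ p q) : M.single p q x p b = 0 := by
  simp [DC.single, h]

variable {M}

theorem exists_drop (hr : RowExact M) {m : ℤ} {y : M.Fam} (hy : y ∈ M.Supp Set.univ m) {k : ℕ}
    (hhigh : ∀ p q, k + 1 < p → y p q = 0) (hD : ∀ q, M.Dt y (k + 2) q = 0) :
    ∃ u ∈ M.Supp Set.univ (m - 1), ∀ p q, k < p → (y - M.Dt u) p q = 0 := by
  by_cases hex : ∃ q : ℕ, ((k + 1 : ℕ) : ℤ) + q = m
  swap
  · refine ⟨0, zero_mem _, fun p q hp => ?_⟩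
    rw [map_zero, sub_zero]
    rcases Nat.lt_or_eq_of_le (Nat.succ_le_of_lt hp) with h | h
    · exact hhigh p q h
    · subst h
      exact hy _ q fun h' => hex ⟨q, h'.2⟩
  obtain ⟨q, hq⟩ := hex
  have h0 : M.h (k + 1) q (y (k + 1) q) = 0 := by
    have e : DC.sgn (k + 2) • M.vIn y (k + 2) q + M.h (k + 1) q (y (k + 1) q) = 0 :=
      (M.Dt_apply y (k + 2) q).symm.trans (hD q)
    have : M.vIn y (k + 2) q = 0 := by
      rcases q with _ | q
      · rfl
      · exact (congrArg (M.v (k + 2) q) (hhigh (k + 2) q (by omega))).trans (map_zero _)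
    rwa [this, smul_zero, zero_add] at e
  obtain ⟨z, hz⟩ := hr k q _ h0
  refine ⟨M.single k q z, single_mem_univ M (by push_cast at hq; omega) z, fun p b hp => ?_⟩
  change y p b - M.Dt (M.single k q z) p b = 0
  rw [sub_eq_zero, DC.Dt_apply]
  have h1 : M.vIn (M.single k q z) p b = 0 := by
    rcases b with _ | b
    · rfl
    · exact (congrArg (M.v p b) (single_ne_col M (by omega) b z)).trans (map_zero _)
  rw [h1, smul_zero, zero_add]
  obtain ⟨p, rfl⟩ : ∃ p', p = p' + 1 := ⟨p - 1, by omega⟩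
  change y (p + 1) b = M.h p b (M.single k q z p b)
  rcases Nat.lt_or_eq_of_le (show k ≤ p by omega) with h | h
  · rw [hhigh (p + 1) b (by omega), single_ne_col M (by omega) b z, map_zero]
  · subst h
    rcases eq_or_ne b q with rfl | hb
    · rw [M.single_same]
      exact hz.symm
    · rw [hy (k + 1) b (fun h' => hb (by have := h'.2; omega)), single_ne_row M hb z, map_zero]

theorem exists_col_zero (hr : RowExact M) {m : ℤ} :
    ∀ (k : ℕ) (y : M.Fam), y ∈ M.Supp Set.univ m → (∀ p q, k < p → y p q = 0) →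
      (∀ p q, 1 < p → M.Dt y p q = 0) →
      ∃ u ∈ M.Supp Set.univ (m - 1), ∀ p q, 0 < p → (y - M.Dt u) p q = 0 := by
  intro k
  induction k with
  | zero =>
    intro y _ hhigh _
    exact ⟨0, zero_mem _, fun p q hp => by rw [map_zero, sub_zero]; exact hhigh p q hp⟩
  | succ k ih =>
    intro y hy hhigh hD
    obtain ⟨u, hu, hu'⟩ := exists_drop hr hy hhigh (fun q => hD (k + 2) q (by omega))
    have hmem : y - M.Dt u ∈ M.Supp Set.univ m := by
      have := Dt_mem M hu
      rw [sub_add_cancel] at this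
      exact sub_mem hy this
    obtain ⟨u', hu₁, hu₂⟩ := ih (y - M.Dt u) hmem hu' fun p q hp => by
      rw [map_sub, DC.Dt_Dt, sub_zero]
      exact hD p q hp
    refine ⟨u + u', add_mem hu hu₁, fun p q hp => ?_⟩
    rw [map_add, ← sub_sub]
    exact hu₂ p q hp

theorem high_of_mem {n : ℕ} {y : M.Fam} (hy : y ∈ M.Supp Set.univ (n : ℤ)) (p q : ℕ) (hp : n < p) :
    y p q = 0 :=
  hy p q fun h => by have := h.2; omega

theorem eq_single {n : ℕ} {y : M.Fam} (hy : y ∈ M.Supp Set.univ (n : ℤ))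
    (hcol : ∀ p q, 0 < p → y p q = 0) : y = M.single 0 n (y 0 n) := by
  funext p q
  rcases p with _ | p
  · rcases eq_or_ne q n with rfl | hq
    · rw [M.single_same]
    · rw [single_ne_row M hq, hy 0 q fun h => hq (by have := h.2; omega)]
  · rw [single_ne_col M (by omega), hcol (p + 1) q (by omega)]

theorem Dt_single_zero {n : ℕ} (x : M.Φ 0 n) (hh : M.h 0 n x = 0) :
    M.Dt (M.single 0 n x) = M.single 0 (n + 1) (M.v 0 n x) := by
  funext p q
  rw [DC.Dt_apply]
  rcases p with _ | p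
  · rw [show M.hIn (M.single 0 n x) 0 q = 0 from rfl, add_zero]
    rw [show DC.sgn 0 = 1 from pow_zero _, one_smul]
    rcases q with _ | q
    · exact (single_ne_row M (by omega) _).symm
    · change M.v 0 q (M.single 0 n x 0 q) = _
      rcases eq_or_ne q n with rfl | hq
      · rw [M.single_same, M.single_same]
      · rw [single_ne_row M hq, single_ne_row M (by omega : q + 1 ≠ n + 1), map_zero]
  · have h1 : M.vIn (M.single 0 n x) (p + 1) q = 0 := by
      rcases q with _ | q
      · rfl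
      · exact (congrArg (M.v (p + 1) q) (single_ne_col M (by omega) q x)).trans (map_zero _)
    rw [h1, smul_zero, zero_add, single_ne_col M (by omega)]
    change M.h p q (M.single 0 n x p q) = 0
    rcases p with _ | p
    · rcases eq_or_ne q n with rfl | hq
      · rw [M.single_same]
        exact hh
      · rw [single_ne_row M hq, map_zero]
    · rw [single_ne_col M (by omega), map_zero]

/-- The cocycles in column zero. -/
def rowCycles (M : DC.{u}) (n : ℕ) : AddSubgroup (M.Φ 0 n) := (M.v 0 n).ker ⊓ (M.h 0 n).ker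

theorem mem_rowCycles {n : ℕ} {y : M.Fam} (hy : y ∈ M.Supp Set.univ (n : ℤ))
    (hcol : ∀ p q, 0 < p → y p q = 0) (hD : M.Dt y = 0) : y 0 n ∈ rowCycles M n := by
  have hh : M.h 0 n (y 0 n) = 0 := by
    have e : DC.sgn 1 • M.vIn y 1 n + M.h 0 n (y 0 n) = 0 :=
      (M.Dt_apply y 1 n).symm.trans (congrFun (congrFun hD 1) n)
    have h1 : M.vIn y 1 n = 0 := by
      rcases n with _ | n
      · rfl
      · exact (congrArg (M.v 1 n) (hcol 1 n one_pos)).trans (map_zero _)
    rwa [h1, smul_zero, zero_add] at e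
  refine ⟨?_, hh⟩
  have e := congrFun (congrFun hD 0) (n + 1)
  rw [eq_single hy hcol, Dt_single_zero _ hh, M.single_same] at e
  exact e

theorem exists_rep (hr : RowExact M) {n : ℕ} {y : M.Fam} (hy : y ∈ M.Supp Set.univ (n : ℤ))
    (hD : M.Dt y = 0) :
    ∃ x : rowCycles M n, ∃ u ∈ M.Supp Set.univ ((n : ℤ) - 1), y = M.single 0 n x.1 + M.Dt u := by
  obtain ⟨u, hu, hcol⟩ := exists_col_zero hr n y hy (high_of_mem hy)
    (fun p q _ => congrFun (congrFun hD p) q)
  have hmem : y - M.Dt u ∈ M.Supp Set.univ (n : ℤ) := by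
    have := Dt_mem M hu
    rw [sub_add_cancel] at this
    exact sub_mem hy this
  refine ⟨⟨_, mem_rowCycles hmem hcol (by rw [map_sub, DC.Dt_Dt, sub_zero, hD])⟩, u, hu, ?_⟩
  exact sub_eq_iff_eq_add.1 (eq_single hmem hcol)

theorem boundary_of_Dt (hr : RowExact M) {n : ℕ} (x : rowCycles M n) {u : M.Fam}
    (hu : u ∈ M.Supp Set.univ ((n : ℤ) - 1)) (e : M.single 0 n x.1 = M.Dt u) :
    (n = 0 ∧ (x : M.Φ 0 n) = 0) ∨ ∃ q, ∃ he : q + 1 = n, ∃ y : M.Φ 0 q,
      M.h 0 q y = 0 ∧ he ▸ M.v 0 q y = (x : M.Φ 0 n) := by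
  rcases n with _ | m
  · refine Or.inl ⟨rfl, ?_⟩
    have h0 : u = 0 := funext fun p => funext fun q => hu p q fun h => by have := h.2; omega
    rw [h0, map_zero] at e
    exact (M.single_same 0 0 x.1).symm.trans (congrFun (congrFun e 0) 0)
  · have hu' : u ∈ M.Supp Set.univ (m : ℤ) := fun p q h => hu p q fun h' => h ⟨h'.1, by
      have := h'.2; push_cast at this; omega⟩
    obtain ⟨w, hw, hcol⟩ := exists_col_zero hr m u hu' (high_of_mem hu') fun p q hp => by
      rw [← e]
      exact single_ne_col M (by omega) q _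
    have hmem : u - M.Dt w ∈ M.Supp Set.univ (m : ℤ) := by
      have := Dt_mem M hw
      rw [sub_add_cancel] at this
      exact sub_mem hu' this
    have hDu : M.Dt (u - M.Dt w) = M.single 0 (m + 1) x.1 := by rw [map_sub, DC.Dt_Dt, sub_zero, e]
    have hh : M.h 0 m ((u - M.Dt w) 0 m) = 0 := by
      have e1 : DC.sgn 1 • M.vIn (u - M.Dt w) 1 m + M.h 0 m ((u - M.Dt w) 0 m) = 0 :=
        (M.Dt_apply _ 1 m).symm.trans ((congrFun (congrFun hDu 1) m).trans
          (single_ne_col M (by omega) m _))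
      have h1 : M.vIn (u - M.Dt w) 1 m = 0 := by
        rcases m with _ | m
        · rfl
        · exact (congrArg (M.v 1 m) (hcol 1 m one_pos)).trans (map_zero _)
      rwa [h1, smul_zero, zero_add] at e1
    refine Or.inr ⟨m, rfl, _, hh, ?_⟩
    rw [eq_single hmem hcol, Dt_single_zero _ hh] at hDu
    have := congrFun (congrFun hDu 0) (m + 1)
    rwa [M.single_same, M.single_same] at this

theorem Dt_eq_zero_of_mem {n : ℕ} (x : rowCycles M n) : M.Dt (M.single 0 n x.1) = 0 := by
  rw [Dt_single_zero _ x.2.2, show M.v 0 n x.1 = 0 from x.2.1, map_zero]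

variable (M) in
/-- The homology of the total complex from a description of row cocycles modulo boundaries. -/
theorem nonempty_tot_iso_of_rows (hr : RowExact M) (n : ℕ) {A : AddCommGrpCat.{u}}
    (θ : rowCycles M n →+ A) (hθ : Function.Surjective θ)
    (hker : ∀ x, θ x = 0 ↔ ((n = 0 ∧ (x : M.Φ 0 n) = 0) ∨ ∃ q, ∃ he : q + 1 = n, ∃ y : M.Φ 0 q,
      M.h 0 q y = 0 ∧ he ▸ M.v 0 q y = (x : M.Φ 0 n))) :
    Nonempty ((M.tot Set.univ).homology (n : ℤ) ≅ A) := by
  have hD : ∀ y : ((M.tot Set.univ).d (n : ℤ) ((n : ℤ) + 1)).hom.ker,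
      M.Dt (y.1 : M.Supp Set.univ (n : ℤ)).1 = 0 := fun y =>
    (tr_univ M _).symm.trans ((M.tot_d_apply Set.univ _ _ rfl y.1).symm.trans
      (congrArg (fun w => M.elt w) y.2))
  choose rep u hu hrep using fun y => exists_rep hr (y.1 : M.Supp Set.univ (n : ℤ)).2 (hD y)
  have hb : ∀ (x : rowCycles M n) (w : M.Fam), w ∈ M.Supp Set.univ ((n : ℤ) - 1) →
      M.single 0 n x.1 = M.Dt w → θ x = 0 := fun x w hw e => (hker x).2 (boundary_of_Dt hr x hw e)
  have uniq : ∀ (y) (x : rowCycles M n) (w : M.Fam), w ∈ M.Supp Set.univ ((n : ℤ) - 1) →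
      (y : M.Supp Set.univ (n : ℤ)).1 = M.single 0 n x.1 + M.Dt w →
      ∀ h, θ (rep ⟨y, h⟩) = θ x := fun y x w hw e h => by
    rw [← sub_eq_zero, ← map_sub]
    refine hb _ (w - u ⟨y, h⟩) (sub_mem hw (hu _)) ?_
    have e1 := hrep ⟨y, h⟩
    rw [e] at e1
    change M.single 0 n ((rep ⟨y, h⟩).1 - x.1) = _
    rw [map_sub, map_sub, sub_eq_sub_iff_add_eq_add, ← e1, add_comm]
  let φ : ((M.tot Set.univ).d (n : ℤ) ((n : ℤ) + 1)).hom.ker →+ A :=
    AddMonoidHom.mk' (fun y => θ (rep y)) fun a b => by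
      rw [← map_add]
      refine uniq _ _ (u a + u b) (add_mem (hu a) (hu b)) ?_ _
      change (a.1 : M.Supp Set.univ (n : ℤ)).1 + (b.1 : M.Supp Set.univ (n : ℤ)).1 = _
      rw [hrep a, hrep b, AddSubgroup.coe_add, map_add, map_add]
      abel
  refine nonempty_homology_iso_of_surj (i := (n : ℤ) - 1) (by omega) rfl φ ?_ fun y => ?_
  · intro a
    obtain ⟨x, rfl⟩ := hθ a
    let y : M.Supp Set.univ (n : ℤ) := ⟨M.single 0 n x.1, single_mem_univ M (by simp) _⟩
    refine ⟨⟨y, Subtype.ext ((M.tot_d_apply Set.univ _ _ rfl y).trans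
      ((tr_univ M _).trans (Dt_eq_zero_of_mem x)))⟩, ?_⟩
    exact uniq y x 0 (zero_mem _) (by rw [map_zero, add_zero]) _
  · constructor
    · intro h
      rcases (hker (rep y)).1 h with ⟨rfl, h0⟩ | ⟨q, rfl, z, hz0, hz⟩
      · refine ⟨(⟨u y, hu y⟩ : M.Supp Set.univ _), Subtype.ext
          ((M.tot_d_apply Set.univ _ _ (by omega) _).trans ((tr_univ M _).trans ?_))⟩
        rw [hrep y, h0, map_zero, zero_add]
        rfl
      · refine ⟨(⟨u y + M.single 0 q z, add_mem (hu y) (single_mem_univ M (by push_cast; omega) z)⟩ :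
          M.Supp Set.univ _), Subtype.ext
          ((M.tot_d_apply Set.univ _ _ (by omega) _).trans ((tr_univ M _).trans ?_))⟩
        rw [hrep y]
        change M.Dt (u y + M.single 0 q z) = _
        rw [map_add, Dt_single_zero z hz0, show M.v 0 q z = _ from hz, add_comm]
    · rintro ⟨w, hw⟩
      have e : M.Dt (M.elt w) = (y.1 : M.Supp Set.univ (n : ℤ)).1 :=
        (tr_univ M _).symm.trans ((M.tot_d_apply Set.univ _ _ (by omega) w).symm.trans
          (congrArg (fun r => M.elt r) hw))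
      refine hb _ (M.elt w - u y)
        (sub_mem (show M.Supp Set.univ ((n : ℤ) - 1) from w).2 (hu y)) ?_
      rw [map_sub, e, hrep y, add_sub_cancel_right]

end Groth.Agent.Desc45
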