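import Groth.Agent.Desc45.ProperModel
import Groth.Agent.Desc45.Graded
import Groth.Agent.TopCoh49.Basic2

/-!
The graded class of sheaves on a simplicial space with flasque low levels and exact low cochains, and
transfer of descent along morphisms of diagrams into a simplicial space.
-/

set_option autoImplicit false
set_option linter.unusedVariables false
set_option backward.isDefEq.respectTransparency false
set_option backward.isDefEq.respectTransparency.types false
universe u

open CategoryTheory CategoryTheory.Limits Opposite TopologicalSpace Simplicial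

namespace Groth.Agent.Desc45

attribute [local instance] HasDerivedCategory.standard
attribute [local instance] comp_preservesFiniteLimits comp_preservesFiniteColimits

theorem lev_sections_exact {I : Type} [SmallCategory I] {Y : I ⥤ TopCat.{u}}
    {T : ShortComplex (Sh Y)} (hT : T.ShortExact) (a : Tot Y) :
    Function.Injective (T.f.hom.app (op a)) ∧
      ∀ x, T.g.hom.app (op a) x = 0 → ∃ y, T.f.hom.app (op a) y = x := by
  obtain ⟨i, U⟩ := a
  have hadd : (lev Y i).Additive := inferInstance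
  have h := shortExact_lev i hT
  refine ⟨?_, fun x hx => TopCat.Sheaf.sections_exact_of_left_exact h.exact h.mono_f x hx⟩
  have hm : Mono ((lev Y i).map T.f) := h.mono_f
  have h' : Mono ((lev Y i).map T.f).hom := @Functor.map_mono _ _ _ _
    (sheafToPresheaf (Opens.grothendieckTopology (Y.obj i)) AddCommGrpCat.{u}) _ _ _ _ hm
  exact (AddCommGrpCat.mono_iff_injective (((lev Y i).map T.f).hom.app (op U))).1
    ((NatTrans.mono_iff_mono_app _).1 h' (op U))

theorem lev_sections_surjective {I : Type} [SmallCategory I] {Y : I ⥤ TopCat.{u}}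
    {T : ShortComplex (Sh Y)} (hT : T.ShortExact) (a : Tot Y)
    (h : TopCat.Sheaf.IsFlasque ((lev Y a.base).obj T.X₁)) :
    Function.Surjective (T.g.hom.app (op a)) := by
  obtain ⟨i, U⟩ := a
  have hadd : (lev Y i).Additive := inferInstance
  have hS := shortExact_lev i hT
  have := @TopCat.Sheaf.IsFlasque.epi_of_shortExact _ U _ hS h
  exact (AddCommGrpCat.epi_iff_surjective _).1 this

section cls

variable {S : TopCat.{u}} {C : SimplexCategoryᵒᵖ ⥤ TopCat.{u}} (ε : ∀ n, C.obj n ⟶ S)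
  (w : ∀ {n m : SimplexCategoryᵒᵖ} (φ : n ⟶ m), C.map φ ≫ ε m = ε n)

/-- Flasque levels up to `k` and exact cochains in degrees `1, …, k`. -/
def PDeg (k : ℕ) (F : Sh C) : Prop :=
  (∀ p, p ≤ k → TopCat.Sheaf.IsFlasque ((lev C (op ⦋p⦌)).obj F)) ∧
    ∀ (U : Opens S) (n : ℕ), n < k → ∀ x : F.obj.obj (op ((over ε w U) _⦋n + 1⦌)),
      cod (over ε w U) F.obj (n + 1) x = 0 → ∃ y, cod (over ε w U) F.obj n y = x

/-- The graded class. -/
noncomputable def simpClass : GradedClass (R (augMap ε w)) where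
  P := PDeg ε w
  antitone {j k} h F hF := ⟨fun p hp => hF.1 p (hp.trans h), fun U n hn => hF.2 U n (hn.trans_le h)⟩
  of_isZero k F hF := by
    have h0 : ∀ a (x : F.obj.obj a), x = 0 := fun a x =>
      ConcreteCategory.congr_hom (NatTrans.congr_app
        (congrArg (fun q => q.hom) ((IsZero.iff_id_eq_zero _).1 hF)) a) x
    refine ⟨fun p hp => ⟨fun {U V} i => (AddCommGrpCat.epi_iff_surjective _).2
      fun x => ⟨0, (map_zero _).trans (h0 _ x).symm⟩⟩, fun U n hn x _ => ⟨0, ?_⟩⟩
    exact (map_zero _).trans (h0 _ x).symm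
  of_injective k F hF := ⟨fun p _ => isFlasque_lev _ F,
    fun U n _ => exC_of_injective ε w U F n⟩
  X₂ k {T} hT h₁ h₃ := by
    have hadd : ∀ i, (lev C i).Additive := fun i => inferInstance
    refine ⟨fun p hp => ?_, fun U n hn x hx => ?_⟩
    · exact TopCoh49.isFlasque_of_shortExact_outer (shortExact_lev (op ⦋p⦌) hT)
        (h₁ := h₁.1 p hp) (h₃ := h₃.1 p hp)
    · obtain ⟨c', hc'⟩ := h₃.2 U n hn (T.g.hom.app _ x) (by rw [cod_nat, hx, map_zero])
      obtain ⟨b', rfl⟩ := lev_sections_surjective hT ((over ε w U) _⦋n⦌) (h₁.1 n hn.le) c'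
      rw [cod_nat] at hc'
      obtain ⟨a, ha⟩ := (lev_sections_exact hT _).2 (x - cod (over ε w U) T.X₂.obj n b')
        (by rw [map_sub, hc', sub_self])
      have ha0 : cod (over ε w U) T.X₁.obj (n + 1) a = 0 := by
        refine (lev_sections_exact hT _).1 ?_
        rw [← cod_nat, ha, map_sub, hx, cod_cod, sub_zero, map_zero]
      obtain ⟨a', rfl⟩ := h₁.2 U n hn a ha0
      refine ⟨b' + T.f.hom.app _ a', ?_⟩
      rw [map_add, cod_nat, ha, add_sub_cancel]
  X₃ k {T} hT h₁ h₂ := by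
    have hadd : ∀ i, (lev C i).Additive := fun i => inferInstance
    refine ⟨fun p hp => ?_, fun U n hn c hc => ?_⟩
    · exact @TopCat.Sheaf.IsFlasque.of_shortExact_of_isFlasque₁₂ _ _ (shortExact_lev (op ⦋p⦌) hT)
        (h₁.1 p (hp.trans (k.le_succ))) (h₂.1 p hp)
    · obtain ⟨b, rfl⟩ := lev_sections_surjective hT ((over ε w U) _⦋n + 1⦌) (h₁.1 (n + 1) (by lia)) c
      rw [cod_nat] at hc
      obtain ⟨a, ha⟩ := (lev_sections_exact hT _).2 _ hc
      have ha0 : cod (over ε w U) T.X₁.obj (n + 1 + 1) a = 0 := by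
        refine (lev_sections_exact hT _).1 ?_
        rw [← cod_nat, ha, cod_cod, map_zero]
      obtain ⟨a', rfl⟩ := h₁.2 U (n + 1) (by lia) a ha0
      obtain ⟨y, hy⟩ := h₂.2 U n hn (b - T.f.hom.app _ a') (by rw [map_sub, cod_nat, ha, sub_self])
      refine ⟨T.g.hom.app _ y, ?_⟩
      rw [cod_nat, hy, map_sub]
      have : T.g.hom.app (op ((over ε w U) _⦋n + 1⦌)) (T.f.hom.app _ a') = 0 :=
        ConcreteCategory.congr_hom (NatTrans.congr_app (congrArg (fun q => q.hom) T.zero) _) a'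
      rw [this, sub_zero]
  epi {T} hT h₁ := by
    suffices h : ∀ a, Function.Surjective (((R (augMap ε w)).map T.g).hom.app a) by
      have : Epi ((R (augMap ε w)).map T.g).hom :=
        @NatTrans.epi_of_epi_app _ _ _ _ _ _ _ fun a => (AddCommGrpCat.epi_iff_surjective _).2 (h a)
      exact (sheafToPresheaf _ _).epi_of_epi_map
        (show Epi ((sheafToPresheaf _ _).map _) from this)
    intro a
    obtain ⟨⟨⟨⟨⟩⟩, U⟩⟩ := a
    intro (y : famGroup (augMap ε w) T.X₃ _)
    obtain ⟨z₀, hz₀⟩ :=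
      lev_sections_surjective hT ((over ε w U) _⦋0⦌) (h₁.1 0 (by lia))
        (y.1 (op ⦋0⦌) (𝟙 _))
    have hd : T.g.hom.app _ (cod (over ε w U) T.X₂.obj 0 z₀) = 0 :=
      ((cod_nat (over ε w U) T.g.hom 0 z₀).symm.trans (congrArg (cod (over ε w U) T.X₃.obj 0) hz₀)).trans
        (cod_family ε y)
    obtain ⟨a, ha⟩ := (lev_sections_exact hT _).2 _ hd
    have ha0 : cod (over ε w U) T.X₁.obj 1 a = 0 := by
      refine (lev_sections_exact hT _).1 ?_
      rw [← cod_nat, ha, cod_cod, map_zero]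
    obtain ⟨a', rfl⟩ := h₁.2 U 0 (by lia) a ha0
    obtain ⟨x, hx⟩ := exists_family ε w U
      T.X₂ (z₀ - T.f.hom.app _ a') (by rw [map_sub, cod_nat, ha, sub_self])
    let gx : famGroup (augMap ε w) T.X₃ (⟨⟨PUnit.unit⟩, U⟩ : Tot (pt S)) :=
      ((R (augMap ε w)).map T.g).hom.app _ x
    refine ⟨x, (sub_eq_zero.1 (family_eq_zero (ε := ε) (gx - y) ?_) : gx = y)⟩
    change T.g.hom.app _ (x.1 (op ⦋0⦌) (𝟙 _)) - y.1 (op ⦋0⦌) (𝟙 _) = 0
    refine sub_eq_zero.2 ((congrArg (T.g.hom.app _) hx).trans ((map_sub _ _ _).trans ?_))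
    have h0 : T.g.hom.app _ (T.f.hom.app (op ((over ε w U) _⦋0⦌)) a') = 0 :=
      ConcreteCategory.congr_hom (NatTrans.congr_app (congrArg (fun q => q.hom) T.zero) _) a'
    exact (congrArg (T.g.hom.app (op ((over ε w U) _⦋0⦌)) z₀ - ·) h0).trans ((sub_zero _).trans hz₀)

end cls

section transfer

variable {S : TopCat.{u}} {C : SimplexCategoryᵒᵖ ⥤ TopCat.{u}} (ε : ∀ n, C.obj n ⟶ S)
  (w : ∀ {n m : SimplexCategoryᵒᵖ} (φ : n ⟶ m), C.map φ ≫ ε m = ε n)
  {I : Type} [SmallCategory I] {X : I ⥤ TopCat.{u}} {a : DMap X (pt S)} {M : DMap C X}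
  (c : Cell (a.comp M) (augMap ε w))

/-- The comparison of direct images. -/
noncomputable def cmpApp (F : Sh X) : (R a).obj F ⟶ (R (augMap ε w)).obj ((L M).obj F) :=
  toR (c.map ((ev a F).comp (unit M F)))

theorem ev_pull_cmpApp (F : Sh X) :
    (ev (augMap ε w) ((L M).obj F)).pull (cmpApp ε w c F) = c.map ((ev a F).comp (unit M F)) :=
  ev_pull_toR _

/-- The comparison, naturally. -/
noncomputable def cmpNat : R a ⟶ L M ⋙ R (augMap ε w) where
  app F := cmpApp ε w c F
  naturality {F F'} h := by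
    refine (mmapEquiv (augMap ε w) _ _).symm.injective ?_
    change (ev (augMap ε w) _).pull ((R a).map h ≫ cmpApp ε w c F') =
      (ev (augMap ε w) _).pull (cmpApp ε w c F ≫ (R (augMap ε w)).map ((L M).map h))
    change ((ev (augMap ε w) _).pull (cmpApp ε w c F')).pull ((R a).map h) =
      ((ev (augMap ε w) _).pull ((R (augMap ε w)).map ((L M).map h))).pull (cmpApp ε w c F)
    rw [ev_pull_cmpApp, ← ev_push, ← c.map_pull]
    change _ = ((ev (augMap ε w) _).pull (cmpApp ε w c F)).push ((L M).map h)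
    rw [ev_pull_cmpApp, ← c.map_push]
    congr 1
    rw [MMap.comp_push, ← unit_nat]
    change ((ev a F').pull ((R a).map h)).comp (unit M F') = _
    rw [← ev_push]
    rfl

theorem isIso_cmp_transpose [IsIso c.t] (G : Sh (pt S)) :
    IsIso (((adj (augMap ε w)).homEquiv _ _).symm
      ((adj a).unit.app G ≫ cmpApp ε w c ((L a).obj G))) := by
  let h := (adj a).unit.app G ≫ cmpApp ε w c ((L a).obj G)
  let θ : MMap (augMap ε w) G ((L M).obj ((L a).obj G)) := (ev (augMap ε w) _).pull h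
  have hθ : θ = c.map ((unit a G).comp (unit M ((L a).obj G))) := by
    calc θ = ((ev (augMap ε w) _).pull (cmpApp ε w c ((L a).obj G))).pull ((adj a).unit.app G) := rfl
      _ = (c.map ((ev a _).comp (unit M _))).pull ((adj a).unit.app G) := by rw [ev_pull_cmpApp]
      _ = c.map (((ev a _).pull ((adj a).unit.app G)).comp (unit M _)) := by
        rw [← c.map_pull]; rfl
      _ = _ := by rw [Square.unit_eq]
  have hU : θ.IsU := hθ ▸ c.map_isU ((unit_isU a G).comp (unit_isU M _))
  have := isIso_homEquiv_symm (augMap ε w) (L (augMap ε w)) (unit (augMap ε w))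
    (fun g => unit_nat (augMap ε w) g) (unit_isU (augMap ε w)) θ hU
  have e : mmapEquiv (augMap ε w) _ _ θ = h := (mmapEquiv (augMap ε w) _ _).apply_symm_apply h
  rw [e] at this
  exact this

variable {ε w}

theorem quasiIsoAt_tr_of_map [IsIso c.t] (ha : Desc a) (G : CochainComplex (Sh (pt S)) ℤ) (b : ℤ)
    [G.IsStrictlyGE b] (J' : CochainComplex (Sh C) ℤ) (b' : ℤ) [J'.IsStrictlyGE b']
    (hJ' : ∀ n, Injective (J'.X n)) (s' : (cx (L (augMap ε w))).obj G ⟶ J') (hs' : QuasiIso s')
    (N : ℕ) (hP : ∀ F : Sh X, Injective F → PDeg ε w N ((L M).obj F))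
    (hiso : ∀ F : Sh X, Injective F → IsIso (cmpApp ε w c F)) (n : ℤ)
    (hn : n + 2 ≤ min b b' + N) : QuasiIsoAt (tr (adj (augMap ε w)) s') n := by
  let a₀ := min b b'
  have : G.IsStrictlyGE a₀ := G.isStrictlyGE_of_ge a₀ b (min_le_left _ _)
  have : J'.IsStrictlyGE a₀ := J'.isStrictlyGE_of_ge a₀ b' (min_le_right _ _)
  have := isStrictlyGE_cx (L a) G a₀
  obtain ⟨J, hJb, -, s, hJ, hs⟩ := exists_res ((cx (L a)).obj G) a₀
  let A' := augMap ε w
  let θ : ∀ H : Sh (pt S), (L A').obj H ⟶ (L M).obj ((L a).obj H) := fun H =>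
    ((adj A').homEquiv _ _).symm ((adj a).unit.app H ≫ cmpApp ε w c ((L a).obj H))
  have hθ : ∀ {H H' : Sh (pt S)} (f : H ⟶ H'),
      (L A').map f ≫ θ H' = θ H ≫ (L M).map ((L a).map f) := by
    intro H H' f
    refine ((adj A').homEquiv_naturality_left_symm _ _).symm.trans
      (Eq.trans ?_ ((adj A').homEquiv_naturality_right_symm _ _))
    congr 1
    have e := (cmpNat ε w c).naturality ((L a).map f)
    change (R a).map ((L a).map f) ≫ cmpApp ε w c _ = cmpApp ε w c _ ≫ _ at e
    rw [Category.assoc, ← Category.assoc f]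
    erw [← e, ← Category.assoc]
    exact congrArg (· ≫ cmpApp ε w c _) ((adj a).unit.naturality f)
  let Θ : (cx (L A')).obj G ⟶ (cx (L M)).obj ((cx (L a)).obj G) :=
    { f := fun n => θ (G.X n)
      comm' := fun i j _ => (hθ (G.d i j)).symm }
  have : ∀ n, IsIso (Θ.f n) := fun n => isIso_cmp_transpose ε w c (G.X n)
  have : IsIso Θ := HomologicalComplex.Hom.isIso_of_components _
  have := isStrictlyGE_cx (L M) J a₀
  have : QuasiIso ((cx (L M)).map s) := inferInstance
  let σ := Θ ≫ (cx (L M)).map s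
  have hσ : QuasiIso σ := quasiIso_comp Θ _
  have : J'.IsKInjective := CochainComplex.isKInjective_of_injective J' a₀
  have : IsIso (DerivedCategory.Q.map σ) := inferInstance
  obtain ⟨ρ, hρ⟩ := Q_surj (inv (DerivedCategory.Q.map σ) ≫ DerivedCategory.Q.map s')
  have hρ' : DerivedCategory.Q.map (σ ≫ ρ) = DerivedCategory.Q.map s' := by
    rw [Functor.map_comp, hρ, IsIso.hom_inv_id_assoc]
  have hh := Q_eq hρ'
  have hqρ : QuasiIso ρ := by
    have : QuasiIso (σ ≫ ρ) := by
      rw [← DerivedCategory.isIso_Q_map_iff_quasiIso, hρ']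
      exact (DerivedCategory.isIso_Q_map_iff_quasiIso _ _).2 hs'
    exact quasiIso_of_comp_left σ ρ
  have : PreservesFiniteLimits (R A') :=
    ⟨fun K _ _ => (adj A').rightAdjoint_preservesLimits.preservesLimitsOfShape⟩
  have hR : QuasiIsoAt ((cx (R A')).map ρ) n :=
    (simpClass ε w).quasiIsoAt_map ρ a₀ N (fun m => hP _ (hJ m)) hJ' n hn
  let K' : (cx (R a)).obj J ⟶ (cx (R A')).obj ((cx (L M)).obj J) :=
    { f := fun n => cmpApp ε w c (J.X n)
      comm' := fun i j _ => ((cmpNat ε w c).naturality (J.d i j)).symm }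
  have : ∀ n, IsIso (K'.f n) := fun n => hiso _ (hJ n)
  have : IsIso K' := HomologicalComplex.Hom.isIso_of_components _
  have hq : QuasiIso (tr (adj a) s) := ha.uq G a₀ J a₀ hJ s hs
  have hK : QuasiIso (tr (adj a) s ≫ K') := quasiIso_comp _ _
  have e : tr (adj A') (σ ≫ ρ) = (tr (adj a) s ≫ K') ≫ (cx (R A')).map ρ := by
    refine HomologicalComplex.hom_ext _ _ fun m => ?_
    change (adj A').unit.app (G.X m) ≫ (R A').map ((θ (G.X m) ≫ (L M).map (s.f m)) ≫ ρ.f m) =
      (((adj a).unit.app (G.X m) ≫ (R a).map (s.f m)) ≫ cmpApp ε w c (J.X m)) ≫ (R A').map (ρ.f m)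
    rw [(R A').map_comp, ← Category.assoc]
    congr 1
    rw [(R A').map_comp, ← Category.assoc]
    have h1 : (adj A').unit.app (G.X m) ≫ (R A').map (θ (G.X m)) =
        (adj a).unit.app (G.X m) ≫ cmpApp ε w c ((L a).obj (G.X m)) :=
      ((adj A').homEquiv_unit _ _ _).symm.trans (((adj A').homEquiv _ _).apply_symm_apply _)
    rw [h1, Category.assoc, Category.assoc]
    exact congrArg ((adj a).unit.app (G.X m) ≫ ·) ((cmpNat ε w c).naturality (s.f m)).symm
  have h2 : QuasiIsoAt (tr (adj A') (σ ≫ ρ)) n := by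
    rw [e]
    have : QuasiIsoAt (tr (adj a) s ≫ K') n := hK.quasiIsoAt n
    exact quasiIsoAt_comp (tr (adj a) s ≫ K') ((cx (R A')).map ρ) n
  rw [quasiIsoAt_iff_isIso_homologyMap] at h2 ⊢
  rwa [← (HomotopyCategory.homotopyOfEq _ _ (tr_homotopic (adj A') hh)).homologyMap_eq n]

end transfer

end Groth.Agent.Desc45
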