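import Groth.Agent.Desc45.Hyper
import Groth.Agent.Desc45.RowExact
import Groth.Agent.Desc49.Descent
import Mathlib.CategoryTheory.Abelian.Injective.Extend

/-!
The descent spectral sequence of an augmented simplicial space of cohomological descent.
-/

set_option autoImplicit false
set_option linter.unusedVariables false
set_option synthInstance.maxHeartbeats 400000
set_option backward.isDefEq.respectTransparency false
set_option backward.isDefEq.respectTransparency.types false
universe u v₁ u₁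

open CategoryTheory CategoryTheory.Limits Opposite TopologicalSpace Simplicial
open Groth.Agent.SpSeq49 Groth.Agent.Desc49 Groth.Agent.TopCoh49

namespace Groth.Agent.Desc45

attribute [local instance] HasDerivedCategory.standard
attribute [local instance] comp_preservesFiniteLimits comp_preservesFiniteColimits

section generic

variable {X : TopCat.{u}}

theorem exists_preimage_near {T : ShortComplex (CohTop.Ab X)} (hT : T.Exact) (U : Opens X)
    (s : T.X₂.obj.obj (op U)) (hs : ap T.g U s = 0) (x : X) (hx : x ∈ U) :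
    ∃ (V : Opens X) (hV : V ≤ U) (t : T.X₁.obj.obj (op V)), x ∈ V ∧ ap T.f V t = rs T.X₂.obj hV s := by
  obtain ⟨t, ht⟩ := exists_lift_kernel T.g U s hs
  have : Epi (kernel.lift T.g T.f T.zero) := T.exact_iff_epi_kernel_lift.1 hT
  have h : Sheaf.IsLocallySurjective (kernel.lift T.g T.f T.zero) :=
    (Sheaf.isLocallySurjective_iff_epi' AddCommGrpCat.{u} _).2 this
  obtain ⟨V, i, ⟨r, hr⟩, hxV⟩ :=
    (TopCat.Presheaf.isLocallySurjective_iff (kernel.lift T.g T.f T.zero).hom).1 h U t x hx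
  refine ⟨V, i, r, hxV, ?_⟩
  rw [← ht, ← ap_rs]
  refine Eq.trans ?_ (congrArg (ap (kernel.ι T.g) V) hr)
  exact (congrArg (fun ρ => ap ρ V r) (kernel.lift_ι T.g T.f T.zero)).symm

variable {A : Type u₁} [Category.{v₁} A] [Abelian A] (Φ : A ⥤ CohTop.Ab X) [Φ.Additive]
  [Φ.PreservesHomology] {F0 : A} (J : CochainComplex A ℤ) [J.IsStrictlyGE 0]
  (t : (CochainComplex.singleFunctor A 0).obj F0 ⟶ J) [QuasiIso t]

/-- The zero cycles of a resolution. -/
noncomputable def cyclesIso : F0 ≅ J.cycles (0 : ℤ) :=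
  haveI := J.isIso_homologyπ (-1) 0 (by simp)
    ((CochainComplex.isZero_of_isStrictlyGE J 0 (-1) (by lia)).eq_of_src _ _)
  (HomologicalComplex.singleObjHomologySelfIso (ComplexShape.up ℤ) (0 : ℤ) F0).symm ≪≫
    asIso (HomologicalComplex.homologyMap t 0) ≪≫ (asIso (J.homologyπ 0)).symm

include t in
omit [J.IsStrictlyGE 0] in
theorem exactAt_succ (n : ℕ) : J.ExactAt ((n + 1 : ℕ) : ℤ) := by
  rw [← exactAt_iff_of_quasiIsoAt t]
  exact HomologicalComplex.exactAt_single_obj _ _ _ _ (by omega)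

include t in
/-- A flasque resolution from a resolution in an abelian category. -/
noncomputable def fresOfQis (hfl : ∀ n : ℕ, TopCat.Sheaf.IsFlasque (Φ.obj (J.X (n : ℤ)))) :
    FRes (Φ.obj F0) where
  K n := Φ.obj (J.X (n : ℤ))
  flasque := hfl
  d n := Φ.map (J.d (n : ℤ) ((n + 1 : ℕ) : ℤ))
  ε := Φ.map ((cyclesIso J t).hom ≫ J.iCycles 0)
  inj U := by
    have : Mono (Φ.map ((cyclesIso J t).hom ≫ J.iCycles 0)) := inferInstance
    exact ap_injective _ U
  ε_d U s := by
    refine (ap_comp _ _ U s).symm.trans ?_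
    have h : ((cyclesIso J t).hom ≫ J.iCycles 0) ≫ J.d (0 : ℤ) ((0 + 1 : ℕ) : ℤ) = 0 := by
      rw [Category.assoc, J.iCycles_d, comp_zero]
    refine (congrArg (fun ρ => ap ρ U s) ((Φ.map_comp _ _).symm.trans
      ((congrArg Φ.map h).trans (Φ.map_zero _ _)))).trans rfl
  d_d n U s := by
    refine (ap_comp _ _ U s).symm.trans ?_
    refine (congrArg (fun ρ => ap ρ U s) ((Φ.map_comp _ _).symm.trans
      ((congrArg Φ.map (J.d_comp_d _ _ _)).trans (Φ.map_zero _ _)))).trans rfl
  exact₀ U s hs x hx := by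
    let S : ShortComplex A := ShortComplex.mk ((cyclesIso J t).hom ≫ J.iCycles 0)
      (J.d (0 : ℤ) ((0 + 1 : ℕ) : ℤ)) (by rw [Category.assoc, J.iCycles_d, comp_zero])
    have hS : S.Exact := by
      let S' : ShortComplex A := ShortComplex.mk (J.iCycles 0)
        (J.d (0 : ℤ) ((0 + 1 : ℕ) : ℤ)) (J.iCycles_d _ _)
      have hS' : S'.Exact := S'.exact_of_f_is_kernel (J.cyclesIsKernel _ _ (by simp))
      let e : S' ≅ S := ShortComplex.isoMk (cyclesIso J t).symm (Iso.refl _)
        (Iso.refl _) (by simp [S, S']) (by simp [S, S'])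
      exact ShortComplex.exact_of_iso e hS'
    exact exists_preimage_near (hS.map Φ) U s hs x hx
  exactS n U s hs x hx := by
    have h : (J.sc' (n : ℤ) ((n + 1 : ℕ) : ℤ) ((n + 1 + 1 : ℕ) : ℤ)).Exact :=
      (J.exactAt_iff' _ _ _ (by simp) (by simp)).1 (exactAt_succ J t n)
    exact exists_preimage_near (h.map Φ) U s hs x hx

end generic

section simp

variable {S : TopCat.{u}} {C : SimplexCategoryᵒᵖ ⥤ TopCat.{u}} (ε : ∀ n, C.obj n ⟶ S)
  (w : ∀ {n m : SimplexCategoryᵒᵖ} (φ : n ⟶ m), C.map φ ≫ ε m = ε n)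

instance preservesHomology_lev (i : SimplexCategoryᵒᵖ) : (lev C i).PreservesHomology := by
  have : (lev C i).PreservesEpimorphisms := ⟨fun g _ => epi_lev i g⟩
  exact Functor.preservesHomology_of_preservesEpis_and_kernels (lev C i)

variable (J : CochainComplex (Sh C) ℤ)

/-- The double complex of sections of a complex of sheaves on a simplicial space. -/
noncomputable def simpDC : DC.{u} where
  Φ p q := (J.X (q : ℤ)).obj.obj (op ((over ε w ⊤) _⦋p⦌))
  v p q := ((J.d (q : ℤ) ((q + 1 : ℕ) : ℤ)).hom.app (op ((over ε w ⊤) _⦋p⦌))).hom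
  h p q := cod (over ε w ⊤) (J.X (q : ℤ)).obj p
  vv p q x := ConcreteCategory.congr_hom (NatTrans.congr_app
    (congrArg (fun r => r.hom) (J.d_comp_d (q : ℤ) ((q + 1 : ℕ) : ℤ) ((q + 1 + 1 : ℕ) : ℤ))) _) x
  hh p q x := cod_cod (over ε w ⊤) _ p x
  comm p q x := cod_nat (P := over ε w ⊤) (J.d (q : ℤ) ((q + 1 : ℕ) : ℤ)).hom p x

theorem rowExact_simpDC (hJ : ∀ n, Injective (J.X n)) : RowExact (simpDC ε w J) := fun p q x hx => by
  have := hJ (q : ℤ)
  exact exC_of_injective ε w ⊤ (J.X (q : ℤ)) p x hx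

/-- Global sections of the direct image. -/
noncomputable abbrev Ψ : Sh C ⥤ CohTop.Ab S := R (augMap ε w) ⋙ (ptEquiv S).functor

theorem nonempty_tot_iso_simp (hJ : ∀ n, Injective (J.X n)) {G : CohTop.Ab S} (R' : FRes G)
    (e : ∀ n : ℕ, (R'.K n).obj.obj (op (⊤ : Opens S)) ≃+
      famGroup (augMap ε w) (J.X (n : ℤ)) (⟨⟨PUnit.unit⟩, ⊤⟩ : Tot (pt S)))
    (he : ∀ (n : ℕ) x i g, (e (n + 1) (ap (R'.d n) ⊤ x)).1 i g =
      (J.d (n : ℤ) ((n + 1 : ℕ) : ℤ)).hom.app _ ((e n x).1 i g))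
    {A : AddCommGrpCat.{u}} (n : ℕ) (η : E G n (⊤ : Opens S) ≃+ A) :
    Nonempty (((simpDC ε w J).tot Set.univ).homology (n : ℤ) ≅ A) := by
  let val : ∀ m, (R'.K m).obj.obj (op (⊤ : Opens S)) →+ (simpDC ε w J).Φ 0 m := fun m =>
    AddMonoidHom.mk' (fun x => (e m x).1 (op ⦋0⦌) (𝟙 _)) fun a b => by
      rw [map_add]
      rfl
  have val_inj : ∀ m, Function.Injective (val m) := fun m =>
    (injective_iff_map_eq_zero _).2 fun x hx =>
      (e m).injective ((family_eq_zero (ε := ε) _ hx).trans (map_zero (e m)).symm)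
  have val_d : ∀ m x, val (m + 1) (ap (R'.d m) ⊤ x) = (simpDC ε w J).v 0 m (val m x) := fun m x =>
    he m x _ _
  have val_cod : ∀ m x, (simpDC ε w J).h 0 m (val m x) = 0 := fun m x =>
    cod_family (ε := ε) (e m x)
  have val_surj : ∀ m z, (simpDC ε w J).h 0 m z = 0 → ∃ x, val m x = z := fun m z hz => by
    obtain ⟨y, hy⟩ := exists_family ε w ⊤ (J.X (m : ℤ)) z hz
    exact ⟨(e m).symm y, (congrArg (fun r => r.1 (op ⦋0⦌) (𝟙 _)) ((e m).apply_symm_apply y)).trans hy⟩
  choose lift hlift using val_surj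
  let c : rowCycles (simpDC ε w J) n →+ R'.cyc ⊤ n :=
    { toFun := fun z => ⟨lift n z.1 z.2.2, val_inj (n + 1) (by
        rw [val_d, hlift, map_zero]
        exact z.2.1)⟩
      map_zero' := Subtype.ext (val_inj n ((hlift _ _ _).trans (map_zero (val n)).symm))
      map_add' := fun a b => Subtype.ext (val_inj n (by
        refine (hlift _ _ _).trans ?_
        change _ = val n (lift n a.1 _ + lift n b.1 _)
        rw [map_add, hlift, hlift]
        rfl)) }
  have hc : ∀ z, val n (c z).1 = z.1 := fun z => hlift _ _ _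
  refine nonempty_tot_iso_of_rows _ (rowExact_simpDC ε w J hJ) n
    (η.toAddMonoidHom.comp ((FRes.θ n R' ⊤).comp c)) ?_ fun z => ?_
  · intro a
    obtain ⟨x, hx⟩ := FRes.θ_surjective n R' ⊤ (η.symm a)
    refine ⟨⟨val n x.1, ?_, val_cod n x.1⟩, ?_⟩
    · exact (val_d n x.1).symm.trans ((congrArg (val (n + 1)) x.2).trans (map_zero _))
    · refine (congrArg η ((congrArg (FRes.θ n R' ⊤) (Subtype.ext ?_)).trans hx)).trans
        (η.apply_symm_apply a)
      exact val_inj n (hc _)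
  · refine (map_eq_zero_iff η η.injective).trans ?_
    rcases n with _ | m
    · refine (FRes.θ_zero_iff R' ⊤ (c z)).trans ⟨fun h => Or.inl ⟨rfl, ?_⟩, fun h => ?_⟩
      · rw [← hc z, h, map_zero]
      · rcases h with ⟨-, h0⟩ | ⟨q, hq, -⟩
        · exact val_inj 0 ((hc z).trans (h0.trans (map_zero (val 0)).symm))
        · omega
    · refine (FRes.θ_succ_eq_zero_iff m R' ⊤ (c z)).trans ⟨?_, ?_⟩
      · rintro ⟨y, hy⟩
        refine Or.inr ⟨m, rfl, val m y, val_cod m y, ?_⟩
        exact (val_d m y).symm.trans ((congrArg (val (m + 1)) hy).trans (hc z))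
      · rintro (⟨h, -⟩ | ⟨q, hq, y, hy0, hy⟩)
        · omega
        · obtain rfl : q = m := by omega
          refine ⟨lift q y hy0, val_inj (q + 1) ?_⟩
          rw [val_d, hlift, hc]
          exact hy

/-- A column of the double complex. -/
theorem nonempty_col_iso_simp {G : Sh C} (R₁ : ∀ p, FRes ((lev C (op ⦋p⦌)).obj G))
    (p q : ℕ) (e : ∀ m, (simpDC ε w J).Φ p m ≃+
      ((R₁ p).K m).obj.obj (op (((over ε w ⊤) _⦋p⦌).opn)))
    (he : ∀ m x, e (m + 1) ((simpDC ε w J).v p m x) =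
      ap ((R₁ p).d m) (((over ε w ⊤) _⦋p⦌).opn) (e m x))
    {A : AddCommGrpCat.{u}} (η : E ((lev C (op ⦋p⦌)).obj G) q (((over ε w ⊤) _⦋p⦌).opn) ≃+ A) :
    Nonempty (((simpDC ε w J).tot {p}).homology ((p : ℤ) + q) ≅ A) := by
  let θ : ((simpDC ε w J).v p q).ker →+ A :=
    η.toAddMonoidHom.comp ((FRes.θ q (R₁ p) _).comp
      { toFun := fun x => (⟨e q x.1, (he q x.1).symm.trans ((congrArg (e (q + 1)) x.2).trans
          (map_zero (e (q + 1))))⟩ : (R₁ p).cyc _ q)
        map_zero' := Subtype.ext (map_zero (e q))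
        map_add' := fun a b => Subtype.ext (map_add (e q) a.1 b.1) })
  refine (simpDC ε w J).nonempty_column_iso p q θ ?_ fun x => ?_
  · intro a
    obtain ⟨x, hx⟩ := FRes.θ_surjective q (R₁ p) _ (η.symm a)
    refine ⟨⟨(e q).symm x.1, (e (q + 1)).injective ?_⟩, ?_⟩
    · rw [he, AddEquiv.apply_symm_apply, map_zero]
      exact x.2
    · refine (congrArg η ((congrArg (FRes.θ q (R₁ p) _) (Subtype.ext ?_)).trans hx)).trans
        (η.apply_symm_apply a)
      exact (e q).apply_symm_apply x.1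
  · refine (map_eq_zero_iff η η.injective).trans ?_
    rcases q with _ | m
    · refine (FRes.θ_zero_iff (R₁ p) _ _).trans ⟨fun h => Or.inl ⟨rfl, ?_⟩, fun h => ?_⟩
      · exact (e 0).injective (h.trans (map_zero (e 0)).symm)
      · rcases h with ⟨-, h0⟩ | ⟨q', hq, -⟩
        · exact (congrArg (e 0) h0).trans (map_zero (e 0))
        · omega
    · refine (FRes.θ_succ_eq_zero_iff m (R₁ p) _ _).trans ⟨?_, ?_⟩
      · rintro ⟨y, hy⟩
        refine Or.inr ⟨m, rfl, (e m).symm y, (e (m + 1)).injective ?_⟩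
        rw [he, AddEquiv.apply_symm_apply]
        exact hy
      · rintro (⟨h, -⟩ | ⟨q', hq, y, hy⟩)
        · omega
        · obtain rfl : q' = m := by omega
          exact ⟨e q' y, (he q' y).symm.trans (congrArg (e (q' + 1)) hy)⟩

/-- The descent spectral sequence. -/
theorem exists_descent_of_desc (hd : Desc (augMap ε w)) (F : CohTop.Ab S) :
    ∃ (E : CohomologicalSpectralSequence AddCommGrpCat.{u} 1)
      (a : SpSeq.Abutment E (fun n : ℤ =>
        if 0 ≤ n then AddCommGrpCat.of (CohTop.H F n.toNat) else AddCommGrpCat.of PUnit.{u + 1})),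
      (∀ n, a.IsFinite n) ∧ SpSeq.IsBounded E ∧
      ∀ p q : ℤ, Nonempty ((E.page 1 le_rfl).X (p, q) ≅
        (if 0 ≤ p ∧ 0 ≤ q then
          AddCommGrpCat.of (CohTop.H ((CohTop.pull (ε (op ⦋p.toNat⦌))).obj F) q.toNat)
         else AddCommGrpCat.of PUnit.{u + 1})) := by
  have : (ptEquiv S).functor.Additive := Functor.additive_of_preserves_binary_products _
  let F0 := (ptEquiv S).inverse.obj F
  let G := (L (augMap ε w)).obj F0
  let Res := InjectiveResolution.of G
  let J := Res.cochainComplex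
  have hJ : ∀ n, Injective (J.X n) := fun n => inferInstanceAs (Injective (Res.cochainComplex.X n))
  let s : (cx (L (augMap ε w))).obj ((CochainComplex.singleFunctor (Sh (pt S)) 0).obj F0) ⟶ J :=
    (HomologicalComplex.singleMapHomologicalComplex (L (augMap ε w)) (ComplexShape.up ℤ) 0).hom.app F0 ≫
      Res.ι'
  have hs : QuasiIso s := by
    have : QuasiIso Res.ι' := inferInstance
    exact inferInstanceAs (QuasiIso (_ ≫ Res.ι'))
  let t := tr (adj (augMap ε w)) s
  have ht : QuasiIso t := hd.uq _ 0 J 0 hJ s hs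
  have hGE : ((cx (R (augMap ε w))).obj J).IsStrictlyGE 0 := isStrictlyGE_cx (R (augMap ε w)) J 0
  have hflS : ∀ n : ℕ, TopCat.Sheaf.IsFlasque
      ((ptEquiv S).functor.obj (((cx (R (augMap ε w))).obj J).X (n : ℤ))) := fun n => by
    have h1 : Injective ((R (augMap ε w)).obj (J.X (n : ℤ))) :=
      (adj (augMap ε w)).map_injective _ (hJ (n : ℤ))
    have h2 : Injective ((ptEquiv S).functor.obj ((R (augMap ε w)).obj (J.X (n : ℤ)))) :=
      (ptEquiv S).symm.toAdjunction.map_injective _ h1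
    exact @isFlasque_of_injective _ ((ptEquiv S).functor.obj ((R (augMap ε w)).obj (J.X (n : ℤ)))) h2
  let RS : FRes ((ptEquiv S).functor.obj F0) :=
    fresOfQis (ptEquiv S).functor ((cx (R (augMap ε w))).obj J) t hflS
  have : QuasiIso Res.ι' := inferInstance
  let R₁ : ∀ p, FRes ((lev C (op ⦋p⦌)).obj G) := fun p =>
    fresOfQis (lev C (op ⦋p⦌)) J Res.ι' fun n => by
      have := hJ (n : ℤ)
      exact isFlasque_lev _ _
  refine (simpDC ε w J).exists_spectralSequence (fun n => ?_)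
    (fun p q => AddCommGrpCat.of (CohTop.H ((CohTop.pull (ε (op ⦋p⦌))).obj F) q)) (fun p q => ?_)
    (fun pq => if 0 ≤ pq.1 ∧ 0 ≤ pq.2 then
      AddCommGrpCat.of (CohTop.H ((CohTop.pull (ε (op ⦋pq.1.toNat⦌))).obj F) pq.2.toNat)
     else AddCommGrpCat.of PUnit.{u + 1})
    (fun p q => ⟨eqToIso (if_pos ⟨Int.natCast_nonneg p, Int.natCast_nonneg q⟩).symm⟩)
    (fun p q h => ?_)
  · by_cases hn : 0 ≤ n
    · obtain ⟨m, rfl⟩ := Int.eq_ofNat_of_zero_le hn
      obtain ⟨e⟩ := nonempty_tot_iso_simp ε w J hJ RS (fun k => AddEquiv.refl _) (fun k x i g => rfl)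
        (A := AddCommGrpCat.of (CohTop.H F m)) m
        ((emapIso ((ptEquiv S).counitIso.app F) m ⊤).trans (HEquivTop F m).symm)
      exact ⟨e ≪≫ eqToIso (if_pos (Int.natCast_nonneg m)).symm⟩
    · rw [if_neg hn]
      refine ⟨(ShortComplex.isZero_homology_of_isZero_X₂ _
        ((simpDC ε w J).isZero_tot_X Set.univ n fun p _ => by omega)).iso ?_⟩
      exact AddCommGrpCat.isZero_of_subsingleton _
  · let θ := (unit (augMap ε w) F0).atLevel (augMap ε w) (op ⦋p⦌)
    have hiso : IsIso (transpose θ) :=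
      isIso_transpose θ (isU_atLevel (augMap ε w) (unit_isU _ F0) _)
    let i₁ : (CohTop.pull (ε (op ⦋p⦌))).obj F ≅ (lev C (op ⦋p⦌)).obj G :=
      (CohTop.pull (ε (op ⦋p⦌))).mapIso (((ptEquiv S).counitIso.app F).symm ≪≫
        ((ptEquiv S).counitIso.app ((ptEquiv S).functor.obj F0)).symm) ≪≫ @asIso _ _ _ _ (transpose θ) hiso ≪≫
        (ptEquiv _).counitIso.app ((lev C (op ⦋p⦌)).obj G)
    exact nonempty_col_iso_simp ε w J R₁ p q (fun m => AddEquiv.refl _) (fun m x => rfl)
      (((topEquiv (ε (op ⦋p⦌)) _ q).trans (emapIso i₁.symm q ⊤)).trans (HEquivTop _ q).symm)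
  · rw [if_neg (by omega)]
    exact AddCommGrpCat.isZero_of_subsingleton _

end simp

end Groth.Agent.Desc45
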