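import Groth.Agent.Desc45.SimpClass

/-!
A sectionwise criterion for transfer of descent into a simplicial space.
-/

set_option autoImplicit false
set_option linter.unusedVariables false
set_option backward.isDefEq.respectTransparency false
set_option backward.isDefEq.respectTransparency.types false
universe u

open CategoryTheory CategoryTheory.Limits Opposite TopologicalSpace Simplicial

namespace Groth.Agent.Desc45

attribute [local instance] HasDerivedCategory.standard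

section invariance

variable {S : TopCat.{u}} {C : SimplexCategoryᵒᵖ ⥤ TopCat.{u}} (ε : ∀ n, C.obj n ⟶ S)
  (w : ∀ {n m : SimplexCategoryᵒᵖ} (φ : n ⟶ m), C.map φ ≫ ε m = ε n)

theorem iso_sections_bijective {I : Type} [SmallCategory I] {Y : I ⥤ TopCat.{u}} {F G : Sh Y}
    (e : F ≅ G) (a : (Tot Y)ᵒᵖ) : Function.Bijective (e.hom.hom.app a) :=
  Function.bijective_iff_has_inverse.2 ⟨e.inv.hom.app a,
    fun x => ConcreteCategory.congr_hom (NatTrans.congr_app (congrArg (fun q => q.hom) e.hom_inv_id) a) x,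
    fun x => ConcreteCategory.congr_hom (NatTrans.congr_app (congrArg (fun q => q.hom) e.inv_hom_id) a) x⟩

theorem PDeg.of_iso {k : ℕ} {F G : Sh C} (e : F ≅ G) (h : PDeg ε w k F) : PDeg ε w k G := by
  refine ⟨fun p hp => ⟨fun {U V} i => (AddCommGrpCat.epi_iff_surjective _).2 fun x => ?_⟩,
    fun U n hn x hx => ?_⟩
  · let g := (lev C (op ⦋p⦌)).map e.hom
    obtain ⟨x', hx'⟩ := (iso_sections_bijective e _).2 x
    obtain ⟨y, hy⟩ := (AddCommGrpCat.epi_iff_surjective _).1 ((h.1 p hp).epi i) x'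
    refine ⟨g.hom.app U y, ?_⟩
    refine (ConcreteCategory.congr_hom (g.hom.naturality i) y).symm.trans ?_
    exact (congrArg (g.hom.app V) hy).trans hx'
  · obtain ⟨x', rfl⟩ := (iso_sections_bijective e _).2 x
    have hx' : cod (over ε w U) F.obj (n + 1) x' = 0 :=
      (iso_sections_bijective e _).1 ((cod_nat (over ε w U) e.hom.hom (n + 1) x').symm.trans
        (hx.trans (map_zero _).symm))
    obtain ⟨y, hy⟩ := h.2 U n hn x' hx'
    exact ⟨e.hom.hom.app _ y, (cod_nat _ _ _ _).trans (congrArg _ hy)⟩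

end invariance

section criterion

variable {S : TopCat.{u}} {C : SimplexCategoryᵒᵖ ⥤ TopCat.{u}} (ε : ∀ n, C.obj n ⟶ S)
  (w : ∀ {n m : SimplexCategoryᵒᵖ} (φ : n ⟶ m), C.map φ ≫ ε m = ε n)
  {I : Type} [SmallCategory I] {X : I ⥤ TopCat.{u}} {a : DMap X (pt S)} {M : DMap C X}
  (c : Cell (a.comp M) (augMap ε w))

include c in
theorem le_dom_zero (U : Opens S)
    (f₀ : a.idx.obj (M.idx.obj (op ⦋0⦌)) ⟶ (⟨PUnit.unit⟩ : Pt)) :
    ((over ε w U) _⦋0⦌).opn ≤ (Opens.map (C.map (𝟙 (op ⦋0⦌)))).obj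
      (M.pre (op ⦋0⦌) (dom a (⟨⟨PUnit.unit⟩, U⟩ : Tot (pt S)) f₀)) :=
  Tot.le_map_id C fun y hy => by
    have h := ConcreteCategory.congr_hom (c.w (op ⦋0⦌)) y
    change a.map.app _ (M.map.app (op ⦋0⦌) y) ∈ U
    exact (h.trans rfl : a.map.app _ (M.map.app (op ⦋0⦌) y) = ε (op ⦋0⦌) y) ▸ hy

/-- The zero component of a family along a map. -/
noncomputable def zeroMap {F : Sh X} {F' : Sh C} (η : MMap M F F') (U : Opens S)
    (x : famGroup a F (⟨⟨PUnit.unit⟩, U⟩ : Tot (pt S))) :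
    F'.obj.obj (op ((over ε w U) _⦋0⦌)) :=
  res F' (Tot.mkHom C (𝟙 (op ⦋0⦌)) (le_dom_zero ε w c U (Discrete.eqToHom rfl)))
    (η.app (op ⦋0⦌) _ (x.1 (M.idx.obj (op ⦋0⦌)) (Discrete.eqToHom rfl)))

theorem toR_zero {F : Sh X} {F' : Sh C} (η : MMap M F F') (U : Opens S)
    (x : famGroup a F (⟨⟨PUnit.unit⟩, U⟩ : Tot (pt S))) :
    ((toR (c.map ((ev a F).comp η))).hom.app (op ⟨⟨PUnit.unit⟩, U⟩) x).1 (op ⦋0⦌) (𝟙 _) =
      zeroMap ε w c η U x := by
  change res F' _ (η.app (op ⦋0⦌) _ ((ev a F).app (M.idx.obj (op ⦋0⦌)) _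
    (res ((R a).obj F) _ (res ((R a).obj F) _ x)))) = _
  simp only [res_res]
  have hev : ∀ (V : Opens S)
      (ψ : (⟨a.idx.obj (M.idx.obj (op ⦋0⦌)), V⟩ : Tot (pt S)) ⟶ ⟨⟨PUnit.unit⟩, U⟩),
      (ev a F).app (M.idx.obj (op ⦋0⦌)) V (res ((R a).obj F) ψ x) =
        res F (Tot.mkHom X (M.idx.map (𝟙 (op ⦋0⦌)))
          (show a.pre (M.idx.obj (op ⦋0⦌)) V ≤ (Opens.map (X.map (M.idx.map (𝟙 (op ⦋0⦌))))).obj
              (dom a (⟨⟨PUnit.unit⟩, U⟩ : Tot (pt S)) (Discrete.eqToHom rfl)) from by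
            rw [M.idx.map_id]
            exact Tot.le_map_id X fun y hy => ψ.sub hy))
          (x.1 (M.idx.obj (op ⦋0⦌)) (Discrete.eqToHom rfl)) := fun V ψ => by
    refine (res_res F _ _ _).trans ?_
    exact fam_congr x.1 (Subsingleton.elim _ _) _ _
      ((Category.id_comp _).trans (M.idx.map_id _).symm)
  refine (congrArg (fun q => res F' _ (η.app (op ⦋0⦌) _ q)) (hev _ _)).trans ?_
  refine Eq.trans (congrArg _ (η.natural (𝟙 (op ⦋0⦌)) _ _ _ _)) ?_
  refine (res_res F' _ _ _).trans ?_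
  exact res_eq F' (Category.comp_id _) _

/-- The criterion for transfer of descent in a degree. -/
theorem quasiIsoAt_tr_of_universal [IsIso c.t] (ha : Desc a) (N : ℕ)
    (h : ∀ F : Sh X, Injective F → ∃ (F' : Sh C) (η : MMap M F F'), η.IsU ∧ PDeg ε w N F' ∧
      ∀ U : Opens S, Function.Injective (zeroMap ε w c η U) ∧
        ∀ z, cod (over ε w U) F'.obj 0 z = 0 → ∃ x, zeroMap ε w c η U x = z)
    (G : CochainComplex (Sh (pt S)) ℤ) (b : ℤ)
    [G.IsStrictlyGE b] (J' : CochainComplex (Sh C) ℤ) (b' : ℤ) [J'.IsStrictlyGE b']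
    (hJ' : ∀ n, Injective (J'.X n)) (s' : (cx (L (augMap ε w))).obj G ⟶ J') (hs' : QuasiIso s')
    (n : ℤ) (hn : n + 2 ≤ min b b' + N) : QuasiIsoAt (tr (adj (augMap ε w)) s') n := by
  refine quasiIsoAt_tr_of_map c ha G b J' b' hJ' s' hs' N (fun F hF => ?_) (fun F hF => ?_) n hn
  · obtain ⟨F', η, hη, hP, -⟩ := h F hF
    obtain ⟨e, he⟩ := (unit_isU M F F').2 η
    have := (unit_isU M F).isIso hη e he
    exact hP.of_iso ε w (asIso e).symm
  · obtain ⟨F', η, hη, hP, hz⟩ := h F hF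
    obtain ⟨e, he⟩ := (unit_isU M F F').2 η
    have := (unit_isU M F).isIso hη e he
    have hcomp : cmpApp ε w c F ≫ (R (augMap ε w)).map e = toR (c.map ((ev a F).comp η)) := by
      rw [← he, ← MMap.comp_push, c.map_push]
      exact (mmapEquiv_push _ e).symm
    have : IsIso (toR (c.map ((ev a F).comp η))) := by
      have hb : ∀ q, Function.Bijective ((toR (c.map ((ev a F).comp η))).hom.app q) := by
        intro q
        obtain ⟨⟨⟨⟨⟩⟩, U⟩⟩ := q
        refine ⟨(injective_iff_map_eq_zero _).2 fun x hx => (hz U).1 ?_, fun y => ?_⟩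
        · refine ((toR_zero ε w c η U x).symm.trans (congrArg
            (fun q : famGroup (augMap ε w) F' _ => q.1 (op ⦋0⦌) (𝟙 _)) hx)).trans ?_
          symm
          change res F' _ (η.app (op ⦋0⦌) _ (0 : F.obj.obj _)) = 0
          rw [map_zero, map_zero]
        · obtain ⟨x, hx⟩ := (hz U).2 _ (cod_family ε (y : famGroup (augMap ε w) F' _))
          let tx : famGroup (augMap ε w) F' (⟨⟨PUnit.unit⟩, U⟩ : Tot (pt S)) :=
            (toR (c.map ((ev a F).comp η))).hom.app _ x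
          let y' : famGroup (augMap ε w) F' (⟨⟨PUnit.unit⟩, U⟩ : Tot (pt S)) := y
          refine ⟨x, (sub_eq_zero.1 (family_eq_zero (ε := ε) (tx - y') ?_) : tx = y')⟩
          change tx.1 (op ⦋0⦌) (𝟙 _) - y'.1 (op ⦋0⦌) (𝟙 _) = 0
          exact sub_eq_zero.2 ((toR_zero ε w c η U x).trans hx)
      have : ∀ q, IsIso ((toR (c.map ((ev a F).comp η))).hom.app q) := fun q =>
        (ConcreteCategory.isIso_iff_bijective _).2 (hb q)
      have : IsIso (toR (c.map ((ev a F).comp η))).hom := NatIso.isIso_of_isIso_app _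
      have : IsIso ((sheafToPresheaf _ _).map (toR (c.map ((ev a F).comp η)))) := this
      exact isIso_of_reflects_iso _ (sheafToPresheaf _ _)
    rw [← hcomp] at this
    exact IsIso.of_isIso_comp_right _ ((R (augMap ε w)).map e)

end criterion

end Groth.Agent.Desc45
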