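import Mathlib.Topology.Sheaves.SheafCondition.Sites
import Mathlib.CategoryTheory.Sites.Continuous
import Mathlib.Algebra.Category.Grp.FilteredColimits
import Mathlib.Algebra.Category.Grp.Limits
import Mathlib.Algebra.Category.Grp.AB
import Mathlib.CategoryTheory.Sites.Abelian
import Mathlib.CategoryTheory.Abelian.GrothendieckCategory.EnoughInjectives
import Mathlib.CategoryTheory.Abelian.GrothendieckAxioms.Sheaf

/-!
The total site of a diagram of topological spaces.
-/

set_option autoImplicit false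
set_option linter.unusedVariables false
universe u w

open CategoryTheory CategoryTheory.Limits Opposite TopologicalSpace

namespace Groth.Agent.Desc45

variable {I : Type} [SmallCategory I]

/-- An open subset of one of the spaces of the diagram. -/
structure Tot (X : I ⥤ TopCat.{u}) : Type u where
  base : I
  opn : Opens (X.obj base)

namespace Tot

variable {X : I ⥤ TopCat.{u}}

/-- Morphisms: a morphism of the index category mapping one open into the other. -/
@[ext]
structure Hom (a b : Tot X) : Type u where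
  base : a.base ⟶ b.base
  sub : a.opn ≤ (Opens.map (X.map base)).obj b.opn

theorem le_id (a : Tot X) : a.opn ≤ (Opens.map (X.map (𝟙 a.base))).obj a.opn := by
  rw [X.map_id]
  exact le_rfl

theorem le_comp {a b c : Tot X} (f : Hom a b) (g : Hom b c) :
    a.opn ≤ (Opens.map (X.map (f.base ≫ g.base))).obj c.opn := by
  rw [X.map_comp]
  exact fun x hx => g.sub (f.sub hx)

instance : SmallCategory (Tot X) where
  Hom := Hom
  id a := ⟨𝟙 _, le_id a⟩
  comp f g := ⟨f.base ≫ g.base, le_comp f g⟩
  id_comp f := Hom.ext (Category.id_comp _)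
  comp_id f := Hom.ext (Category.comp_id _)
  assoc f g h := Hom.ext (Category.assoc _ _ _)

@[ext]
theorem hom_ext {a b : Tot X} {f g : a ⟶ b} (h : f.base = g.base) : f = g := Hom.ext h

@[simp] theorem id_base (a : Tot X) : Hom.base (𝟙 a) = 𝟙 a.base := rfl
@[simp] theorem comp_base {a b c : Tot X} (f : a ⟶ b) (g : b ⟶ c) :
    Hom.base (f ≫ g) = f.base ≫ g.base := rfl

variable (X)

/-- A morphism from its components. -/
abbrev mkHom {i j : I} {U : Opens (X.obj i)} {V : Opens (X.obj j)} (f : i ⟶ j)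
    (h : U ≤ (Opens.map (X.map f)).obj V) : (⟨i, U⟩ : Tot X) ⟶ ⟨j, V⟩ := ⟨f, h⟩

theorem le_map_id {i : I} {U V : Opens (X.obj i)} (h : U ≤ V) :
    U ≤ (Opens.map (X.map (𝟙 i))).obj V := by
  rw [X.map_id]
  exact h

/-- The inclusion of the opens of one space. -/
def ι (i : I) : Opens (X.obj i) ⥤ Tot X where
  obj U := ⟨i, U⟩
  map f := mkHom X (𝟙 i) (le_map_id X f.le)
  map_id _ := hom_ext rfl
  map_comp _ _ := hom_ext (Category.comp_id _).symm

/-- The topology generated by the open coverings in the spaces. -/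
def top : GrothendieckTopology (Tot X) where
  sieves a := {S | ∀ x ∈ a.opn, ∃ (V : Opens (X.obj a.base)) (h : V ≤ a.opn),
    S ((ι X a.base).map (homOfLE h) : (ι X a.base).obj V ⟶ (ι X a.base).obj a.opn) ∧ x ∈ V}
  top_mem' a x hx := ⟨a.opn, le_rfl, trivial, hx⟩
  pullback_stable' a b S φ hS x hx := by
    obtain ⟨V, h, hV, hxV⟩ := hS _ (φ.sub hx)
    refine ⟨b.opn ⊓ (Opens.map (X.map φ.base)).obj V, inf_le_left, ?_, hx, hxV⟩
    let k : (ι X b.base).obj (b.opn ⊓ (Opens.map (X.map φ.base)).obj V) ⟶ (ι X a.base).obj V :=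
      mkHom X φ.base inf_le_right
    have := S.downward_closed hV k
    exact Eq.mp (congrArg (fun q => S q) (hom_ext ((Category.comp_id φ.base).trans
      (Category.id_comp φ.base).symm))) this
  transitive' a S hS R hR x hx := by
    obtain ⟨V, h, hV, hxV⟩ := hS x hx
    obtain ⟨W, h', hW, hxW⟩ := hR hV x hxV
    refine ⟨W, h'.trans h, ?_, hxW⟩
    have hW' : R ((ι X a.base).map (homOfLE h') ≫ (ι X a.base).map (homOfLE h)) := hW
    exact Eq.mp (congrArg (fun q => R q) (((ι X a.base).map_comp _ _).symm)) hW'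

theorem mem_top_iff {a : Tot X} (S : Sieve a) :
    S ∈ top X a ↔ Sieve.functorPullback (ι X a.base) (X := a.opn) S ∈
      Opens.grothendieckTopology (X.obj a.base) a.opn :=
  ⟨fun h x hx => let ⟨V, hV, hS, hx'⟩ := h x hx; ⟨V, homOfLE hV, hS, hx'⟩,
    fun h x hx => let ⟨V, f, hS, hx'⟩ := h x hx; ⟨V, f.le, hS, hx'⟩⟩

theorem pushforward_mem {i : I} {U : Opens (X.obj i)} {R : Sieve U}
    (hR : R ∈ Opens.grothendieckTopology (X.obj i) U) :
    R.functorPushforward (ι X i) ∈ top X ((ι X i).obj U) :=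
  fun x hx => let ⟨V, f, hS, hx'⟩ := hR x hx
    ⟨V, f.le, Sieve.image_mem_functorPushforward _ R hS, hx'⟩

theorem compatiblePreserving_ι (i : I) : CompatiblePreserving.{w} (top X) (ι X i) := by
  constructor
  intro ℱ U T x hx U₁ U₂ W f₁ f₂ g₁ g₂ hg₁ hg₂ e
  have eb : f₁.base = f₂.base :=
    (Category.comp_id _).symm.trans ((congrArg Hom.base e).trans (Category.comp_id _))
  let k : W ⟶ (ι X i).obj (U₁ ⊓ U₂) := mkHom X f₁.base fun y hy => ⟨f₁.sub hy, by
    have := f₂.sub hy
    rw [← eb] at this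
    exact this⟩
  have h₁ : f₁ = k ≫ (ι X i).map (homOfLE inf_le_left) := hom_ext (Category.comp_id _).symm
  have h₂ : f₂ = k ≫ (ι X i).map (homOfLE inf_le_right) :=
    hom_ext (eb.symm.trans (Category.comp_id _).symm)
  rw [h₁, h₂, op_comp, op_comp, Functor.map_comp_apply, Functor.map_comp_apply]
  exact congrArg _ (hx (homOfLE inf_le_left) (homOfLE inf_le_right) hg₁ hg₂ (Subsingleton.elim _ _))

instance isContinuous_ι (i : I) :
    (ι X i).IsContinuous (Opens.grothendieckTopology (X.obj i)) (top X) :=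
  Functor.isContinuous_of_coverPreserving (compatiblePreserving_ι X i)
    ⟨fun hR => pushforward_mem X hR⟩

section sheaf

variable {X} {P : (Tot X)ᵒᵖ ⥤ Type w}

theorem isSheaf_of_fibres
    (h : ∀ i, Presieve.IsSheaf (Opens.grothendieckTopology (X.obj i)) ((ι X i).op ⋙ P)) :
    Presieve.IsSheaf (top X) P := by
  intro a S hS x hx
  have hR := (mem_top_iff X S).1 hS
  obtain ⟨s, hs, hu⟩ := h a.base _ hR (fun V r hr => x ((ι X a.base).map r) hr)
    (fun Y₁ Y₂ Z g₁ g₂ f₁ f₂ hf₁ hf₂ e => hx ((ι X a.base).map g₁) ((ι X a.base).map g₂) hf₁ hf₂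
      (((ι X a.base).map_comp g₁ f₁).symm.trans ((congrArg (ι X a.base).map e).trans
        ((ι X a.base).map_comp g₂ f₂))))
  refine ⟨s, fun b φ hφ => ?_, fun t ht => hu t fun V r hr => ht _ hr⟩
  have hM : Sieve.functorPullback (ι X b.base) (X := b.opn) (Sieve.pullback φ
      (Sieve.functorPushforward (ι X a.base) (Sieve.functorPullback (ι X a.base) (X := a.opn) S))) ∈
      Opens.grothendieckTopology (X.obj b.base) b.opn :=
    (mem_top_iff X _).1 ((top X).pullback_stable φ (pushforward_mem X hR))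
  refine ((h b.base) _ hM).isSeparatedFor.ext fun W m hm => ?_
  obtain ⟨V, r, k, hr, e⟩ := hm
  change P.map ((ι X b.base).map m).op (P.map φ.op s) = P.map ((ι X b.base).map m).op (x φ hφ)
  have h1 : P.map ((ι X b.base).map m).op (P.map φ.op s) =
      P.map k.op (P.map ((ι X a.base).map r).op s) := by
    exact (Functor.map_comp_apply P φ.op ((ι X b.base).map m).op s).symm.trans
      ((congrArg (fun q => P.map q.op s) e).trans
        (Functor.map_comp_apply P ((ι X a.base).map r).op k.op s))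
  rw [h1]
  exact (congrArg _ (hs r hr)).trans (hx k ((ι X b.base).map m) hr hφ e.symm)

theorem isSheaf_iff {A : Type*} [Category A] (Q : (Tot X)ᵒᵖ ⥤ A) :
    Presheaf.IsSheaf (top X) Q ↔
      ∀ i, Presheaf.IsSheaf (Opens.grothendieckTopology (X.obj i)) ((ι X i).op ⋙ Q) :=
  ⟨fun h i => (ι X i).op_comp_isSheaf_of_isSheaf (Opens.grothendieckTopology (X.obj i)) (top X) Q h,
    fun h E => isSheaf_of_fibres fun i => h i E⟩

theorem isContinuous_of_fibres {D : Type u} [SmallCategory D] (K : GrothendieckTopology D)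
    (v : Tot X ⥤ D)
    (h : ∀ i, (ι X i ⋙ v).IsContinuous (Opens.grothendieckTopology (X.obj i)) K) :
    v.IsContinuous (top X) K :=
  ⟨fun G => isSheaf_of_fibres fun i =>
    (ι X i ⋙ v).op_comp_isSheaf_of_types (Opens.grothendieckTopology (X.obj i)) K G⟩

end sheaf

end Tot

/-- Abelian sheaves on the total site. -/
abbrev Sh (X : I ⥤ TopCat.{u}) : Type (u + 1) := Sheaf (Tot.top X) AddCommGrpCat.{u}

noncomputable instance (X : I ⥤ TopCat.{u}) : EnoughInjectives (Sh X) :=
  IsGrothendieckAbelian.enoughInjectives.{u}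

end Groth.Agent.Desc45
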